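import Cfsg.Agent.ZJ.Constrained
import Cfsg.Agent.ZJ.ControlMain
import Cfsg.Agent.ZJ.QdSection
import Cfsg.Agent.Solvable.Fitting
import Cfsg.Agent.DGroup.Fusion
import Cfsg.Agent.SL2C.Basic

/-!
# `ZJ` in groups of odd order, and the order of `Qd(p)`
-/

set_option autoImplicit false
set_option linter.style.haveILetI false
set_option linter.unusedSectionVars false

namespace CfsgLib.GW.CaseI

open Subgroup CfsgLib.ZJ

universe u

variable {p : ℕ} [Fact p.Prime]

theorem two_dvd_card_qd (hp : p ≠ 2) : 8 ∣ Nat.card (Cfsg.qd p) := by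
  let φ : Matrix.SpecialLinearGroup (Fin 2) (ZMod p) →* Cfsg.qd p :=
    { toFun := fun A => ⟨affMat 0 0 A, affMat_mem_qd 0 0 A⟩
      map_one' := Subtype.ext (by
        apply Matrix.SpecialLinearGroup.ext
        intro i j
        fin_cases i <;> fin_cases j <;> simp [affMat])
      map_mul' := fun A B => Subtype.ext (by simp [affMat_mul]) }
  have hφ : Function.Injective φ := by
    intro A B h
    have h' : affMat 0 0 A = affMat 0 0 B := congrArg Subtype.val h
    apply Matrix.SpecialLinearGroup.ext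
    intro i j
    have := congrArg (fun M : Matrix.SpecialLinearGroup (Fin 3) (ZMod p) =>
      (M : Matrix (Fin 3) (Fin 3) (ZMod p)) i.castSucc j.castSucc) h'
    fin_cases i <;> fin_cases j <;> simpa [affMat] using this
  have h1 := Subgroup.card_dvd_of_injective φ hφ
  refine Dvd.dvd.trans ?_ h1
  rw [CfsgLib.SL2C.card_SL2_mul, ZMod.card p]
  refine Dvd.dvd.mul_left ?_ p
  obtain ⟨k, hk⟩ := (Fact.out : p.Prime).odd_of_ne_two hp
  subst hk
  obtain ⟨j, hj⟩ := Nat.even_mul_succ_self k
  refine ⟨j, ?_⟩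
  rw [show (2 * k + 1) ^ 2 = 4 * (k * (k + 1)) + 1 by ring, hj]
  omega

/-- `Qd(p)` is not involved in a group whose order is not divisible by 8. -/
theorem not_involves_qd (hp : p ≠ 2) {G : Type u} [Group G] [Finite G] (h : ¬ 8 ∣ Nat.card G) :
    ¬ Cfsg.Involves ↥(Cfsg.qd p) G := by
  rintro ⟨K, R, _, ⟨e⟩⟩
  refine h (Dvd.dvd.trans (two_dvd_card_qd hp) ?_)
  rw [← Nat.card_congr e.toEquiv]
  exact (card_quotient_dvd_card _).trans (card_subgroup_dvd_card K)

theorem centerThompsonAOf_le {G : Type u} [Group G] [Finite G] (P : Subgroup G) :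
    Cfsg.centerThompsonAOf P ≤ P := by
  rw [← famCenter_abelian_eq]
  exact famCenter_le admissible_abelian P

theorem normalizer_le_centerThompsonAOf {G : Type u} [Group G] [Finite G] (P : Subgroup G) :
    normalizer (P : Set G) ≤ normalizer (Cfsg.centerThompsonAOf P : Set G) := by
  rw [← famCenter_abelian_eq]
  exact normalizer_le_famCenter admissible_abelian P

/-- The centre of `P` lies in `ZJ(P)`. -/
theorem mem_centerThompsonAOf {G : Type u} [Group G] [Finite G] {P : Subgroup G} {z : G}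
    (hz : z ∈ P) (hzc : ∀ x ∈ P, Commute z x) : z ∈ Cfsg.centerThompsonAOf P := by
  rw [← famCenter_abelian_eq]
  refine mem_sInf.2 fun A hA => ?_
  obtain ⟨hAc, hAP, hmax⟩ := hA
  by_contra hzA
  have hcomm : ∀ x ∈ A ⊔ zpowers z, ∀ y ∈ A ⊔ zpowers z, Commute x y := by
    have hle : A ⊔ zpowers z ≤ centralizer ((A ⊔ zpowers z : Subgroup G) : Set G) := by
      rw [sup_eq_closure, centralizer_closure, closure_le]
      rintro x (hx | hx) <;> rw [SetLike.mem_coe, mem_centralizer_iff] <;> rintro y (hy | hy)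
      · exact congrArg Subtype.val (hAc.is_comm.comm ⟨y, hy⟩ ⟨x, hx⟩)
      · obtain ⟨i, rfl⟩ := mem_zpowers_iff.1 hy
        exact ((hzc x (hAP hx)).zpow_left i).eq
      · obtain ⟨i, rfl⟩ := mem_zpowers_iff.1 hx
        exact ((hzc y (hAP hy)).zpow_left i).eq.symm
      · obtain ⟨i, rfl⟩ := mem_zpowers_iff.1 hx
        obtain ⟨j, rfl⟩ := mem_zpowers_iff.1 hy
        exact ((Commute.refl z).zpow_zpow j i).eq
    exact fun x hx y hy => (mem_centralizer_iff.1 (hle hy) x hx)
  have hc' : IsMulCommutative ↥(A ⊔ zpowers z) :=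
    ⟨⟨fun x y => Subtype.ext (hcomm x x.2 y y.2)⟩⟩
  have hcard := hmax (A ⊔ zpowers z) hc' (sup_le hAP (zpowers_le.2 hz))
  exact hzA ((eq_of_le_of_card_ge (le_sup_left : A ≤ A ⊔ zpowers z) hcard).ge
    (mem_sup_right (mem_zpowers z)))

/-- Glauberman's `ZJ`-theorem for groups of odd order. -/
theorem sup_normalizer_zj {R : Type u} [Group R] [Finite R] (hodd : Odd (Nat.card R)) (hp : p ≠ 2)
    (S : Sylow p R) :
    Cfsg.pPrimeCore p R ⊔ normalizer (Cfsg.centerThompsonAOf (S : Subgroup R) : Set R) = ⊤ := by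
  set N := Cfsg.pPrimeCore p R with hN
  haveI : N.Normal := (CfsgLib.Solvable.pPrimeCore_spec (G := R) p).1
  haveI : Group.IsSolvable R := by
    have := CfsgLib.DGroup.solvable_of_odd (⊤ : Subgroup R) (by rwa [card_top])
    exact Group.isSolvable_of_isSolvable_injective (f := (topEquiv (G := R)).symm.toMonoidHom)
      (topEquiv (G := R)).symm.injective
  have hcop : (Nat.card N).Coprime p := Solvable.coprime_card_pPrimeCore p
  set π := QuotientGroup.mk' N with hπ
  have hinj : ∀ x ∈ (S : Subgroup R), π x = 1 → x = 1 := fun x hx h =>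
    mem_bot.mp (isPGroup_inf_coprime S.2 hcop ▸
      (⟨hx, (QuotientGroup.eq_one_iff x).mp h⟩ : x ∈ (S : Subgroup R) ⊓ N))
  set Sb := S.mapSurjective (f := π) (QuotientGroup.mk'_surjective N) with hSb
  have hq8 : ¬ 8 ∣ Nat.card (R ⧸ N) := fun h => by
    have := hodd.of_dvd_nat (h.trans (card_quotient_dvd_card N))
    exact absurd this (by decide)
  have h1 : (famCenter (fun A : Subgroup (R ⧸ N) => IsMulCommutative A) (Sb : Subgroup (R ⧸ N))).Normal :=
    famCenter_normal hp admissible_abelian Sb _ (stronglyClosed_self Sb)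
      (stableNormal_of_free hp (not_involves_qd hp hq8))
      (CfsgLib.Fitting.centralizer_pCore_le (CfsgLib.Fitting.pPrimeCore_quotient_eq_bot p))
  rw [famCenter_abelian_eq, show (Sb : Subgroup (R ⧸ N)) = (S : Subgroup R).map π from rfl,
    centerThompsonAOf_map π _ hinj] at h1
  set Z := Cfsg.centerThompsonAOf (S : Subgroup R) with hZ
  have hcm : (Z.map π).comap π = Z ⊔ N := by rw [comap_map_eq, QuotientGroup.ker_mk']
  rw [eq_top_iff]
  intro g _
  have hg : g ∈ normalizer ((Z ⊔ N : Subgroup R) : Set R) := by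
    rw [← hcm, normalizer_eq_top (H := (Z.map π).comap π)]
    exact mem_top g
  obtain ⟨n, hn, hng⟩ := exists_mul_mem_normalizer (S.2.to_le (centerThompsonAOf_le _)) hcop hg
  rw [show g = n⁻¹ * (n * g) by group]
  exact mul_mem (mem_sup_left (inv_mem hn)) (mem_sup_right hng)

end CfsgLib.GW.CaseI
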