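import Cfsg.Agent.GW.CaseI.Fusion
import Cfsg.Agent.GW.CaseI.ZJLemma
import Cfsg.Agent.DGroup.Core
import Cfsg.Agent.Solvable.PGroupBasic

/-!
# Normalisers of `p`-subgroups of the centraliser, `p`-fusion, and fusion in `C(d)`
-/

set_option autoImplicit false
set_option linter.style.haveILetI false
set_option linter.unusedSectionVars false

namespace CfsgLib.GW.CaseI

open Subgroup
open CfsgLib.NormCyclic (Inv)
open CfsgLib.DGroup (coreIn Op conj_mem conj_mem' odd_orderOf eq_one_of_inv_eq)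
open scoped CfsgLib.Functor

universe u

variable {G : Type u} [Group G] [Finite G]

theorem mem_of_pow_prime_pow {p : ℕ} {x : G} (hp : p.Prime) (hp2 : p ≠ 2)
    (h : ∃ k, x ^ p ^ k = 1) : Odd (orderOf x) := by
  obtain ⟨k, hk⟩ := h
  exact (Odd.pow (hp.odd_of_ne_two hp2)).of_dvd_nat (orderOf_dvd_of_pow_eq_one hk)

theorem exists_pow_of_isPGroup {p : ℕ} {P : Subgroup G} (hP : IsPGroup p P) {x : G} (hx : x ∈ P) :
    ∃ k, x ^ p ^ k = 1 := by
  obtain ⟨k, hk⟩ := hP ⟨x, hx⟩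
  exact ⟨k, congrArg Subtype.val hk⟩

/-- A maximal subgroup `M = R V` containing `C(a)`. -/
structure Over (C : Ctx G) (M R : Subgroup G) : Prop where
  H_le : C.H ≤ M
  ne_top : M ≠ ⊤
  max : ∀ K : Subgroup G, M ≤ K → K ≠ ⊤ → K = M
  le : R ≤ M
  norm : M ≤ normalizer (R : Set G)
  odd : Odd (Nat.card R)
  mem_of_odd : ∀ x ∈ M, Odd (orderOf x) → x ∈ R
  decomp : ∀ m ∈ M, ∃ r ∈ R, ∃ v ∈ C.V, m = r * v

namespace Ctx

variable (C : Ctx G)
include C

theorem over_H (hmax : IsCoatom C.H) : Over C C.H C.U where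
  H_le := le_rfl
  ne_top := C.H_ne_top
  max K h hK := ((hmax.le_iff).1 h).resolve_left hK
  le := C.U_le_H
  norm := C.H_le_normalizer_U
  odd := C.odd_U
  mem_of_odd _ hx ho := C.mem_U_of_odd hx ho
  decomp _ hm := C.exists_mul_V hm

theorem normalizer_ne_top {X : Subgroup G} (hX : X ≠ ⊥) (hX' : X ≠ ⊤) :
    normalizer (X : Set G) ≠ ⊤ := fun h => by
  haveI := C.simple
  rcases (normalizer_eq_top_iff.1 h).eq_bot_or_eq_top with h' | h'
  exacts [hX h', hX' h']

theorem centralizer_singleton_ne_top {x : G} (hx : x ≠ 1) : centralizer ({x} : Set G) ≠ ⊤ := by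
  intro h
  haveI := C.simple
  have hc : x ∈ center G := mem_center_iff.2 fun g =>
    mem_centralizer_singleton_iff.1 (h ▸ mem_top g)
  rcases (show (center G).Normal from inferInstance).eq_bot_or_eq_top with h' | h'
  · exact hx (mem_bot.1 (h' ▸ hc))
  · exact C.na ⟨⟨fun a b => (mem_center_iff.1 (h' ▸ mem_top a) b).symm⟩⟩

end Ctx

namespace Over

variable {C : Ctx G} {M R : Subgroup G} (hM : Over C M R)
include hM

theorem V_le : C.V ≤ M := C.V_le_H.trans hM.H_le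

theorem exists_conj {v : G} (hv : Inv v) (hvM : v ∈ M) :
    ∃ r ∈ R, v = r * C.a * r⁻¹ ∨ v = r * C.b * r⁻¹ ∨ v = r * C.c * r⁻¹ := by
  haveI : Fact (Nat.Prime 2) := ⟨Nat.prime_two⟩
  obtain ⟨S, hS⟩ := C.exists_sylow_V
  let SM : Sylow 2 M := S.subtype (hS ▸ hM.V_le)
  obtain ⟨T, hT⟩ := (IsPGroup.of_card (p := 2) (n := 1) (by
    rw [Nat.card_zpowers, ← Subgroup.orderOf_coe, hv.orderOf, pow_one]) :
    IsPGroup 2 (zpowers (⟨v, hvM⟩ : M))).exists_le_sylow
  obtain ⟨g, hg⟩ := MulAction.exists_smul_eq M T SM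
  set w : G := ((g * ⟨v, hvM⟩ * g⁻¹ : M) : G) with hw
  have h : w ∈ C.V := by
    have h1 : g * ⟨v, hvM⟩ * g⁻¹ ∈ (SM : Subgroup M) := by
      rw [← hg]; exact ⟨⟨v, hvM⟩, hT (mem_zpowers _), rfl⟩
    exact hS ▸ h1
  obtain ⟨r, hr, x, hx, hgi⟩ := hM.decomp _ (inv_mem g.2)
  have hconj : v = r * w * r⁻¹ := by
    calc v = (g : G)⁻¹ * w * (g : G)⁻¹⁻¹ := by
          simp only [hw, Subgroup.coe_mul, InvMemClass.coe_inv]; group
      _ = r * (x * w * x⁻¹) * r⁻¹ := by rw [hgi]; group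
      _ = _ := by rw [(C.commute_of_mem_V hx h).eq, mul_inv_cancel_right]
  rcases C.mem_V.1 h with e | e | e | e <;> rw [e] at hconj
  · exact absurd (hconj.trans (by group)) hv.2
  · exact ⟨r, hr, Or.inl hconj⟩
  · exact ⟨r, hr, Or.inr (Or.inl hconj)⟩
  · exact ⟨r, hr, Or.inr (Or.inr hconj)⟩

theorem eq_of_normal {X : Subgroup G} (hX : X ≠ ⊥) (hXM : X ≤ M)
    (hn : M ≤ normalizer (X : Set G)) : normalizer (X : Set G) = M :=
  hM.max _ hn (C.normalizer_ne_top hX fun h => hM.ne_top (top_le_iff.1 (h ▸ hXM)))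

/-- The normaliser lemma. -/
theorem normalizer_le {p : ℕ} [Fact p.Prime] {X : Subgroup G}
    (haX : ∀ x ∈ X, Commute x C.a) (hCX : centralizer (X : Set G) ≤ M)
    (hCa : ∀ y ∈ centralizer (X : Set G), (∃ k, y ^ p ^ k = 1) → Commute y C.a)
    (hP : ∃ P : Subgroup G, IsPGroup p P ∧ P ≤ R ∧ ¬ p ∣ P.relIndex R ∧ P ≤ normalizer (X : Set G))
    (hb : ∀ (w : G) (P : Subgroup G), (w = C.b ∨ w = C.c) → IsPGroup p P → P ≤ R →
      ¬ p ∣ P.relIndex R → ¬ ∀ x ∈ P, Commute x w) :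
    normalizer (X : Set G) ≤ M := by
  intro g hg
  set b' := g * C.a * g⁻¹ with hb'
  have hbI : Inv b' := C.ha.conj g
  have hbC : b' ∈ centralizer (X : Set G) := mem_centralizer_iff.2 fun x hx => by
    have h1 : Commute (g⁻¹ * x * g) C.a := haX _ (conj_mem' hg hx)
    have h2 := (Commute.conj_iff g).2 h1
    rw [show g * (g⁻¹ * x * g) * g⁻¹ = x by group] at h2
    exact h2.eq
  obtain ⟨r, hr, e⟩ := hM.exists_conj hbI (hCX hbC)
  rcases e with e | e
  · have h : r⁻¹ * g ∈ C.H := C.mem_H.2 (mul_inv_eq_iff_eq_mul.1 (by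
      rw [show r⁻¹ * g * C.a * (r⁻¹ * g)⁻¹ = r⁻¹ * (g * C.a * g⁻¹) * r by group, ← hb', e]
      group))
    have := mul_mem (hM.le hr) (hM.H_le h)
    rwa [mul_inv_cancel_left] at this
  exfalso
  set A := zpowers b' with hA
  set K := R ⊓ normalizer (X : Set G) with hK
  have hKo : Odd (Nat.card K) := hM.odd.of_dvd_nat (card_dvd_of_le inf_le_left)
  have hAn : A ≤ normalizer (K : Set G) := zpowers_le.2 (by
    refine mem_normalizer_iff.2 fun x => ?_
    rw [hK, mem_inf, mem_inf]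
    have h1 : b' ∈ normalizer (X : Set G) := centralizer_le_normalizer _ hbC
    have h2 : b' ∈ normalizer (R : Set G) := hM.norm (hCX hbC)
    refine and_congr (mem_normalizer_iff.1 h2 x) ⟨fun hx => mul_mem (mul_mem h1 hx) (inv_mem h1),
      fun hx => ?_⟩
    have := mul_mem (mul_mem (inv_mem h1) hx) h1
    rwa [show b'⁻¹ * (b' * x * b'⁻¹) * b' = x by group] at this)
  have hcop : (Nat.card A).Coprime (Nat.card K) := by
    rw [hA, Nat.card_zpowers, hbI.orderOf]
    exact Nat.coprime_two_left.2 hKo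
  obtain ⟨S, hS⟩ := CfsgLib.CoprimeAct.exists_invariant_sylow (K := K) hAn hcop
    (Or.inl (Group.isSolvable_of_comm fun x y => by
      obtain ⟨i, hi⟩ := mem_zpowers_iff.1 x.2
      obtain ⟨j, hj⟩ := mem_zpowers_iff.1 y.2
      exact Subtype.ext (by simp only [Subgroup.coe_mul, ← hi, ← hj, ← zpow_add, add_comm]))) p
  set P' := (S : Subgroup K).map K.subtype with hP'
  have hP'K : P' ≤ K := map_subtype_le _
  have hP'p : IsPGroup p P' := S.2.map _
  have hP'i : ¬ p ∣ P'.relIndex R := by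
    obtain ⟨P, hPp, hPR, hPi, hPX⟩ := hP
    have hle : Nat.card P ∣ Nat.card P' := by
      have hPK : P ≤ K := le_inf hPR hPX
      obtain ⟨T, hT⟩ := (hPp.comap_subtype (K := K)).exists_le_sylow
      rw [← Nat.card_congr (subgroupOfEquivOfLe hPK).toEquiv, hP',
        card_map_of_injective K.subtype_injective]
      exact (card_dvd_of_le hT).trans
        (by rw [T.card_eq_multiplicity, S.card_eq_multiplicity])
    intro hd
    refine hPi (hd.trans ?_)
    have e1 := card_mul_index (P.subgroupOf R)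
    have e2 := card_mul_index (P'.subgroupOf R)
    rw [Nat.card_congr (subgroupOfEquivOfLe hPR).toEquiv] at e1
    rw [Nat.card_congr (subgroupOfEquivOfLe (hP'K.trans inf_le_left)).toEquiv] at e2
    obtain ⟨m, hm⟩ := hle
    refine ⟨m, Nat.eq_of_mul_eq_mul_left (Nat.card_pos (α := P)) ?_⟩
    show Nat.card P * (P.subgroupOf R).index = Nat.card P * ((P'.subgroupOf R).index * m)
    rw [e1, ← e2, hm]; ring
  have hcomm : ∀ x ∈ P', Commute x b' := by
    intro x hx
    have hbP : b' ∈ normalizer (P' : Set G) := hS (mem_zpowers b')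
    set d := b' * x * b'⁻¹ * x⁻¹ with hd
    have hdP : d ∈ P' := mul_mem (conj_mem hbP hx) (inv_mem hx)
    have hdC : d ∈ centralizer (X : Set G) := by
      have hx' : x ∈ normalizer (X : Set G) := (hP'K hx).2
      refine mem_centralizer_iff.2 fun w hw => ?_
      have hw' : x⁻¹ * w * x ∈ X := conj_mem' hx' hw
      have h1 : Commute b' w := (mem_centralizer_iff.1 hbC w hw).symm
      have h2 : Commute b' (x⁻¹ * w * x) := (mem_centralizer_iff.1 hbC _ hw').symm
      have h3 : Commute (x * b'⁻¹ * x⁻¹) w := by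
        have := (Commute.conj_iff x).2 h2.inv_left
        rwa [show x * (x⁻¹ * w * x) * x⁻¹ = w by group] at this
      have h4 := (h1.mul_left h3).eq.symm
      rwa [show b' * (x * b'⁻¹ * x⁻¹) = d by rw [hd]; group] at h4
    have hdb : Commute d b' := by
      have h1 : g⁻¹ * d * g ∈ centralizer (X : Set G) := mem_centralizer_iff.2 fun w hw => by
        have h2 : Commute (g * w * g⁻¹) d := mem_centralizer_iff.1 hdC _ (conj_mem hg hw)
        have := (Commute.conj_iff g⁻¹).2 h2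
        simpa [mul_assoc] using this.eq
      obtain ⟨k, hk⟩ := exists_pow_of_isPGroup hP'p hdP
      have h3 := hCa _ h1 ⟨k, by
        have := conj_pow (i := p ^ k) (a := g⁻¹) (b := d)
        rw [inv_inv] at this
        rw [this, hk]; group⟩
      have := (Commute.conj_iff g).2 h3
      rwa [show g * (g⁻¹ * d * g) * g⁻¹ = d by group] at this
    have hdd : d⁻¹ = d := by
      have h1 : b' * d * b'⁻¹ = d⁻¹ := by
        rw [hd, hbI.inv_eq]
        simp only [mul_inv_rev, inv_inv, hbI.inv_eq, mul_assoc, ← mul_assoc b' b', hbI.1, one_mul]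
      rw [← h1, ← hdb.eq, mul_inv_cancel_right]
    have := eq_one_of_inv_eq hdd (odd_orderOf hKo (hP'K hdP))
    exact (mul_inv_eq_iff_eq_mul.1 (mul_inv_eq_one.1 this)).symm
  -- conjugate back to `b` or to `a * b`
  have hrR : r⁻¹ ∈ normalizer (R : Set G) := le_normalizer (inv_mem hr)
  have hQ : P'.map (MulAut.conj r⁻¹).toMonoidHom ≤ R := by
    rintro _ ⟨x, hx, rfl⟩
    exact conj_mem hrR (hP'K hx).1
  have hQi : ¬ p ∣ (P'.map (MulAut.conj r⁻¹).toMonoidHom).relIndex R := by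
    have hR : R.map (MulAut.conj r⁻¹).toMonoidHom = R :=
      mem_normalizer_iff_map_conj_eq.1 hrR
    rw [← hR, relIndex_map_map_of_injective _ _ (MulAut.conj r⁻¹).injective]
    exact hP'i
  obtain ⟨w, hw, hbw⟩ : ∃ w, (w = C.b ∨ w = C.c) ∧ b' = r * w * r⁻¹ := by
    rcases e with e | e
    exacts [⟨_, Or.inl rfl, e⟩, ⟨_, Or.inr rfl, e⟩]
  refine hb w _ hw (hP'p.map _) hQ hQi ?_
  rintro _ ⟨x, hx, rfl⟩
  have := (Commute.conj_iff r⁻¹).2 (hcomm x hx)
  rw [hbw, show r⁻¹ * (r * w * r⁻¹) * r⁻¹⁻¹ = w by group] at this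
  exact this

end Over

namespace Ctx

variable (C : Ctx G)
include C

/-- The primes for which the normaliser lemma works. -/
def Good (p : ℕ) : Prop :=
  p.Prime ∧ p ≠ 2 ∧ p ∣ Nat.card C.U0 ∧ Op p C.H ≠ ⊥

theorem Op_le_U (p : ℕ) : Op p C.H ≤ C.U := CfsgLib.DGroup.Op_le p C.H

theorem Op_le_of_sylow {p : ℕ} [Fact p.Prime] {P : Subgroup G} (hP : IsPGroup p P) (hPU : P ≤ C.U)
    (hPi : ¬ p ∣ P.relIndex C.U) : Op p C.H ≤ P := by
  let S : Sylow p C.U := (hP.comap_subtype (K := C.U)).toSylow hPi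
  have h1 : IsPGroup p ((Op p C.H).subgroupOf C.U) :=
    (CfsgLib.DGroup.isPGroup_Op p C.H).comap_subtype
  haveI : ((Op p C.H).subgroupOf C.U).Normal := (normal_subgroupOf_iff_le_normalizer
    (C.Op_le_U p)).2 (C.U_le_H.trans (CfsgLib.DGroup.le_normalizer_Op p C.H))
  have h2 : ((Op p C.H).subgroupOf C.U) ⊔ (S : Subgroup C.U) = S :=
    S.3 (h1.to_sup_of_normal_left S.2) le_sup_right
  intro x hx
  have h3 : (⟨x, C.Op_le_U p hx⟩ : C.U) ∈ ((Op p C.H).subgroupOf C.U) ⊔ (S : Subgroup C.U) :=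
    mem_sup_left hx
  rw [h2] at h3
  exact h3

/-- A Sylow `p`-subgroup of `U` normalised by `V`, inside the normaliser of `ZJ`. -/
structure SylowU (p : ℕ) (P : Subgroup G) : Prop where
  isPGroup : IsPGroup p P
  le : P ≤ C.U
  index : ¬ p ∣ P.relIndex C.U
  V_le : C.V ≤ normalizer (P : Set G)

theorem exists_sylowU (p : ℕ) [Fact p.Prime] : ∃ P, C.SylowU p P := by
  obtain ⟨S, hS⟩ := CfsgLib.CoprimeAct.exists_invariant_sylow (A := C.V) (K := C.U)
    (C.V_le_H.trans C.H_le_normalizer_U) (by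
      rw [C.card_V]
      exact ((Nat.coprime_two_left.2 C.odd_U).pow_left 2 :))
    (Or.inl (Group.isSolvable_of_comm fun x y => Subtype.ext (C.commute_of_mem_V x.2 y.2))) p
  refine ⟨_, S.2.map _, map_subtype_le _, ?_, hS⟩
  rw [relIndex, subgroupOf, comap_map_eq_self_of_injective C.U.subtype_injective]
  exact S.not_dvd_index

theorem not_commute_sylow {p : ℕ} [Fact p.Prime] (hp : p ∣ Nat.card C.U0) {w : G} {P : Subgroup G}
    (hw : w = C.b ∨ w = C.c) (hP : IsPGroup p P) (hPU : P ≤ C.U) (hPi : ¬ p ∣ P.relIndex C.U) :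
    ¬ ∀ x ∈ P, Commute x w := by
  intro h
  refine not_dvd_invGen C.hb.1 C.odd_U C.b_norm_U hP hPU hPi (fun x hx => ?_) hp
  rcases hw with rfl | rfl
  · exact h x hx
  · have h1 := (C.commute_a (hPU hx)).mul_right (h x hx)
    rwa [c, ← mul_assoc, C.ha.1, one_mul] at h1

theorem normalizer_zj_le (hmax : IsCoatom C.H) {p : ℕ} [Fact p.Prime] (hp : C.Good p)
    {P : Subgroup G} (hP : C.SylowU p P) :
    normalizer (Cfsg.centerThompsonAOf P : Set G) ≤ C.H := by
  obtain ⟨-, hp2, hpU, hpO⟩ := hp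
  set X := Cfsg.centerThompsonAOf P with hX
  have hXP : X ≤ P := centerThompsonAOf_le P
  have hNX : normalizer (P : Set G) ≤ normalizer (X : Set G) := normalizer_le_centerThompsonAOf P
  set X0 := X ⊓ Op p C.H with hX0
  have hX01 : X0 ≠ ⊥ := by
    haveI := hP.isPGroup.isNilpotent
    have hle : Op p C.H ≤ P := C.Op_le_of_sylow hP.isPGroup hP.le hP.index
    haveI : ((Op p C.H).subgroupOf P).Normal := (normal_subgroupOf_iff_le_normalizer hle).2
      ((hP.le.trans C.U_le_H).trans (CfsgLib.DGroup.le_normalizer_Op p C.H))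
    have h1 := CfsgLib.PGroupBasic.inf_center_ne_bot ((Op p C.H).subgroupOf P) (fun h => hpO (by
      rwa [subgroupOf_eq_bot, disjoint_iff, inf_eq_left.2 hle] at h))
    intro h
    refine h1 ((eq_bot_iff_forall _).2 fun z hz => ?_)
    have : (z : G) ∈ X0 := ⟨mem_centerThompsonAOf z.2 fun x hx => by
      have := congrArg Subtype.val (mem_center_iff.1 hz.2 ⟨x, hx⟩)
      exact this.symm, hz.1⟩
    rw [h, mem_bot] at this
    exact Subtype.ext this
  have hV : C.V ≤ normalizer (X0 : Set G) := fun v hv => mem_normalizer_iff.2 fun x => by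
    rw [hX0, mem_inf, mem_inf]
    exact and_congr (mem_normalizer_iff.1 (hNX (hP.V_le hv)) x)
      (mem_normalizer_iff.1 (CfsgLib.DGroup.le_normalizer_Op p C.H (C.V_le_H hv)) x)
  have hU : C.U ≤ normalizer (X0 : Set G) := by
    let S : Sylow p C.U := (hP.isPGroup.comap_subtype (K := C.U)).toSylow hP.index
    have hmap : (S : Subgroup C.U).map C.U.subtype = P := map_subgroupOf_eq_of_le hP.le
    have hzj : X = (Cfsg.centerThompsonAOf (S : Subgroup C.U)).map C.U.subtype := by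
      rw [hX, ← hmap]
      exact CfsgLib.ZJ.centerThompsonAOf_map _ _ fun x _ h => C.U.subtype_injective (h.trans (map_one _).symm)
    haveI := (CfsgLib.Solvable.pPrimeCore_spec (G := C.U) p).1
    have hs := sup_normalizer_zj (p := p) C.odd_U hp2 S
    intro u hu
    have hn : normalizer (Cfsg.centerThompsonAOf (S : Subgroup C.U) : Set C.U) ≤
        normalizer ((Cfsg.pPrimeCore p C.U) : Set C.U) := by
      rw [normalizer_eq_top (H := Cfsg.pPrimeCore p C.U)]; exact le_top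
    obtain ⟨k, hk, n, hn', hkn⟩ := (CfsgLib.Solvable.mem_sup_of_le_normalizer hn).1
      (sup_comm (Cfsg.pPrimeCore p C.U) _ ▸ hs ▸ mem_top (⟨u, hu⟩ : C.U))
    have e : u = (k : G) * (n : G) := (congrArg Subtype.val hkn).symm
    rw [e]
    refine mul_mem ?_ ?_
    · refine mem_normalizer_iff.2 fun x => ?_
      have h1 : (k : G) ∈ normalizer (X : Set G) := by
        rw [hzj]; exact le_normalizer_map C.U.subtype ⟨k, hk, rfl⟩
      rw [hX0, mem_inf, mem_inf]
      exact and_congr (mem_normalizer_iff.1 h1 x) (mem_normalizer_iff.1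
        (CfsgLib.DGroup.le_normalizer_Op p C.H (C.U_le_H k.2)) x)
    · refine centralizer_le_normalizer _ (mem_centralizer_iff.2 fun x hx => ?_)
      obtain ⟨x', hx', rfl⟩ : x ∈ (Cfsg.pCore p C.U).map C.U.subtype := hx.2
      have hdis : Disjoint (Cfsg.pCore p C.U) (Cfsg.pPrimeCore p C.U) := disjoint_iff.2
        (CfsgLib.ZJ.isPGroup_inf_coprime (CfsgLib.Solvable.isPGroup_pCore p)
          (CfsgLib.Solvable.coprime_card_pPrimeCore p))
      exact congrArg Subtype.val (Subgroup.commute_of_normal_of_disjoint _ _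
        (CfsgLib.Solvable.pCore_spec (G := C.U) p).1 inferInstance hdis x' n hx' hn').eq
  have hHX0 : C.H ≤ normalizer (X0 : Set G) := fun h hh => by
    obtain ⟨u, hu, v, hv, rfl⟩ := C.exists_mul_V hh
    exact mul_mem (hU hu) (hV hv)
  have hM := C.over_H hmax
  have hNX0 := hM.eq_of_normal hX01 ((inf_le_left.trans hXP).trans (hP.le.trans C.U_le_H)) hHX0
  have hCX : centralizer (X : Set G) ≤ C.H := by
    rw [← hNX0]
    exact (centralizer_le (inf_le_left : X0 ≤ X)).trans (centralizer_le_normalizer _)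
  exact hM.normalizer_le (fun x hx => C.commute_a (hP.le (hXP hx))) hCX
    (fun y hy _ => C.mem_H.1 (hCX hy))
    ⟨P, hP.isPGroup, hP.le, hP.index, (le_normalizer (H := P)).trans hNX⟩
    (fun w Q hw hQ hQU hQi => C.not_commute_sylow hpU hw hQ hQU hQi)

theorem normalizer_sylowU_le (hmax : IsCoatom C.H) {p : ℕ} [Fact p.Prime] (hp : C.Good p)
    {P : Subgroup G} (hP : C.SylowU p P) : normalizer (P : Set G) ≤ C.H :=
  (normalizer_le_centerThompsonAOf P).trans (C.normalizer_zj_le hmax hp hP)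

theorem exists_sylow_eq (hmax : IsCoatom C.H) {p : ℕ} [Fact p.Prime] (hp : C.Good p)
    {P : Subgroup G} (hP : C.SylowU p P) : ∃ S : Sylow p G, (S : Subgroup G) = P := by
  obtain ⟨S, hS⟩ := hP.isPGroup.exists_le_sylow
  refine ⟨S, (eq_of_le_of_not_lt hS fun hlt => ?_).symm⟩
  obtain ⟨Z, hPZ, hZS, hZn⟩ := CfsgLib.Bender.GSide.exists_between hlt S.2
  have hZp := S.2.to_le hZS
  have hZU : Z ≤ C.U := fun z hz => C.mem_U_of_odd (C.normalizer_sylowU_le hmax hp hP (hZn hz))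
    (mem_of_pow_prime_pow hp.1 hp.2.1 (exists_pow_of_isPGroup hZp hz))
  let T : Sylow p C.U := (hP.isPGroup.comap_subtype (K := C.U)).toSylow hP.index
  have h := T.3 (hZp.comap_subtype (K := C.U)) (comap_mono hPZ.le)
  obtain ⟨z, hz, hzP⟩ := SetLike.exists_of_lt hPZ
  have hmem : (⟨z, hZU hz⟩ : C.U) ∈ Z.comap C.U.subtype := hz
  rw [h] at hmem
  exact hzP hmem

/-- `C(a)` controls `p`-fusion. -/
theorem exists_conj_of_fused (hmax : IsCoatom C.H) {p : ℕ} [Fact p.Prime] (hp : C.Good p)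
    {x y g : G} (hx : x ∈ C.U) (hy : y ∈ C.U) (hxp : ∃ k, x ^ p ^ k = 1)
    (hg : g * x * g⁻¹ = y) : ∃ h ∈ C.H, h * x * h⁻¹ = y := by
  obtain ⟨P, hP⟩ := C.exists_sylowU p
  obtain ⟨S, hS⟩ := C.exists_sylow_eq hmax hp hP
  let T : Sylow p C.U := (hP.isPGroup.comap_subtype (K := C.U)).toSylow hP.index
  have move : ∀ z ∈ C.U, (∃ k, z ^ p ^ k = 1) → ∃ u ∈ C.U, u * z * u⁻¹ ∈ P := by
    intro z hz hzp
    obtain ⟨k, hk⟩ := hzp
    obtain ⟨j, -, hj⟩ := (Nat.dvd_prime_pow (Fact.out : p.Prime)).1 (orderOf_dvd_of_pow_eq_one hk)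
    obtain ⟨T', hT'⟩ := (IsPGroup.of_card (p := p) (n := j) (by
      rw [Nat.card_zpowers, ← Subgroup.orderOf_coe]; exact hj) :
      IsPGroup p (zpowers (⟨z, hz⟩ : C.U))).exists_le_sylow
    obtain ⟨u, hu⟩ := MulAction.exists_smul_eq C.U T' T
    have hm : u * ⟨z, hz⟩ * u⁻¹ ∈ (T : Subgroup C.U) := by
      rw [← hu]; exact ⟨⟨z, hz⟩, hT' (mem_zpowers _), rfl⟩
    exact ⟨u, u.2, hm⟩
  have hyp : ∃ k, y ^ p ^ k = 1 := by
    obtain ⟨k, hk⟩ := hxp
    exact ⟨k, by rw [← hg, conj_pow, hk]; group⟩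
  obtain ⟨u, hu, hux⟩ := move x hx hxp
  obtain ⟨w, hw, hwy⟩ := move y hy hyp
  have hA : zpowers (u * x * u⁻¹) ≤ (S : Subgroup G) := zpowers_le.2 (hS ▸ hux)
  have hgA : (w * g * u⁻¹) ⋆ zpowers (u * x * u⁻¹) ≤ (S : Subgroup G) := by
    rw [MonoidHom.map_zpowers, zpowers_le, hS]
    show w * g * u⁻¹ * (u * x * u⁻¹) * (w * g * u⁻¹)⁻¹ ∈ P
    rw [show w * g * u⁻¹ * (u * x * u⁻¹) * (w * g * u⁻¹)⁻¹ = w * (g * x * g⁻¹) * w⁻¹ by group, hg]
    exact hwy
  obtain ⟨k, hk, hkA⟩ := CfsgLib.ZJ.control_of_free hp.2.1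
    (CfsgLib.ZJ.zkind_centerThompsonA hp.2.1) G (not_involves_qd hp.2.1 C.not_eight_dvd) S _
    (CfsgLib.ZJ.stronglyClosed_self S) _ _ hA hgA
  have hkH : k ∈ C.H := C.normalizer_zj_le hmax hp hP (hS ▸ hk)
  refine ⟨w⁻¹ * k * u, mul_mem (mul_mem (inv_mem (C.U_le_H hw)) hkH) (C.U_le_H hu), ?_⟩
  calc w⁻¹ * k * u * x * (w⁻¹ * k * u)⁻¹
      = w⁻¹ * (k * (u * x * u⁻¹) * k⁻¹) * w := by group
    _ = w⁻¹ * (w * g * u⁻¹ * (u * x * u⁻¹) * (w * g * u⁻¹)⁻¹) * w := by
        rw [hkA _ (mem_zpowers _)]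
    _ = y := by rw [← hg]; group

/-- The centraliser of a fixed `p`-element has fusion. -/
theorem fus_centralizer (hmax : IsCoatom C.H) {p : ℕ} [Fact p.Prime] (hp : C.Good p) {d : G}
    (hd : d ∈ C.D) (hdp : ∃ k, d ^ p ^ k = 1) : C.Fus (centralizer ({d} : Set G)) := by
  obtain ⟨hdU, hdb⟩ := C.mem_D.1 hd
  have hdc := C.commute_c hdU hdb
  set y := C.rho⁻¹ * d * C.rho with hy
  have ha' : C.rho⁻¹ * C.b * C.rho = C.a := by rw [← C.rho_a]; group
  have hb' : C.rho⁻¹ * C.c * C.rho = C.b := by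
    rw [c, ← C.rho_b]; group
  have h1 : Commute y C.a := by
    have := (Commute.conj_iff C.rho⁻¹).2 hdb
    rwa [inv_inv, ha'] at this
  have h2 : Commute y C.b := by
    have := (Commute.conj_iff C.rho⁻¹).2 hdc
    rwa [inv_inv, hb'] at this
  have ho : Odd (orderOf y) := by
    have := CfsgLib.Invol.orderOf_conj_eq C.rho⁻¹ d
    rw [inv_inv] at this
    rw [hy, this]; exact odd_orderOf C.odd_D hd
  obtain ⟨h, hh, hhd⟩ := C.exists_conj_of_fused hmax hp hdU (C.mem_U_of_odd (C.mem_H.2 h1) ho) hdp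
    (g := C.rho⁻¹) (by rw [inv_inv])
  refine ⟨C.rho * h, mem_centralizer_singleton_iff.2 (mul_inv_eq_iff_eq_mul.1 ?_), Or.inl ?_⟩
  · rw [show C.rho * h * d * (C.rho * h)⁻¹ = C.rho * (h * d * h⁻¹) * C.rho⁻¹ by group, hhd, hy]
    group
  · rw [show C.rho * h * C.a * (C.rho * h)⁻¹ = C.rho * (h * C.a * h⁻¹) * C.rho⁻¹ by group,
      (C.mem_H.1 hh).eq, mul_inv_cancel_right, C.rho_a]

theorem index_modEq_one (hmax : IsCoatom C.H) {p : ℕ} [Fact p.Prime] (hp : C.Good p) :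
    C.H.index ≡ 1 [MOD p] := by
  obtain ⟨P, hP⟩ := C.exists_sylowU p
  have h := hP.isPGroup.card_modEq_card_fixedPoints (α := G ⧸ C.H)
  have h1 : Nat.card (MulAction.fixedPoints P (G ⧸ C.H)) = 1 := by
    rw [Nat.card_eq_one_iff_unique]
    have key : ∀ g : G, (QuotientGroup.mk g : G ⧸ C.H) ∈ MulAction.fixedPoints P (G ⧸ C.H) →
        g ∈ C.H := by
      intro g hg
      have hPg : ∀ x ∈ P, g⁻¹ * x * g ∈ C.H := fun x hx => by
        have h2 : (QuotientGroup.mk (x * g) : G ⧸ C.H) = QuotientGroup.mk g := hg ⟨x, hx⟩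
        have := QuotientGroup.eq.1 h2.symm
        rwa [← mul_assoc] at this
      let T : Sylow p C.U := (hP.isPGroup.comap_subtype (K := C.U)).toSylow hP.index
      have hsub : ∀ x ∈ P, g⁻¹ * x * g ∈ C.U := fun x hx => C.mem_U_of_odd (hPg x hx) (by
        have := CfsgLib.Invol.orderOf_conj_eq g⁻¹ x
        rw [inv_inv] at this
        rw [this]
        exact mem_of_pow_prime_pow hp.1 hp.2.1 (exists_pow_of_isPGroup hP.isPGroup hx))
      set Q := (P.map (MulAut.conj g⁻¹).toMonoidHom).subgroupOf C.U with hQ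
      have hQp : IsPGroup p Q := (hP.isPGroup.map _).comap_subtype
      obtain ⟨T', hT'⟩ := hQp.exists_le_sylow
      obtain ⟨u, hu⟩ := MulAction.exists_smul_eq C.U T' T
      have hle : P.map (MulAut.conj ((u : G) * g⁻¹)).toMonoidHom ≤ P := by
        rintro _ ⟨x, hx, rfl⟩
        have hm : u * ⟨g⁻¹ * x * g, hsub x hx⟩ * u⁻¹ ∈ (T : Subgroup C.U) := by
          rw [← hu]
          refine ⟨⟨g⁻¹ * x * g, hsub x hx⟩, hT' ⟨x, hx, ?_⟩, rfl⟩
          show g⁻¹ * x * g⁻¹⁻¹ = g⁻¹ * x * g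
          rw [inv_inv]
        show (u : G) * g⁻¹ * x * ((u : G) * g⁻¹)⁻¹ ∈ P
        rw [show (u : G) * g⁻¹ * x * ((u : G) * g⁻¹)⁻¹ = u * (g⁻¹ * x * g) * (u : G)⁻¹ by group]
        exact hm
      have hn : (u : G) * g⁻¹ ∈ normalizer (P : Set G) := mem_normalizer_iff_map_conj_eq.2
        (eq_of_le_of_card_ge hle
          (card_map_of_injective (MulAut.conj ((u : G) * g⁻¹)).injective).ge)
      have h3 := mul_mem (inv_mem (C.normalizer_sylowU_le hmax hp hP hn)) (C.U_le_H u.2)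
      rwa [show ((u : G) * g⁻¹)⁻¹ * u = g by group] at h3
    refine ⟨⟨?_⟩, ⟨⟨QuotientGroup.mk 1, fun x => ?_⟩⟩⟩
    · rintro ⟨a, ha⟩ ⟨b, hb⟩
      obtain ⟨g, rfl⟩ := QuotientGroup.mk_surjective a
      obtain ⟨k, rfl⟩ := QuotientGroup.mk_surjective b
      exact Subtype.ext (QuotientGroup.eq.2 (mul_mem (inv_mem (key g ha)) (key k hb)))
    · show (QuotientGroup.mk ((x : G) * 1) : G ⧸ C.H) = QuotientGroup.mk 1
      rw [mul_one]
      exact QuotientGroup.eq.2 (by simpa using C.U_le_H (hP.le x.2))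
  rw [h1] at h
  exact h

end Ctx

end CfsgLib.GW.CaseI
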