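import Cfsg.Agent.Classical.PSLTwoFour
import Cfsg.Agent.Classical.PSLTwo
import Cfsg.Agent.DGroup.Basic
import Cfsg.Agent.Invol.Dihedral

/-!
# The odd torus in the centraliser of an involution of `PSL₂(q)`, `q = 3, 5 mod 8`
-/

set_option autoImplicit false
set_option linter.style.haveILetI false
set_option linter.unusedSectionVars false

namespace CfsgLib.GW.CaseI

open Subgroup
open CfsgLib.Linear.SmallSub (P2)
open CfsgLib.DGroup (eq_one_of_sq)

theorem psl_torus {F : Type*} [Field F] [Fintype F] (hodd : Odd (Fintype.card F))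
    (h8 : Fintype.card F % 8 = 3 ∨ Fintype.card F % 8 = 5) {z w : P2 F} (hz : z * z = 1)
    (hz1 : z ≠ 1) (hw : w * w = 1) (hw1 : w ≠ 1) (hc : Commute w z) (hne : w ≠ z) :
    ∃ (u : ℕ) (ε : ℤ) (T : Subgroup (P2 F)), (ε = 1 ∨ ε = -1) ∧
      ((Fintype.card F : ℕ) : ℤ) = 4 * u + ε ∧ Odd u ∧ IsCyclic T ∧ Nat.card T = u ∧
      (∀ x ∈ T, Commute x z) ∧ (∀ x : P2 F, Commute x z → Odd (orderOf x) → x ∈ T) ∧
      ∀ t ∈ T, w * t * w = t⁻¹ := by
  obtain ⟨x, U, m, hx, hx1, -, hUx, hUc, hm, hcard, -, hinv2, hout⟩ :=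
    CfsgLib.Linear.FourGroups.centralizer_shape (F := F) hodd
  obtain ⟨g, hg⟩ := isConj_iff.1 (CfsgLib.Linear.FourGroups.involutions_conj hodd hx hx1 hz hz1)
  obtain ⟨u, ε, hε, hq, hmu, huo⟩ : ∃ (u : ℕ) (ε : ℤ), (ε = 1 ∨ ε = -1) ∧
      ((Fintype.card F : ℕ) : ℤ) = 4 * u + ε ∧ m = 2 * u ∧ Odd u := by
    rcases h8 with h | h
    · refine ⟨(Fintype.card F + 1) / 4, -1, Or.inr rfl, by omega, ?_, Nat.odd_iff.2 (by omega)⟩
      rw [if_neg (by omega)] at hm
      omega
    · refine ⟨(Fintype.card F - 1) / 4, 1, Or.inl rfl, by omega, ?_, Nat.odd_iff.2 (by omega)⟩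
      rw [if_pos (by omega)] at hm
      omega
  obtain ⟨g₀, hg₀⟩ := hUc.exists_generator
  have hgo : orderOf g₀ = 2 * u := by
    rw [orderOf_eq_card_of_forall_mem_zpowers hg₀, hcard, hmu]
  set s : P2 F := g * (g₀ : P2 F) ^ 2 * g⁻¹ with hs
  have hso : orderOf s = u := by
    rw [hs, CfsgLib.Invol.orderOf_conj_eq, orderOf_pow_of_dvd (by norm_num)
      (by rw [Subgroup.orderOf_coe, hgo]; exact dvd_mul_right 2 u), Subgroup.orderOf_coe, hgo]
    omega
  have hback : ∀ c : P2 F, Commute c z → Commute (g⁻¹ * c * g) x := fun c hc' => by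
    have := (Commute.conj_iff g⁻¹).2 hc'
    rwa [inv_inv, show g⁻¹ * z * g = x by rw [← hg]; group] at this
  have hfwd : ∀ c ∈ U, Commute (g * c * g⁻¹) z := fun c hc' => by
    have := (Commute.conj_iff g).2 (mem_centralizer_singleton_iff.1 (hUx hc') : Commute c x)
    rwa [hg] at this
  refine ⟨u, ε, zpowers s, hε, hq, huo, inferInstance, by rw [Nat.card_zpowers, hso],
    fun c hc' => ?_, fun c hcz ho => ?_, ?_⟩
  · obtain ⟨i, rfl⟩ := mem_zpowers_iff.1 hc'
    exact (hfwd _ (pow_mem g₀.2 2)).zpow_left i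
  · set c' := g⁻¹ * c * g with hc'
    have hco : Odd (orderOf c') := by
      have := CfsgLib.Invol.orderOf_conj_eq g⁻¹ c
      rw [inv_inv] at this
      rwa [hc', this]
    have hcc : c = g * c' * g⁻¹ := by rw [hc']; group
    by_cases hU : c' ∈ U
    · obtain ⟨i, hi⟩ := mem_zpowers_iff.1 (hg₀ ⟨c', hU⟩)
      have hsq : c * c ∈ zpowers s := by
        refine mem_zpowers_iff.2 ⟨i, ?_⟩
        rw [hs, conj_zpow, show c * c = g * (c' * c') * g⁻¹ by rw [hc']; group]
        congr 2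
        rw [← zpow_natCast, ← zpow_mul, show ((2 : ℕ) : ℤ) * i = i + i by ring, zpow_add]
        have := congrArg Subtype.val hi
        rw [SubgroupClass.coe_zpow] at this
        rw [this]
      obtain ⟨k, hk⟩ := ho
      have e : c = (c * c) ^ (k + 1) := by
        rw [(Commute.refl c).mul_pow, ← pow_add, show k + 1 + (k + 1) = orderOf c + 1 by omega,
          pow_succ, pow_orderOf_eq_one, one_mul]
      rw [e]
      exact pow_mem hsq _
    · have h1 := (hout c' (mem_centralizer_singleton_iff.2 (hback c hcz)) hU).1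
      have hc1 : c = 1 := hcc.trans (by rw [eq_one_of_sq h1 hco]; group)
      rw [hc1]
      exact one_mem _
  · intro t ht
    set w' := g⁻¹ * w * g with hw'
    have hwU : w' ∉ U := by
      intro hU
      have hsq : w' * w' = 1 := by
        rw [hw', show g⁻¹ * w * g * (g⁻¹ * w * g) = g⁻¹ * (w * w) * g by group, hw]; group
      rcases hinv2 w' hU hsq with e | e
      · exact hw1 (by rw [show w = g * w' * g⁻¹ by rw [hw']; group, e]; group)
      · exact hne (by rw [show w = g * w' * g⁻¹ by rw [hw']; group, e, hg])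
    obtain ⟨i, rfl⟩ := mem_zpowers_iff.1 ht
    obtain ⟨-, -, h1⟩ := hout w' (mem_centralizer_singleton_iff.2 (hback w hc)) hwU
    have h2 := h1 _ (zpow_mem (pow_mem g₀.2 2) i)
    have hwi : w⁻¹ = w := inv_eq_of_mul_eq_one_right hw
    calc w * s ^ i * w = g * (w' * ((g₀ : P2 F) ^ 2) ^ i * w'⁻¹) * g⁻¹ := by
          rw [hs, conj_zpow, hw']
          conv_lhs => arg 2; rw [← hwi]
          group
      _ = (s ^ i)⁻¹ := by rw [h2, hs, conj_zpow]; group

theorem two_mul_card_psl {F : Type*} [Field F] [Fintype F] (hodd : Odd (Fintype.card F)) :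
    2 * Nat.card (P2 F) = Fintype.card F * (Fintype.card F ^ 2 - 1) := by
  have h := CfsgLib.Linear.PSLTwo.mul_card (F := F)
  rw [Nat.card_eq_fintype_card (α := F)] at h
  rwa [Nat.gcd_eq_left (by obtain ⟨k, hk⟩ := hodd; omega)] at h

end CfsgLib.GW.CaseI
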