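import Cfsg.Agent.GW.CaseI.Core
import Cfsg.Agent.GW.CaseI.PSLTorus
import Mathlib.FieldTheory.Finite.Basic
import Mathlib.GroupTheory.SpecificGroups.Cyclic

/-!
# The structure of `C(d)` for a fixed element `d` of `O_p(U)`

Modulo its odd core `W ≤ D`, `C(d)` has a normal `PSL₂(q₁)` of odd index. The elements of
`U ∩ C(d)` lying in it form a torus of order `u₁` modulo `W`, inverted by `b`.
-/

set_option autoImplicit false
set_option linter.style.haveILetI false
set_option linter.unusedSectionVars false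

namespace CfsgLib.GW.CaseI

open Subgroup
open CfsgLib.NormCyclic (Inv)
open CfsgLib.Linear.SmallSub (P2)
open CfsgLib.DGroup (coreIn Op conj_mem conj_mem' odd_orderOf eq_one_of_sq eq_one_of_inv_eq)

universe u

variable {G : Type u} [Group G] [Finite G]

/-- The torus of `U ∩ C(d)`. -/
structure Torus (C : Ctx G) (d : G) where
  q₁ : ℕ
  u₁ : ℕ
  ε : ℤ
  hε : ε = 1 ∨ ε = -1
  hq : (q₁ : ℤ) = 4 * (u₁ : ℤ) + ε
  hpp : IsPrimePow q₁
  odd_u : Odd u₁
  W_le : coreIn (centralizer ({d} : Set G)) ≤ C.D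
  Tor : Subgroup G
  le : Tor ≤ C.U ⊓ centralizer ({d} : Set G)
  norm : C.U ⊓ centralizer ({d} : Set G) ≤ normalizer (Tor : Set G)
  W_le_Tor : coreIn (centralizer ({d} : Set G)) ≤ Tor
  mem_of_inverted : ∀ x ∈ C.U, Commute x d → C.b * x * C.b = x⁻¹ → x ∈ Tor
  φ : Tor →* Multiplicative (ZMod u₁)
  surj : Function.Surjective φ
  ker : ∀ x : Tor, φ x = 1 ↔ (x : G) ∈ coreIn (centralizer ({d} : Set G))
  inverts : ∀ x y : Tor, (y : G) = C.b * (x : G) * C.b → φ y = (φ x)⁻¹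
  inf_D : ∀ x ∈ Tor, x ∈ C.D → x ∈ coreIn (centralizer ({d} : Set G))
  exists_mul : ∀ x ∈ C.U, Commute x d → ∃ e ∈ C.D, Commute e d ∧ ∃ t ∈ Tor, x = e * t
  card_inf : Nat.card ↥(C.U ⊓ centralizer ({d} : Set G)) =
    u₁ * Nat.card ↥(C.D ⊓ centralizer ({d} : Set G))
  card_cent : 2 * Nat.card ↥(centralizer ({d} : Set G)) =
    Nat.card ↥(C.D ⊓ centralizer ({d} : Set G)) * (q₁ * (q₁ ^ 2 - 1))

theorem card_eq_of_hom {A B : Type*} [Group A] [Group B] [Finite A] (φ : A →* B) :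
    Nat.card A = Nat.card φ.range * Nat.card φ.ker := by
  rw [← Nat.card_congr (QuotientGroup.quotientKerEquivRange φ).toEquiv]
  exact Subgroup.card_eq_card_quotient_mul_card_subgroup φ.ker

theorem mem_of_sq_of_odd_index {K : Type*} [Group K] [Finite K] {L : Subgroup K} [L.Normal]
    (hL : Odd L.index) {x : K} (hx : x * x = 1) : x ∈ L := by
  rw [← QuotientGroup.eq_one_iff]
  refine eq_one_of_sq ?_ (hL.of_dvd_nat ?_)
  · rw [← QuotientGroup.mk_mul, hx, QuotientGroup.mk_one]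
  · rw [Subgroup.index]; exact orderOf_dvd_natCard _

namespace Ctx

variable (C : Ctx G)
include C

/-- The torus exists. -/
theorem exists_torus (hmax : IsCoatom C.H) {p : ℕ} [Fact p.Prime] (hp : C.Good p) {d : G}
    (hdD : d ∈ C.D) (hdO : d ∈ Op p C.H) (hd1 : d ≠ 1) : Nonempty (Torus C d) := by
  obtain ⟨hdU, hdb⟩ := C.mem_D.1 hdD
  set K := centralizer ({d} : Set G) with hK
  have hW : coreIn K ≤ C.D := C.coreIn_le_D hmax hp hdD hdO
  set W := coreIn K with hWdef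
  have haK : C.a ∈ K := mem_centralizer_singleton_iff.2 (C.commute_a hdU).eq.symm
  have hbK : C.b ∈ K := mem_centralizer_singleton_iff.2 hdb.eq.symm
  obtain ⟨L, hLn, hOL, hLi, F, iF, iFt, hFo, hF8, f, hfs, hfk⟩ := C.IH K
    (C.centralizer_singleton_ne_top hd1) haK hbK
    (C.fus_centralizer hmax hp hdD (exists_pow_of_isPGroup (CfsgLib.DGroup.isPGroup_Op p C.H) hdO))
  haveI := hLn
  set Lg := L.map K.subtype with hLg
  set eL := L.equivMapOfInjective K.subtype K.subtype_injective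
  let g : Lg →* P2 F := f.comp eL.symm.toMonoidHom
  have hgs : Function.Surjective g := hfs.comp eL.symm.surjective
  have hgk : ∀ x : Lg, g x = 1 ↔ (x : G) ∈ W := by
    intro x
    have hx : ((eL.symm x : L) : K) = ((eL.symm x : L) : K) := rfl
    have hval : (((eL.symm x : L) : K) : G) = x := congrArg Subtype.val (eL.apply_symm_apply x)
    rw [show g x = f (eL.symm x) from rfl, ← MonoidHom.mem_ker, hfk, mem_subgroupOf]
    constructor
    · exact fun h => ⟨_, h, hval⟩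
    · rintro ⟨y, hy, hyx⟩
      have : y = ((eL.symm x : L) : K) := Subtype.ext (hyx.trans hval.symm)
      exact this ▸ hy
  have hLgK : Lg ≤ K := map_subtype_le L
  have hLgn : K ≤ normalizer (Lg : Set G) := fun k hk =>
    le_normalizer_map K.subtype ⟨⟨k, hk⟩, by rw [normalizer_eq_top]; exact mem_top _, rfl⟩
  have hWLg : W ≤ Lg := map_mono hOL
  have hmem2 : ∀ x ∈ K, x * x = 1 → x ∈ Lg := fun x hx hxx =>
    ⟨⟨x, hx⟩, mem_of_sq_of_odd_index hLi (Subtype.ext hxx), rfl⟩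
  have haL : C.a ∈ Lg := hmem2 _ haK C.ha.1
  have hbL : C.b ∈ Lg := hmem2 _ hbK C.hb.1
  have hWa : ∀ x ∈ W, Commute x C.a := fun x hx => C.commute_a (C.D_le_U (hW hx))
  have hWb : ∀ x ∈ W, Commute x C.b := fun x hx => (C.mem_D.1 (hW hx)).2
  have hWo : Odd (Nat.card W) := CfsgLib.DGroup.odd_coreIn K
  -- involutions equal modulo `W`
  have htrick : ∀ x y : Lg, (x : G) * x = 1 → (y : G) * y = 1 →
      (∀ w ∈ W, Commute w (y : G)) → g x = g y → (x : G) = y := by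
    intro x y hx hy hWy hxy
    have hw : (x : G) * (y : G)⁻¹ ∈ W := by
      have := (hgk (x * y⁻¹)).1 (by rw [map_mul, map_inv, hxy, mul_inv_cancel])
      simpa using this
    set w := (x : G) * (y : G)⁻¹ with hwdef
    have hxw : (x : G) = w * y := by rw [hwdef, inv_mul_cancel_right]
    have h2 : w * w = 1 := by
      have h3 := hx
      rw [hxw, (hWy w hw).symm.mul_mul_mul_comm, hy, mul_one] at h3
      exact h3
    rw [hxw, eq_one_of_sq h2 (odd_orderOf hWo hw), one_mul]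
  set za := g ⟨C.a, haL⟩ with hza
  set zb := g ⟨C.b, hbL⟩ with hzb
  have hnotW : ∀ {x : G}, x * x = 1 → x ≠ 1 → x ∉ W := fun {x} hx hx1 h =>
    hx1 (eq_one_of_sq hx (odd_orderOf hWo h))
  have hza2 : za * za = 1 := by
    rw [hza, ← map_mul, ← map_one g]; exact congrArg g (Subtype.ext C.ha.1)
  have hzb2 : zb * zb = 1 := by
    rw [hzb, ← map_mul, ← map_one g]; exact congrArg g (Subtype.ext C.hb.1)
  have hza1 : za ≠ 1 := fun h => hnotW C.ha.1 C.ha.2 ((hgk _).1 h)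
  have hzb1 : zb ≠ 1 := fun h => hnotW C.hb.1 C.hb.2 ((hgk _).1 h)
  have hzc : Commute zb za := by
    show g _ * g _ = g _ * g _
    rw [← map_mul, ← map_mul]
    exact congrArg g (Subtype.ext C.hab.eq.symm)
  have hzne : zb ≠ za := fun h => C.hne (htrick ⟨C.b, hbL⟩ ⟨C.a, haL⟩ C.hb.1 C.ha.1 hWa h).symm
  obtain ⟨u₁, ε, T, hε, hq, huo, hTc, hTcard, hTz, hTmem, hTinv⟩ :=
    psl_torus hFo hF8 hza2 hza1 hzb2 hzb1 hzc hzne
  haveI := hTc
  -- the torus
  set Tor := C.U ⊓ Lg with hTor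
  let φ₀ : Tor →* P2 F := g.comp (inclusion inf_le_right)
  have hφo : ∀ x : Tor, Odd (orderOf (φ₀ x)) := fun x =>
    (odd_orderOf C.odd_U x.2.1).of_dvd_nat
      ((orderOf_map_dvd φ₀ x).trans (Subgroup.orderOf_coe x).symm.dvd)
  have hrange : φ₀.range = T := by
    refine le_antisymm ?_ fun t ht => ?_
    · rintro _ ⟨x, rfl⟩
      refine hTmem _ ?_ (hφo x)
      show g _ * g _ = g _ * g _
      rw [← map_mul, ← map_mul]
      exact congrArg g (Subtype.ext (C.commute_a x.2.1).eq)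
    · obtain ⟨x, rfl⟩ := hgs t
      -- a lift commutes with `a`
      have hxa : Commute (x : G) C.a := by
        have h1 : g (x * ⟨C.a, haL⟩ * x⁻¹) = za := by
          rw [map_mul, map_mul, map_inv, ← hza, (hTz _ ht).eq, mul_inv_cancel_right]
        have h2 := htrick (x * ⟨C.a, haL⟩ * x⁻¹) ⟨C.a, haL⟩
          (C.ha.conj (x : G)).1 C.ha.1 hWa h1
        exact mul_inv_eq_iff_eq_mul.1 h2
      obtain ⟨v, hv, w, hw, e⟩ := C.exists_mul_V (C.mem_H.2 hxa)
      have hwL : w ∈ Lg := by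
        rcases C.mem_V.1 hw with rfl | rfl | rfl | rfl
        exacts [one_mem _, haL, hbL, mul_mem haL hbL]
      have hvL : v ∈ Lg := by
        have := mul_mem x.2 (inv_mem hwL)
        rwa [e, mul_inv_cancel_right] at this
      have hgx : g x = g ⟨v, hvL⟩ * g ⟨w, hwL⟩ := by
        rw [← map_mul]; exact congrArg g (Subtype.ext e)
      have hv' : g ⟨v, hvL⟩ ∈ T := hTmem _ (by
        show g _ * g _ = g _ * g _
        rw [← map_mul, ← map_mul]
        exact congrArg g (Subtype.ext (C.commute_a hv).eq)) (hφo ⟨v, hv, hvL⟩)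
      have hw' : g ⟨w, hwL⟩ ∈ T := by
        have h3 := mul_mem (inv_mem hv') (hgx ▸ ht)
        rwa [inv_mul_cancel_left] at h3
      have hw1 : g ⟨w, hwL⟩ = 1 := eq_one_of_sq
        (by rw [← map_mul, ← map_one g]; exact congrArg g (Subtype.ext (C.sq_of_mem_V hw)))
        (odd_orderOf (by rw [hTcard]; exact huo) hw')
      exact ⟨⟨v, hv, hvL⟩, by rw [hgx, hw1, mul_one]; rfl⟩
  have hcardT : Nat.card T = Nat.card (Multiplicative (ZMod u₁)) := by
    rw [hTcard, Nat.card_congr Multiplicative.toAdd, Nat.card_zmod]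
  let e₀ : T ≃* Multiplicative (ZMod u₁) := mulEquivOfCyclicCardEq hcardT
  let φ : Tor →* Multiplicative (ZMod u₁) :=
    e₀.toMonoidHom.comp (φ₀.codRestrict T fun x => hrange ▸ ⟨x, rfl⟩)
  have hφ1 : ∀ x : Tor, φ x = 1 ↔ (x : G) ∈ W := fun x => by
    rw [show φ x = e₀ ⟨φ₀ x, hrange ▸ ⟨x, rfl⟩⟩ from rfl, e₀.map_eq_one_iff]
    exact Subtype.ext_iff.trans (hgk _)
  have hφinv : ∀ x y : Tor, (y : G) = C.b * (x : G) * C.b → φ₀ y = (φ₀ x)⁻¹ := by
    intro x y hy
    have h1 : φ₀ y = zb * φ₀ x * zb := by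
      show g _ = g _ * g _ * g _
      rw [← map_mul, ← map_mul]
      exact congrArg g (Subtype.ext hy)
    rw [h1, hTinv _ (hrange ▸ ⟨x, rfl⟩)]
  have hinfD : ∀ x ∈ Tor, x ∈ C.D → x ∈ W := by
    intro x hx hxD
    obtain ⟨-, hxb⟩ := C.mem_D.1 hxD
    have h1 := hφinv ⟨x, hx⟩ ⟨x, hx⟩ (conj_eq_of_commute C.hb.1 hxb).symm
    exact (hgk _).1 (eq_one_of_inv_eq h1.symm (hφo ⟨x, hx⟩))
  have hinvTor : ∀ x ∈ C.U, x ∈ K → C.b * x * C.b = x⁻¹ → x ∈ Lg := by
    intro x hx hxK hxb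
    refine ⟨⟨x, hxK⟩, ?_, rfl⟩
    show (⟨x, hxK⟩ : K) ∈ L
    rw [← QuotientGroup.eq_one_iff]
    set π := QuotientGroup.mk' L
    have hb1 : π ⟨C.b, hbK⟩ = 1 :=
      (QuotientGroup.eq_one_iff _).2 (mem_of_sq_of_odd_index hLi (Subtype.ext C.hb.1))
    refine eq_one_of_inv_eq ?_ (hLi.of_dvd_nat (by rw [Subgroup.index]; exact orderOf_dvd_natCard _))
    show (π ⟨x, hxK⟩)⁻¹ = π ⟨x, hxK⟩
    rw [← map_inv, show (⟨x, hxK⟩ : K)⁻¹ = ⟨C.b, hbK⟩ * ⟨x, hxK⟩ * ⟨C.b, hbK⟩ from Subtype.ext hxb.symm,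
      map_mul, map_mul, hb1, one_mul, mul_one]
  have hmemTor : ∀ x ∈ C.U, Commute x d → C.b * x * C.b = x⁻¹ → x ∈ Tor := fun x hx hxd hxb =>
    ⟨hx, hinvTor x hx (mem_centralizer_singleton_iff.2 hxd.eq) hxb⟩
  have hbUK : C.b ∈ normalizer ((C.U ⊓ K : Subgroup G) : Set G) := mem_normalizer_iff.2 fun x => by
    rw [mem_inf, mem_inf, mem_normalizer_iff.1 C.b_norm_U x,
      mem_normalizer_iff.1 (le_normalizer hbK) x]
  have hmul : ∀ x ∈ C.U, Commute x d → ∃ e ∈ C.D, Commute e d ∧ ∃ t ∈ Tor, x = e * t := by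
    intro x hx hxd
    obtain ⟨c, hc, i, hi, hcb, hib, e⟩ := exists_split C.hb.1
      (C.odd_U.of_dvd_nat (card_dvd_of_le inf_le_left)) hbUK
      (⟨hx, mem_centralizer_singleton_iff.2 hxd.eq⟩ : x ∈ C.U ⊓ K)
    exact ⟨c, C.mem_D.2 ⟨hc.1, hcb⟩, mem_centralizer_singleton_iff.1 hc.2, i,
      ⟨hi.1, hinvTor i hi.1 hi.2 hib⟩, e⟩
  set A := C.D ⊓ K with hA
  have hATor : A ⊓ Tor = W := le_antisymm (fun x hx => hinfD x hx.2 hx.1.1)
    (le_inf (le_inf hW (CfsgLib.DGroup.coreIn_le K)) (le_inf (hW.trans C.D_le_U) hWLg))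
  have hAn : A ≤ normalizer (Tor : Set G) := fun x hx => mem_normalizer_iff.2 fun y => by
    rw [hTor, mem_inf, mem_inf,
      mem_normalizer_iff.1 (C.H_le_normalizer_U (C.U_le_H (C.D_le_U hx.1))) y,
      mem_normalizer_iff.1 (hLgn hx.2) y]
  have hAL : A ⊓ Lg = W := by
    rw [← hATor, hTor, ← inf_assoc, inf_eq_left.2 (inf_le_left.trans C.D_le_U : A ≤ C.U)]
  have hWcard : Nat.card g.ker = Nat.card W := by
    rw [show g.ker = W.subgroupOf Lg from Subgroup.ext hgk,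
      Nat.card_congr (subgroupOfEquivOfLe hWLg).toEquiv]
  have hWTor : W ≤ Tor := hATor ▸ inf_le_right
  have hcardTor : Nat.card Tor = u₁ * Nat.card W := by
    rw [card_eq_of_hom φ₀, hrange, hTcard]
    congr 1
    rw [show φ₀.ker = W.subgroupOf Tor from Subgroup.ext fun x => hgk _,
      Nat.card_congr (subgroupOfEquivOfLe hWTor).toEquiv]
  have hcardLg : Nat.card Lg = Nat.card (P2 F) * Nat.card W := by
    rw [card_eq_of_hom g, hWcard, MonoidHom.range_eq_top.2 hgs, card_top]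
  have hsupT : A ⊔ Tor = C.U ⊓ K := by
    refine le_antisymm (sup_le (inf_le_inf_right _ C.D_le_U)
      (le_inf inf_le_left (inf_le_right.trans hLgK))) fun x hx => ?_
    obtain ⟨e, he, hed, t, ht, rfl⟩ := hmul x hx.1 (mem_centralizer_singleton_iff.1 hx.2)
    exact mul_mem (mem_sup_left ⟨he, mem_centralizer_singleton_iff.2 hed.eq⟩) (mem_sup_right ht)
  -- `C(d) = L (D ∩ C(d))`
  have hsupK : A ⊔ Lg = K := by
    refine le_antisymm (sup_le inf_le_right hLgK) fun k hk => ?_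
    have hkL : k * C.a * k⁻¹ ∈ Lg := conj_mem (hLgn hk) haL
    have hkne : g ⟨_, hkL⟩ ≠ 1 := fun h => hnotW (C.ha.conj k).1 (C.ha.conj k).2 ((hgk _).1 h)
    have hk2 : g ⟨_, hkL⟩ * g ⟨_, hkL⟩ = 1 := by
      rw [← map_mul, ← map_one g]; exact congrArg g (Subtype.ext (C.ha.conj k).1)
    obtain ⟨l, hl⟩ := isConj_iff.1
      (CfsgLib.Linear.FourGroups.involutions_conj hFo hk2 hkne hza2 hza1)
    obtain ⟨l, rfl⟩ := hgs l
    rw [← map_inv, ← map_mul, ← map_mul] at hl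
    have h1 := htrick (l * ⟨_, hkL⟩ * l⁻¹) ⟨C.a, haL⟩ ((C.ha.conj k).conj (l : G)).1 C.ha.1 hWa hl
    have hlk : Commute ((l : G) * k) C.a := mul_inv_eq_iff_eq_mul.1 (by
      rw [show (l : G) * k * C.a * ((l : G) * k)⁻¹ = l * (k * C.a * k⁻¹) * (l : G)⁻¹ by group]
      exact h1)
    obtain ⟨v, hv, w, hw, e⟩ := C.exists_mul_V (C.mem_H.2 hlk)
    have hwL : w ∈ Lg := by
      rcases C.mem_V.1 hw with rfl | rfl | rfl | rfl
      exacts [one_mem _, haL, hbL, mul_mem haL hbL]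
    have hvK : v ∈ K := by
      have := mul_mem (mul_mem (hLgK l.2) hk) (inv_mem (hLgK hwL))
      rwa [e, mul_inv_cancel_right] at this
    obtain ⟨c, hc, hcd, t, ht, e'⟩ := hmul v hv (mem_centralizer_singleton_iff.1 hvK)
    rw [show k = (l : G)⁻¹ * (v * w) by rw [← e, inv_mul_cancel_left], e']
    exact mul_mem (mem_sup_right (inv_mem l.2))
      (mul_mem (mul_mem (mem_sup_left ⟨hc, mem_centralizer_singleton_iff.2 hcd.eq⟩)
        (mem_sup_right ht.2)) (mem_sup_right hwL))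
  have hcU : Nat.card ↥(C.U ⊓ K) = u₁ * Nat.card A := by
    refine Nat.eq_of_mul_eq_mul_right (Nat.card_pos (α := W)) ?_
    have := CfsgLib.Solvable.card_sup_mul_card_inf hAn
    rw [hsupT, hATor, hcardTor] at this
    rw [this]; ring
  have hcK : 2 * Nat.card K = Nat.card A * (Fintype.card F * (Fintype.card F ^ 2 - 1)) := by
    refine Nat.eq_of_mul_eq_mul_right (Nat.card_pos (α := W)) ?_
    have := CfsgLib.Solvable.card_sup_mul_card_inf (inf_le_right.trans hLgn : A ≤ normalizer (Lg : Set G))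
    rw [hsupK, hAL, hcardLg] at this
    rw [mul_assoc, this, ← two_mul_card_psl hFo]; ring
  refine ⟨{
    q₁ := Fintype.card F
    u₁ := u₁
    ε := ε
    hε := hε
    hq := hq
    hpp := ?_
    odd_u := huo
    W_le := hW
    Tor := Tor
    le := le_inf inf_le_left (inf_le_right.trans hLgK)
    norm := fun x hx => mem_normalizer_iff.2 fun y => by
      rw [hTor, mem_inf, mem_inf, mem_normalizer_iff.1 (C.H_le_normalizer_U (C.U_le_H hx.1)) y,
        mem_normalizer_iff.1 (hLgn hx.2) y]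
    W_le_Tor := hWTor
    mem_of_inverted := hmemTor
    φ := φ
    surj := e₀.surjective.comp fun t => by
      obtain ⟨x, hx⟩ : (t : P2 F) ∈ φ₀.range := hrange ▸ t.2
      exact ⟨x, Subtype.ext hx⟩
    ker := hφ1
    inverts := fun x y h => by
      show e₀ _ = (e₀ _)⁻¹
      rw [← map_inv]
      exact congrArg e₀ (Subtype.ext (hφinv x y h))
    inf_D := hinfD
    exists_mul := hmul
    card_inf := hcU
    card_cent := hcK }⟩
  obtain ⟨r, hr⟩ := CharP.exists F
  obtain ⟨n, hr', hn⟩ := @FiniteField.card F _ _ r hr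
  exact hn ▸ hr'.isPrimePow.pow n.pos.ne'

end Ctx

namespace Torus

variable {C : Ctx G} {d : G} (T : Torus C d)
include T

theorem W_commute {w : G} (hw : w ∈ coreIn (centralizer ({d} : Set G))) : Commute w C.b :=
  (C.mem_D.1 (T.W_le hw)).2

theorem inverted_ext {x y : G} (hx : x ∈ C.U) (hxd : Commute x d) (hxb : C.b * x * C.b = x⁻¹)
    (hy : y ∈ C.U) (hyd : Commute y d) (hyb : C.b * y * C.b = y⁻¹)
    (h : T.φ ⟨x, T.mem_of_inverted x hx hxd hxb⟩ = T.φ ⟨y, T.mem_of_inverted y hy hyd hyb⟩) :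
    x = y := by
  set x' : T.Tor := ⟨x, T.mem_of_inverted x hx hxd hxb⟩
  set y' : T.Tor := ⟨y, T.mem_of_inverted y hy hyd hyb⟩
  have hw : x⁻¹ * y ∈ coreIn (centralizer ({d} : Set G)) := by
    have := (T.ker (x'⁻¹ * y')).1 (by rw [map_mul, map_inv, h, inv_mul_cancel])
    simpa [x', y'] using this
  have h1 := conj_eq_of_commute C.hb.1 (T.W_commute hw)
  rw [invol_mul C.hb.1, invol_inv C.hb.1, hxb, hyb, inv_inv] at h1
  refine eq_of_sq (odd_orderOf C.odd_U hx) (odd_orderOf C.odd_U hy) ?_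
  calc x * x = x * (x * y⁻¹) * y := by group
    _ = x * (x⁻¹ * y) * y := by rw [h1]
    _ = y * y := by group

theorem comm_mem {x y : G} (hx : x ∈ T.Tor) (hy : y ∈ T.Tor) :
    x * y * x⁻¹ * y⁻¹ ∈ coreIn (centralizer ({d} : Set G)) := by
  have := (T.ker (⟨x, hx⟩ * ⟨y, hy⟩ * ⟨x, hx⟩⁻¹ * ⟨y, hy⟩⁻¹)).1 (by
    rw [map_mul, map_mul, map_mul, map_inv, map_inv, mul_comm (T.φ ⟨x, hx⟩), mul_inv_cancel_right,
      mul_inv_cancel])
  simpa using this

theorem exists_zpow {p : ℕ} [Fact p.Prime] {x y : G} (hx : x ∈ C.U) (hxd : Commute x d)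
    (hxb : C.b * x * C.b = x⁻¹) (hxp : x ^ p = 1) (hx1 : x ≠ 1) (hy : y ∈ C.U) (hyd : Commute y d)
    (hyb : C.b * y * C.b = y⁻¹) (hyp : y ^ p = 1) : ∃ k : ℤ, y = x ^ k := by
  set x' : T.Tor := ⟨x, T.mem_of_inverted x hx hxd hxb⟩ with hx'
  set y' : T.Tor := ⟨y, T.mem_of_inverted y hy hyd hyb⟩ with hy'
  haveI : NeZero T.u₁ := ⟨T.odd_u.pos.ne'⟩
  have hφx : T.φ x' ≠ 1 := fun h => hx1 (eq_one_of_inv_eq (by
    rw [← hxb, conj_eq_of_commute C.hb.1 (T.W_commute ((T.ker x').1 h))]) (odd_orderOf C.odd_U hx))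
  have hφp : T.φ x' ^ p = 1 := by
    rw [← map_pow, show x' ^ p = 1 from Subtype.ext hxp, map_one]
  have hφyp : T.φ y' ^ p = 1 := by
    rw [← map_pow, show y' ^ p = 1 from Subtype.ext hyp, map_one]
  have hmem : T.φ y' ∈ zpowers (T.φ x') := by
    classical
    have hcardx : Nat.card (zpowers (T.φ x')) = p := by
      rw [Nat.card_zpowers]; exact orderOf_eq_prime hφp hφx
    let S : Subgroup (Multiplicative (ZMod T.u₁)) := (powMonoidHom p).ker
    have hS : Nat.card S ≤ p := by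
      show Nat.card ↥((powMonoidHom p).ker : Subgroup (Multiplicative (ZMod T.u₁))) ≤ p
      rw [IsCyclic.card_powMonoidHom_ker]
      exact Nat.gcd_le_right _ (Fact.out : p.Prime).pos
    have hle : zpowers (T.φ x') ≤ S := zpowers_le.2 hφp
    rw [eq_of_le_of_card_ge hle (hS.trans hcardx.ge)]
    exact hφyp
  obtain ⟨k, hk⟩ := mem_zpowers_iff.1 hmem
  refine ⟨k, ?_⟩
  have hzb : C.b * x ^ k * C.b = (x ^ k)⁻¹ := by
    rw [← conj_invol_eq C.hb.1, ← conj_zpow, conj_invol_eq C.hb.1, hxb, inv_zpow]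
  refine T.inverted_ext hy hyd hyb (zpow_mem hx k) (hxd.zpow_left k) hzb ?_
  rw [show (⟨x ^ k, T.mem_of_inverted _ (zpow_mem hx k) (hxd.zpow_left k) hzb⟩ : T.Tor) = x' ^ k from
    Subtype.ext (SubgroupClass.coe_zpow x' k).symm, map_zpow, hk]

/-- An inverted element centralises the `q`-groups it normalises, for `q` prime to its order. -/
theorem centralises {q : ℕ} [Fact q.Prime] {x : G} (hx : x ∈ C.U) (hxd : Commute x d)
    (hxb : C.b * x * C.b = x⁻¹) {Q : Subgroup G} (hQp : IsPGroup q Q)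
    (hQ : Q ≤ C.U ⊓ centralizer ({d} : Set G)) (hxQ : x ∈ normalizer (Q : Set G))
    (hcop : (orderOf x).Coprime q) : ∀ c ∈ Q, Commute x c := by
  set K := centralizer ({d} : Set G) with hK
  have hxK : x ∈ K := mem_centralizer_singleton_iff.2 hxd.eq
  have hxT := T.mem_of_inverted x hx hxd hxb
  have hW : ∀ w ∈ coreIn K, Commute x w := fun w hw =>
    commute_of_fixed C.hb.1 (odd_orderOf C.odd_U hx) hxb (T.W_commute hw)
      (T.W_commute (conj_mem (CfsgLib.DGroup.normalizer_coreIn K hxK) hw))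
  -- a commutator fixed by `x` is trivial
  have key : ∀ c ∈ Q, Commute x (x * c * x⁻¹ * c⁻¹) → Commute x c := by
    intro c hc he
    set e := x * c * x⁻¹ * c⁻¹ with hedef
    have heQ : e ∈ Q := mul_mem (conj_mem hxQ hc) (inv_mem hc)
    have hpow : ∀ n : ℕ, x ^ n * c * (x ^ n)⁻¹ = e ^ n * c := by
      intro n
      induction n with
      | zero => simp
      | succ n ih =>
        rw [pow_succ', show x * x ^ n * c * (x * x ^ n)⁻¹ = x * (x ^ n * c * (x ^ n)⁻¹) * x⁻¹ by group,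
          ih, show x * (e ^ n * c) * x⁻¹ = x * e ^ n * (c * x⁻¹) by group, (he.pow_right n).eq,
          pow_succ, hedef]
        group
    have h1 := hpow (orderOf x)
    rw [pow_orderOf_eq_one, one_mul, inv_one, mul_one] at h1
    obtain ⟨j, hj⟩ := exists_pow_of_isPGroup hQp heQ
    have he1 : e = 1 := orderOf_eq_one_iff.1 (Nat.eq_one_of_dvd_coprimes (hcop.pow_right j)
      (orderOf_dvd_of_pow_eq_one (mul_eq_right.1 h1.symm)) (orderOf_dvd_of_pow_eq_one hj))
    exact mul_inv_eq_iff_eq_mul.1 (mul_inv_eq_one.1 he1)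
  have hTor : ∀ c ∈ Q, c ∈ T.Tor → Commute x c := fun c hc hcT =>
    key c hc (hW _ (T.comm_mem hxT hcT))
  intro c hc
  refine key c hc (hTor _ (mul_mem (conj_mem hxQ hc) (inv_mem hc)) ?_)
  have := mul_mem hxT (conj_mem (T.norm (hQ hc)) (inv_mem hxT))
  rwa [← mul_assoc, ← mul_assoc] at this

end Torus

end CfsgLib.GW.CaseI
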