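import Cfsg.Agent.GW.CaseI.Heisenberg

/-!
# Case (I): `[U, b]` is abelian and inverted by `b`
-/

set_option autoImplicit false
set_option linter.style.haveILetI false
set_option linter.unusedSectionVars false

namespace CfsgLib.GW.CaseI.Ctx

open Subgroup
open CfsgLib.DGroup (coreIn Op conj_mem conj_mem' odd_orderOf eq_one_of_sq eq_one_of_inv_eq)

universe u

variable {G : Type u} [Group G] [Finite G] (C : Ctx G)
include C

theorem exists_config (hmax : IsCoatom C.H) {p : ℕ} [Fact p.Prime] {d₀ : G} (hd₀D : d₀ ∈ C.D)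
    (hd₀O : d₀ ∈ Op p C.H) (hd₀U : d₀ ∈ C.U0) (hd₀1 : d₀ ≠ 1) :
    p ≠ 2 ∧ C.Good p ∧ Nonempty (C.Config p) := by
  obtain ⟨k, hk⟩ := CfsgLib.DGroup.pow_mem_Op hd₀O
  have hpd : p ∣ orderOf d₀ := by
    obtain ⟨j, -, hj⟩ := (Nat.dvd_prime_pow (Fact.out : p.Prime)).1 (orderOf_dvd_of_pow_eq_one hk)
    rcases j with _ | j
    · exact absurd (orderOf_eq_one_iff.1 hj) hd₀1
    · exact hj ▸ dvd_pow_self p (Nat.succ_ne_zero j)
  have hp2 : p ≠ 2 := fun h => Nat.not_even_iff_odd.2 (odd_orderOf C.odd_D hd₀D)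
    (even_iff_two_dvd.2 (h ▸ hpd))
  have hp : C.Good p := ⟨Fact.out, hp2, hpd.trans (Subgroup.orderOf_dvd_natCard _ hd₀U),
    fun h => hd₀1 (mem_bot.1 (h ▸ hd₀O))⟩
  refine ⟨hp2, hp, ?_⟩
  obtain ⟨S⟩ := C.exists_chief hmax hp2 hp hd₀D hd₀O hd₀U hd₀1
  by_cases h0 : ∀ x ∈ S.C0, x = 1
  · exact S.config_mixed hmax hp2 hp h0
  push Not at h0
  obtain ⟨z, hz, hz1⟩ := h0
  by_cases hY : ∀ i ∈ S.Y, C.b * i * C.b = i⁻¹ → i ∈ S.C0
  · exact S.config_central hmax hp2 hp hz hz1 hY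
  push Not at hY
  obtain ⟨y, hy, hyb, hyC⟩ := hY
  exact S.config_heisenberg hmax hp2 hp hz hz1 hy hyb hyC

theorem card_H_main : Nat.card C.H = 4 * Nat.card C.U := by
  let f : C.U × C.V → C.H := fun q =>
    ⟨(q.1 : G) * q.2, mul_mem (C.U_le_H q.1.2) (C.V_le_H q.2.2)⟩
  have hf : Function.Bijective f := by
    refine ⟨?_, fun h => ?_⟩
    · rintro ⟨u₁, v₁⟩ ⟨u₂, v₂⟩ h
      have h' : (u₁ : G) * v₁ = (u₂ : G) * v₂ := congrArg Subtype.val h
      have hw : (u₂ : G)⁻¹ * u₁ = (v₂ : G) * (v₁ : G)⁻¹ := by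
        rw [eq_mul_inv_iff_mul_eq, mul_assoc, h', inv_mul_cancel_left]
      have hv : (v₂ : G) * (v₁ : G)⁻¹ ∈ C.U := hw ▸ mul_mem (inv_mem u₂.2) u₁.2
      have h1 := eq_one_of_sq (C.sq_of_mem_V (mul_mem v₂.2 (inv_mem v₁.2))) (odd_orderOf C.odd_U hv)
      have hv' : v₁ = v₂ := Subtype.ext (mul_inv_eq_one.1 h1).symm
      subst hv'
      exact Prod.ext (Subtype.ext (mul_right_cancel h')) rfl
    · obtain ⟨u, hu, v, hv, e⟩ := C.exists_mul_V h.2
      exact ⟨⟨⟨u, hu⟩, ⟨v, hv⟩⟩, Subtype.ext e.symm⟩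
  rw [← Nat.card_eq_of_bijective f hf, Nat.card_prod, C.card_V, mul_comm]

theorem card_mul_inf : Nat.card C.U * Nat.card ↥(C.D ⊓ C.U0) = Nat.card C.D * Nat.card C.U0 := by
  have h := CfsgLib.Solvable.card_sup_mul_card_inf (C.D_le_U.trans C.U_le_normalizer_U0 :
    C.D ≤ normalizer (C.U0 : Set G))
  rwa [show C.D ⊔ C.U0 = C.U from le_antisymm (sup_le C.D_le_U C.U0_le_U) fun x hx => by
    obtain ⟨d, hd, y, hy, rfl⟩ := C.exists_mul_U0 hx
    exact mul_mem (mem_sup_left hd) (mem_sup_right hy)] at h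

theorem card_U_eq : Nat.card C.U = C.D.relIndex C.U * Nat.card C.D := by
  rw [mul_comm, ← Nat.card_congr (subgroupOfEquivOfLe C.D_le_U).toEquiv]
  exact (card_mul_index (C.D.subgroupOf C.U)).symm

variable {C}

/-- The primes of `u₁` are good. -/
theorem Config.good {p : ℕ} [Fact p.Prime] (F : C.Config p) {s : ℕ} [Fact s.Prime]
    (hs : s ∣ F.torus.u₁) : C.Good s := by
  obtain ⟨g, hg, hgd, hgb, hgo, -⟩ := F.torus.exists_gen F.mem_D
  set x := g ^ (F.torus.u₁ / s) with hx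
  have hxU : x ∈ C.U := pow_mem hg _
  have hxd : Commute x F.d := hgd.pow_left _
  have hxb : C.b * x * C.b = x⁻¹ := by
    rw [← conj_invol_eq C.hb.1, ← conj_pow, conj_invol_eq C.hb.1, hgb, inv_pow]
  have hxo : orderOf x = s := by
    rw [hx, ← hgo]
    exact orderOf_pow_orderOf_div (orderOf_pos g).ne' (hgo.symm ▸ hs)
  have hx1 : x ≠ 1 := fun h => (Fact.out : s.Prime).one_lt.ne (by rw [← hxo, h, orderOf_one])
  refine ⟨Fact.out, fun h => ?_, hxo ▸ Subgroup.orderOf_dvd_natCard _ (mem_invGen hxU hxb), fun hbot => ?_⟩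
  · exact Nat.not_even_iff_odd.2 (F.torus.odd_u.of_dvd_nat hs) (even_iff_two_dvd.2 (h ▸ dvd_rfl))
  have hxs : ∃ k, x ^ s ^ k = 1 := ⟨1, by rw [pow_one, ← hxo, pow_orderOf_eq_one]⟩
  set K := centralizer ({F.d} : Set G) with hK
  have hxK : x ∈ K := mem_centralizer_singleton_iff.2 hxd.eq
  -- `x` commutes with the centraliser of `d` in every `O_q`
  have hcent : ∀ q : ℕ, q.Prime → q ≠ s → ∀ z ∈ Op q C.H, z ∈ K → Commute x z := by
    intro q hq hqs z hz hzK
    haveI : Fact q.Prime := ⟨hq⟩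
    refine F.torus.centralises hxU hxd hxb (Q := Op q C.H ⊓ K)
      ((CfsgLib.DGroup.isPGroup_Op q C.H).to_le inf_le_left) (inf_le_inf_right K (C.Op_le_U q))
      (mem_normalizer_iff.2 fun v => by
        rw [mem_inf, mem_inf,
          mem_normalizer_iff.1 (CfsgLib.DGroup.le_normalizer_Op q C.H (C.U_le_H hxU)) v,
          mem_normalizer_iff.1 (le_normalizer hxK) v])
      (hxo ▸ (Nat.coprime_primes Fact.out hq).2 (Ne.symm hqs)) z ⟨hz, hzK⟩
  have hall : ∀ q : ℕ, q.Prime → ∀ z ∈ Op q C.H, Commute z x := by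
    intro q hq z hz
    haveI : Fact q.Prime := ⟨hq⟩
    by_cases hqs : q = s
    · subst hqs
      rw [hbot, mem_bot] at hz
      rw [hz]; exact Commute.one_left x
    by_cases hqp : q = p
    · subst hqp
      have hdp : IsPGroup q (zpowers F.d) :=
        (CfsgLib.DGroup.isPGroup_Op q C.H).to_le (zpowers_le.2 F.mem_O)
      have hcop : (Nat.card (zpowers x)).Coprime q := by
        rw [Nat.card_zpowers, hxo]; exact (Nat.coprime_primes Fact.out hq).2 (Ne.symm hqs)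
      have h := CfsgLib.CoprimeAct.p_times_q_aux _ q (zpowers F.d) (zpowers x) (Op q C.H) rfl hdp hcop
        (CfsgLib.DGroup.isPGroup_Op q C.H)
        (zpowers_le.2 (mem_centralizer_iff.2 fun v hv => by
          obtain ⟨k, rfl⟩ := mem_zpowers_iff.1 hv
          exact (hxd.symm.zpow_right k).eq.symm))
        (zpowers_le.2 (le_normalizer F.mem_O))
        (zpowers_le.2 (CfsgLib.DGroup.le_normalizer_Op q C.H (C.U_le_H hxU))) (fun v hv => by
          have hvd : v * F.d = F.d * v := (mem_centralizer_iff.1 hv.2 F.d (mem_zpowers F.d)).symm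
          have hxv := hcent q hq hqs v hv.1 (mem_centralizer_singleton_iff.2 hvd)
          refine mem_centralizer_iff.2 fun w hw => ?_
          obtain ⟨k, rfl⟩ := mem_zpowers_iff.1 hw
          exact (hxv.zpow_left k).eq)
      rw [commutator_eq_bot_iff_le_centralizer] at h
      exact (mem_centralizer_iff.1 (h hz) x (mem_zpowers x)).symm
    · exact (hcent q hq hqs z hz
        (mem_centralizer_singleton_iff.2 (CfsgLib.DGroup.Op_commute hqp hz F.mem_O).eq)).symm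
  have := CfsgLib.DGroup.mem_Op_of_commute (M := C.H) (p := s) hxU hxs hall
  rw [hbot, mem_bot] at this
  exact hx1 this

/-- No configuration satisfies the order formula. -/
theorem Config.false (hmax : IsCoatom C.H) (O : Order C) {p : ℕ} [Fact p.Prime] (hp2 : p ≠ 2)
    (F : C.Config p) : False := by
  obtain ⟨q, e, m, η, hη, hq, hme, hindex⟩ := O
  set u₁ := F.torus.u₁ with hu₁
  set E := C.U0 ⊓ centralizer ({F.d} : Set G) with hE
  set i := E.relIndex C.U0 with hi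
  set ND := C.D ⊓ normalizer (zpowers F.d : Set G) with hND
  set l := ND.relIndex C.D with hl
  set u := C.D.relIndex C.U with hu
  have hcE : Nat.card E = u₁ * Nat.card ↥(C.D ⊓ C.U0) := F.torus.card_U0_inf F.mem_D F.fixed
  have hcU0 : Nat.card C.U0 = i * Nat.card E := by
    rw [mul_comm, ← Nat.card_congr (subgroupOfEquivOfLe (inf_le_left : E ≤ C.U0)).toEquiv]
    exact (card_mul_index (E.subgroupOf C.U0)).symm
  have hui : u = i * u₁ := by
    have h := C.card_mul_inf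
    rw [C.card_U_eq, hcU0, hcE, ← hu] at h
    refine Nat.eq_of_mul_eq_mul_right (Nat.mul_pos (Nat.card_pos (α := C.D))
      (Nat.card_pos (α := ↥(C.D ⊓ C.U0)))) ?_
    rw [← mul_assoc, h]; ring
  have hu₁0 : 0 < u₁ := F.torus.odd_u.pos
  -- primes of `u₁` do not divide `m`
  have hsm : ∀ s : ℕ, s.Prime → s ∣ u₁ → ¬ s ∣ m := by
    intro s hs hsu hsm
    haveI : Fact s.Prime := ⟨hs⟩
    have h := C.index_modEq_one hmax (F.good hsu)
    have hdvd : (s : ℤ) ∣ (C.H.index : ℤ) := by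
      rw [hindex]
      exact dvd_mul_of_dvd_left (dvd_mul_of_dvd_left ((Int.natCast_dvd_natCast.2 hsm).trans
        (dvd_pow_self _ two_ne_zero)) _) _
    have h' : C.H.index % s = 0 := Nat.mod_eq_zero_of_dvd (Int.natCast_dvd_natCast.1 hdvd)
    rw [Nat.ModEq, h', Nat.mod_eq_of_lt hs.one_lt] at h
    exact zero_ne_one h
  have hpm : ¬ p ∣ m := hsm p Fact.out F.dvd_u
  have hcop : m.Coprime u₁ := Nat.coprime_of_dvd fun s hs h1 h2 => hsm s hs h2 h1
  -- `m² ≡ 1` modulo `p`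
  have hmod : (p : ℤ) ∣ (m : ℤ) ^ 2 - 1 := by
    haveI hg := C.index_modEq_one hmax (F.good F.dvd_u)
    have hpe : p ∣ e := by
      have : p ∣ m * e := by rw [hme, hui]; exact F.dvd_u.mul_left i
      exact ((Fact.out : p.Prime).dvd_mul.1 this).resolve_left hpm
    have h1 : (p : ℤ) ∣ (C.H.index : ℤ) - 1 := by
      have h0 := (Int.natCast_modEq_iff.2 hg).symm
      rw [Int.modEq_iff_dvd] at h0
      simpa using h0
    rw [hindex, hq] at h1
    obtain ⟨j, hj⟩ := hpe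
    have h2 : η * η = 1 := by rcases hη with rfl | rfl <;> rfl
    have h3 : (p : ℤ) ∣ ((m : ℤ) ^ 2 * (4 * (e : ℤ) + η) * (2 * (e : ℤ) + η) - 1) -
        (p : ℤ) * ((m : ℤ) ^ 2 * (j : ℤ) * (8 * (e : ℤ) + 6 * η)) := dvd_sub h1 (dvd_mul_right _ _)
    refine h3.trans (dvd_of_eq ?_)
    have he : (e : ℤ) = (p : ℤ) * j := by exact_mod_cast hj
    linear_combination (m : ℤ) ^ 2 * h2 + ((m : ℤ) ^ 2 * (8 * (e : ℤ) + 6 * η)) * he
  -- `q₁` divides `m² q (2e + η) i l`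
  set K := centralizer ({F.d} : Set G) with hK
  have hNK : ND ≤ normalizer (K : Set G) := fun x hx => by
    have h1 : x ∈ normalizer (centralizer (zpowers F.d : Set G) : Set G) :=
      CfsgLib.DGroup.mem_normalizer_centralizer hx.2
    rwa [zpowers_eq_closure, centralizer_closure] at h1
  have hinf : ND ⊓ K = C.D ⊓ K := le_antisymm (inf_le_inf_right _ inf_le_left) fun x hx =>
    ⟨⟨hx.1, centralizer_le_normalizer _ (by
      rw [zpowers_eq_closure, centralizer_closure]; exact hx.2)⟩, hx.2⟩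
  have hL : 2 * Nat.card ↥(ND ⊔ K) = Nat.card ND * (F.torus.q₁ * (F.torus.q₁ ^ 2 - 1)) := by
    refine Nat.eq_of_mul_eq_mul_right (Nat.card_pos (α := ↥(C.D ⊓ K))) ?_
    have h := CfsgLib.Solvable.card_sup_mul_card_inf hNK
    rw [hinf] at h
    rw [mul_assoc, h, mul_left_comm, F.torus.card_cent]
    ring
  have hG : Nat.card ↥(ND ⊔ K) ∣ 4 * (u * Nat.card C.D) * C.H.index := by
    rw [hu, ← C.card_U_eq, ← C.card_H_main, card_mul_index]
    exact card_subgroup_dvd_card _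
  have hD : Nat.card C.D = Nat.card ND * l := by
    rw [← Nat.card_congr (subgroupOfEquivOfLe (inf_le_left : ND ≤ C.D)).toEquiv]
    exact (card_mul_index (ND.subgroupOf C.D)).symm
  have hdiv₀ : F.torus.q₁ * (F.torus.q₁ ^ 2 - 1) ∣ 8 * u * l * C.H.index := by
    refine Nat.dvd_of_mul_dvd_mul_left (k := Nat.card ND) Nat.card_pos ?_
    rw [← hL]
    refine (Nat.mul_dvd_mul_left 2 hG).trans (dvd_of_eq ?_)
    rw [hD]; ring
  have hdiv : (F.torus.q₁ : ℤ) ∣ (m : ℤ) ^ 2 * (4 * e + η) * (2 * e + η) * i * l := by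
    have hq1 : 1 ≤ F.torus.q₁ ^ 2 := Nat.one_le_pow _ _ F.torus.hpp.pos
    have h := Int.natCast_dvd_natCast.2 hdiv₀
    push_cast [Nat.cast_sub hq1] at h
    rw [hindex, hq, hui] at h
    push_cast at h
    have hεε : F.torus.ε * F.torus.ε = 1 := by rcases F.torus.hε with h' | h' <;> rw [h'] <;> rfl
    have he1 : (F.torus.q₁ : ℤ) * ((F.torus.q₁ : ℤ) ^ 2 - 1) =
        8 * (u₁ : ℤ) * ((F.torus.q₁ : ℤ) * (2 * (u₁ : ℤ) + F.torus.ε)) := by
      rw [F.torus.hq, ← hu₁]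
      linear_combination (4 * (u₁ : ℤ) + F.torus.ε) * hεε
    rw [he1, show 8 * ((i : ℤ) * (u₁ : ℤ)) * l * ((m : ℤ) ^ 2 * (4 * (e : ℤ) + η) * (2 * e + η)) =
      8 * (u₁ : ℤ) * ((m : ℤ) ^ 2 * (4 * e + η) * (2 * e + η) * i * l) by ring] at h
    exact (dvd_mul_right _ _).trans (Int.dvd_of_mul_dvd_mul_left (by positivity) h)
  exact arith_contra (i := i) (l := l) Fact.out hp2 hη F.torus.hε hu₁0 F.dvd_u F.torus.hpp
    F.torus.hq hcop hpm hmod (by rw [hme, hui]) F.shape hdiv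

variable (C)

/-- **Case (I).** If `C(a)` is maximal, `[U, b]` is abelian and inverted by `b`. -/
theorem U0_inverted (hmax : IsCoatom C.H) (O : Order C) :
    (∀ x ∈ C.U0, C.b * x * C.b = x⁻¹) ∧ ∀ x ∈ C.U0, ∀ y ∈ C.U0, Commute x y := by
  have hdis : ∀ (q : ℕ) [Fact q.Prime], ∀ x ∈ Op q C.H ⊓ C.U0, x ∈ C.D → x = 1 := by
    intro q _ x hx hxD
    by_contra hx1
    obtain ⟨hq2, -, ⟨F⟩⟩ := C.exists_config hmax hxD hx.1 hx.2 hx1
    exact F.false hmax O hq2
  have hcent : ∀ q : ℕ, q.Prime → ∀ x ∈ LocalB.opIn q C.U0, ∀ v ∈ C.U0, Commute v x := by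
    intro q hq x hx
    haveI : Fact q.Prime := ⟨hq⟩
    have hle : LocalB.opIn q C.U0 ≤ Op q C.H ⊓ C.U0 := le_inf
      (LocalB.le_opIn ((LocalB.opIn_le C.U0).trans C.U0_le_U) (LocalB.isPGroup_opIn C.U0)
        (fun v hv => CfsgLib.DGroup.normalizer_le_normalizer_opIn q C.U0 (C.U_le_normalizer_U0 hv)))
      (LocalB.opIn_le C.U0)
    exact (C.inverted_of_disjoint (inf_le_right.trans C.U0_le_U) (C.H_le_normalizer_P0 q) (hdis q) x
      (hle hx)).2
  haveI := CfsgLib.DGroup.solvable_of_odd C.U0 C.odd_U0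
  have hfit : ∀ v ∈ C.U0, MaxBender.fit C.U0 ≤ centralizer ({v} : Set G) := by
    intro v hv
    rw [MaxBender.fit, Comp.fitting_eq_iSup_pCore, Subgroup.map_iSup]
    exact iSup_le fun q x hx =>
      mem_centralizer_singleton_iff.2 (hcent q (Nat.prime_of_mem_primeFactors q.2) x hx v hv).symm.eq
  have hcomm : ∀ x ∈ C.U0, ∀ y ∈ C.U0, Commute x y := by
    intro x hx y hy
    have hxF : x ∈ MaxBender.fit C.U0 :=
      ⟨⟨x, hx⟩, CfsgLib.Fitting.centralizer_fittingSubgroup_le_of_solvable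
        (mem_centralizer_iff.2 fun z hz => Subtype.ext
          (mem_centralizer_singleton_iff.1 (hfit x hx ⟨z, hz, rfl⟩))), rfl⟩
    exact mem_centralizer_singleton_iff.1 (hfit y hy hxF)
  refine ⟨fun x hx => ?_, hcomm⟩
  suffices h : x ∈ C.U0 ∧ C.b * x * C.b = x⁻¹ from h.2
  have hx' : x ∈ closure {v | v ∈ C.U ∧ C.b * v * C.b = v⁻¹} := hx
  induction hx' using closure_induction with
  | mem v hv => exact ⟨mem_invGen hv.1 hv.2, hv.2⟩
  | one => exact ⟨one_mem _, by rw [mul_one, C.hb.1, inv_one]⟩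
  | inv v _ ih => exact ⟨inv_mem (ih (inv_mem_iff.1 hx)).1, inverted_inv C.hb.1 (ih (inv_mem_iff.1 hx)).2⟩
  | mul v w hv hw ihv ihw =>
    obtain ⟨hv0, hvb⟩ := ihv hv
    obtain ⟨hw0, hwb⟩ := ihw hw
    exact ⟨mul_mem hv0 hw0, by
      rw [invol_mul C.hb.1, hvb, hwb, mul_inv_rev, (hcomm v hv0 w hw0).inv_inv.eq]⟩

end CfsgLib.GW.CaseI.Ctx
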