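import Cfsg.Agent.GW.CaseI.Mixed

/-!
# The shape of `|U₀ : C(d)|`: a central inverted line below the layer
-/

set_option autoImplicit false
set_option linter.style.haveILetI false
set_option linter.unusedSectionVars false

namespace CfsgLib.GW.CaseI.Ctx.Chief

open Subgroup
open CfsgLib.DGroup (coreIn Op conj_mem conj_mem' odd_orderOf eq_one_of_sq eq_one_of_inv_eq)

universe u

variable {G : Type u} [Group G] [Finite G] {C : Ctx G} {p : ℕ} [Fact p.Prime] (S : C.Chief p)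
include S

theorem commute_C0 {c v : G} (hc : c ∈ S.C0) (hv : v ∈ C.U0) : Commute v c :=
  ((S.C0_mem c).1 hc).2.2 v hv

theorem inverted_C0 {c : G} (hc : c ∈ S.C0) : C.b * c * C.b = c⁻¹ := ((S.C0_mem c).1 hc).2.1

theorem eq_one_of_mem_C0 {c : G} (hc : c ∈ S.C0) (hcD : c ∈ C.D) : c = 1 :=
  S.eq_one_of_fixed hcD (S.inverted_C0 hc)

/-- An inverted element of `Y` commuting with a fixed one lies on the line `C₀`. -/
theorem mem_C0_of_commute (hmax : IsCoatom C.H) (hp : C.Good p) {z d i : G} (hz : z ∈ S.C0)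
    (hz1 : z ≠ 1) (hd : d ∈ S.Y) (hdD : d ∈ C.D) (hd1 : d ≠ 1) (hi : i ∈ S.Y)
    (hib : C.b * i * C.b = i⁻¹) (hid : Commute i d) : i ∈ zpowers z := by
  obtain ⟨T⟩ := S.exists_torus' hmax hp hd hdD hd1
  have hzY := S.C0_le hz
  obtain ⟨k, hk⟩ := T.exists_zpow (p := p) (S.le_U hzY) (S.commute_C0 hz (S.le_U0 hd)).symm
    (S.inverted_C0 hz) (S.pow_eq z hzY) hz1 (S.le_U hi) hid hib (S.pow_eq i hi)
  exact mem_zpowers_iff.2 ⟨k, hk.symm⟩

theorem C0_eq_zpowers (hmax : IsCoatom C.H) (hp : C.Good p) {z : G} (hz : z ∈ S.C0) (hz1 : z ≠ 1) :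
    S.C0 = zpowers z := by
  obtain ⟨d, hd, hdD, hd1⟩ := S.meet
  refine le_antisymm (fun i hi => ?_) (zpowers_le.2 hz)
  exact S.mem_C0_of_commute hmax hp hz hz1 hd hdD hd1 (S.C0_le hi) (S.inverted_C0 hi)
    (S.commute_C0 hi (S.le_U0 hd)).symm

theorem card_C0 (hmax : IsCoatom C.H) (hp : C.Good p) {z : G} (hz : z ∈ S.C0) (hz1 : z ≠ 1) :
    Nat.card S.C0 = p := by
  rw [S.C0_eq_zpowers hmax hp hz hz1, Nat.card_zpowers, S.orderOf_eq (S.C0_le hz) hz1]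

/-- The group `w C₀`. -/
theorem exists_line {w : G} (hw : w ∈ S.Y) :
    ∃ N : Subgroup G, N ≤ S.Y ∧ ∀ v, v ∈ N ↔ ∃ n : ℤ, ∃ c ∈ S.C0, v = w ^ n * c := by
  have hcw : ∀ c ∈ S.C0, ∀ n : ℤ, Commute (w ^ n) c := fun c hc n =>
    (S.commute_C0 hc (S.le_U0 hw)).zpow_left n
  refine ⟨{ carrier := {v | ∃ n : ℤ, ∃ c ∈ S.C0, v = w ^ n * c}
            one_mem' := ⟨0, 1, one_mem _, by simp⟩
            mul_mem' := ?_
            inv_mem' := ?_ }, ?_, fun v => Iff.rfl⟩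
  · rintro _ _ ⟨n, c, hc, rfl⟩ ⟨m, e, he, rfl⟩
    refine ⟨n + m, c * e, mul_mem hc he, ?_⟩
    rw [zpow_add, mul_assoc (w ^ n) c, ← mul_assoc c, ← (hcw c hc m).eq]
    group
  · rintro _ ⟨n, c, hc, rfl⟩
    refine ⟨-n, c⁻¹, inv_mem hc, ?_⟩
    rw [mul_inv_rev, ← zpow_neg]
    exact ((hcw c hc (-n)).inv_right).eq.symm
  · rintro _ ⟨n, c, hc, rfl⟩
    exact mul_mem (zpow_mem hw n) (S.C0_le hc)

theorem conj_line {w g : G} {N : Subgroup G}
    (hN : ∀ v, v ∈ N ↔ ∃ n : ℤ, ∃ c ∈ S.C0, v = w ^ n * c) (hg : g ∈ C.H)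
    (h : g * w * g⁻¹ ∈ N) : ∀ v ∈ N, g * v * g⁻¹ ∈ N := by
  intro v hv
  obtain ⟨n, c, hc, rfl⟩ := (hN v).1 hv
  rw [← conj_mul, ← conj_zpow]
  exact mul_mem (zpow_mem h n)
    ((hN _).2 ⟨0, _, conj_mem (S.norm_C0 hg) hc, by rw [zpow_zero, one_mul]⟩)

/-- The layer is abelian modulo a central line which it does not move. -/
theorem config_central (hmax : IsCoatom C.H) (hp2 : p ≠ 2) (hp : C.Good p) {z : G}
    (hz : z ∈ S.C0) (hz1 : z ≠ 1) (hY : ∀ i ∈ S.Y, C.b * i * C.b = i⁻¹ → i ∈ S.C0) :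
    Nonempty (C.Config p) := by
  obtain ⟨d, hd, hdD, hd1⟩ := S.meet
  obtain ⟨T⟩ := S.exists_torus' hmax hp hd hdD hd1
  have hzd : Commute z d := (S.commute_C0 hz (S.le_U0 hd)).symm
  have hcard := S.card_C0 hmax hp hz hz1
  -- commutators with fixed elements lie in `C₀`
  have hS : ∀ e ∈ S.Y, e ∈ C.D → ∀ x ∈ C.U0, x * e * x⁻¹ * e⁻¹ ∈ S.C0 := by
    intro e he heD
    let Se : Subgroup G :=
      { carrier := {x | x ∈ C.U0 ∧ x * e * x⁻¹ * e⁻¹ ∈ S.C0}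
        one_mem' := ⟨one_mem _, by simp⟩
        mul_mem' := fun {x y} hx hy => ⟨mul_mem hx.1 hy.1, by
          rw [show x * y * e * (x * y)⁻¹ * e⁻¹ =
            x * (y * e * y⁻¹ * e⁻¹) * x⁻¹ * (x * e * x⁻¹ * e⁻¹) by group,
            (S.commute_C0 hy.2 hx.1).eq, mul_inv_cancel_right]
          exact mul_mem hy.2 hx.2⟩
        inv_mem' := fun {x} hx => ⟨inv_mem hx.1, by
          rw [show x⁻¹ * e * x⁻¹⁻¹ * e⁻¹ = x⁻¹ * (x * e * x⁻¹ * e⁻¹)⁻¹ * x⁻¹⁻¹ by group,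
            (S.commute_C0 hx.2 (inv_mem hx.1)).inv_right.eq, mul_inv_cancel_right]
          exact inv_mem hx.2⟩ }
    suffices h : C.U0 ≤ Se from fun x hx => (h hx).2
    refine (closure_le _).2 fun x hx => ?_
    have hx0 : x ∈ C.U0 := mem_invGen hx.1 hx.2
    obtain ⟨e', he', he'D, c', hc'Y, hc'b, hxe⟩ := S.split (conj_mem (S.norm (C.U_le_H hx.1)) he)
    have hc' := hY c' hc'Y hc'b
    have h1 : x⁻¹ * e * x = e' * c'⁻¹ := by
      have h2 := congrArg (fun v => C.b * v * C.b) hxe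
      rw [invol_mul C.hb.1, invol_mul C.hb.1, invol_mul C.hb.1, invol_inv C.hb.1, hx.2,
        conj_eq_of_commute C.hb.1 (C.mem_D.1 heD).2, conj_eq_of_commute C.hb.1 (C.mem_D.1 he'D).2,
        hc'b, inv_inv] at h2
      exact h2
    have h2 : x * x * e * (x * x)⁻¹ * e⁻¹ = c' * c' := by
      have h3 : x * e' * x⁻¹ = e * c' := by
        have h4 : e = x * (e' * c'⁻¹) * x⁻¹ := by rw [← h1]; group
        calc x * e' * x⁻¹ = x * (e' * c'⁻¹) * x⁻¹ * (x * c' * x⁻¹) := by group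
          _ = e * c' := by rw [← h4, (S.commute_C0 hc' hx0).eq, mul_inv_cancel_right]
      rw [show x * x * e * (x * x)⁻¹ = x * (x * e * x⁻¹) * x⁻¹ by group, hxe,
        show x * (e' * c') * x⁻¹ = x * e' * x⁻¹ * (x * c' * x⁻¹) by group, h3,
        (S.commute_C0 hc' hx0).eq, mul_inv_cancel_right, mul_assoc e,
        (S.commute_C0 (mul_mem hc' hc') (S.le_U0 he)).eq, mul_inv_cancel_right]
    have hsq : x * x ∈ Se := ⟨mul_mem hx0 hx0, by rw [h2]; exact mul_mem hc' hc'⟩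
    obtain ⟨n, hn⟩ := odd_orderOf C.odd_U hx.1
    have hxe' : x = (x * x) ^ (n + 1) := by
      rw [← pow_two, ← pow_mul, show 2 * (n + 1) = orderOf x + 1 by omega, pow_succ,
        pow_orderOf_eq_one, one_mul]
    show x ∈ Se
    rw [hxe']
    exact pow_mem hsq _
  let ψ : ∀ e : G, e ∈ S.Y → e ∈ C.D → (C.U0 →* S.C0) := fun e he heD =>
    MonoidHom.mk' (fun x => ⟨(x : G) * e * (x : G)⁻¹ * e⁻¹, hS e he heD x x.2⟩) fun x y => by
      refine Subtype.ext ?_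
      show (x : G) * y * e * ((x : G) * y)⁻¹ * e⁻¹ =
        (x : G) * e * (x : G)⁻¹ * e⁻¹ * ((y : G) * e * (y : G)⁻¹ * e⁻¹)
      rw [show (x : G) * y * e * ((x : G) * y)⁻¹ * e⁻¹ =
        (x : G) * ((y : G) * e * (y : G)⁻¹ * e⁻¹) * (x : G)⁻¹ * ((x : G) * e * (x : G)⁻¹ * e⁻¹) by group,
        (S.commute_C0 (hS e he heD y y.2) x.2).eq, mul_inv_cancel_right]
      exact ((S.commute_C0 (hS e he heD x x.2) (S.le_U0 (S.C0_le (hS e he heD y y.2)))).eq)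
  have hker : ∀ e (he : e ∈ S.Y) (heD : e ∈ C.D),
      (ψ e he heD).ker = (centralizer ({e} : Set G)).subgroupOf C.U0 := fun e he heD => by
    ext x
    rw [MonoidHom.mem_ker, mem_subgroupOf, mem_centralizer_singleton_iff, Subtype.ext_iff]
    show (x : G) * e * (x : G)⁻¹ * e⁻¹ = 1 ↔ _
    rw [mul_inv_eq_one, mul_inv_eq_iff_eq_mul]
  have hidx : ∀ e (he : e ∈ S.Y) (_ : e ∈ C.D), e ≠ 1 →
      (centralizer ({e} : Set G)).relIndex C.U0 = p := by
    intro e he heD he1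
    obtain ⟨T'⟩ := S.exists_torus' hmax hp he heD he1
    obtain ⟨x, hx, hxb, hxe⟩ := T'.exists_not_commute heD (S.le_U0 he) he1
    rw [relIndex, ← hker e he heD, index_ker]
    have hdvd : Nat.card (ψ e he heD).range ∣ p := by
      exact (card_subgroup_dvd_card _).trans hcard.dvd
    refine ((Fact.out : p.Prime).eq_one_or_self_of_dvd _ hdvd).resolve_left fun h => ?_
    have h' : ψ e he heD ⟨x, mem_invGen hx hxb⟩ ∈ (⊥ : Subgroup S.C0) := by
      rw [← card_eq_one.1 h]; exact ⟨_, rfl⟩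
    have h'' := congrArg Subtype.val (mem_bot.1 h')
    exact hxe (mul_inv_eq_iff_eq_mul.1 (mul_inv_eq_one.1 h''))
  obtain ⟨g, hg, hgd, hgb, hgo, hggen⟩ := T.exists_gen hdD
  obtain ⟨x₀, hx₀, hx₀b, hx₀d⟩ := T.exists_not_commute hdD (S.le_U0 hd) hd1
  have hg0 : g ∈ C.U0 := mem_invGen hg hgb
  have hx00 : x₀ ∈ C.U0 := mem_invGen hx₀ hx₀b
  have hfixU : ∀ e ∈ S.Y, e ∈ C.D → ∀ v ∈ C.D, v ∈ C.U0 → Commute v e := fun e he heD v hv hv0 =>
    mul_inv_eq_iff_eq_mul.1 (mul_inv_eq_one.1 (S.eq_one_of_mem_C0 (hS e he heD v hv0)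
      (mul_mem (mul_mem (mul_mem hv heD) (inv_mem hv)) (inv_mem heD))))
  -- a fixed element is determined by its commutators with `g` and `x₀`
  have hdet : ∀ e ∈ S.Y, e ∈ C.D → Commute g e → Commute x₀ e → e = 1 := by
    intro e he heD hge hxe
    by_contra he1
    have hle : (C.U0 ⊓ centralizer ({d} : Set G)) ≤ C.U0 ⊓ centralizer ({e} : Set G) := by
      rintro v ⟨hv0, hvd⟩
      obtain ⟨c, hc, i, hi, hcb, hib, rfl⟩ := exists_split C.hb.1
        (C.odd_U.of_dvd_nat (card_dvd_of_le inf_le_left)) (T.b_normalizer_inf hdD)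
        (⟨C.U0_le_U hv0, hvd⟩ : v ∈ C.U ⊓ centralizer ({d} : Set G))
      have hiU : i ∈ C.U := hi.1
      obtain ⟨k, hk⟩ := mem_zpowers_iff.1 (hggen i hiU (mem_centralizer_singleton_iff.1 hi.2) hib)
      have hc0 : c ∈ C.U0 := by
        have := mul_mem (show c * i ∈ C.U0 from hv0) (inv_mem (show i ∈ C.U0 from mem_invGen hiU hib))
        rwa [mul_inv_cancel_right] at this
      refine ⟨hv0, mem_centralizer_singleton_iff.2 ((hfixU e he heD c (C.mem_D.2 ⟨hc.1, hcb⟩) hc0).mul_left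
        ?_).eq⟩
      rw [← hk]; exact hge.zpow_left k
    have h1 : (C.U0 ⊓ centralizer ({d} : Set G)).relIndex C.U0 =
        (C.U0 ⊓ centralizer ({e} : Set G)).relIndex C.U0 := by
      rw [inf_relIndex_left, inf_relIndex_left, hidx d hd hdD hd1, hidx e he heD he1]
    have h2 := relIndex_mul_relIndex _ _ C.U0 hle inf_le_left
    have hne : (C.U0 ⊓ centralizer ({e} : Set G)).relIndex C.U0 ≠ 0 := by
      rw [inf_relIndex_left, hidx e he heD he1]; exact (Fact.out : p.Prime).ne_zero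
    rw [h1, Nat.mul_eq_right hne, relIndex_eq_one] at h2
    exact hx₀d (mem_centralizer_singleton_iff.1
      (h2 ⟨hx00, mem_centralizer_singleton_iff.2 hxe.eq⟩).2)
  set A := S.Y ⊓ C.D with hA
  let Φ : A → S.C0 × S.C0 := fun e => (ψ e e.2.1 e.2.2 ⟨g, hg0⟩, ψ e e.2.1 e.2.2 ⟨x₀, hx00⟩)
  have hcomm_of_eq : ∀ (v : G) (hv : v ∈ C.U0) (e₁ e₂ : A),
      ψ e₁ e₁.2.1 e₁.2.2 ⟨v, hv⟩ = ψ e₂ e₂.2.1 e₂.2.2 ⟨v, hv⟩ → Commute v ((e₁ : G)⁻¹ * e₂) := by
    intro v hv e₁ e₂ h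
    have h' : v * (e₁ : G) * v⁻¹ * (e₁ : G)⁻¹ = v * (e₂ : G) * v⁻¹ * (e₂ : G)⁻¹ :=
      congrArg Subtype.val h
    refine mul_inv_eq_iff_eq_mul.1 ?_
    calc v * ((e₁ : G)⁻¹ * e₂) * v⁻¹
        = (v * (e₁ : G) * v⁻¹ * (e₁ : G)⁻¹ * e₁)⁻¹ * (v * (e₂ : G) * v⁻¹ * (e₂ : G)⁻¹ * e₂) := by
          group
      _ = (v * (e₁ : G) * v⁻¹ * (e₁ : G)⁻¹ * e₁)⁻¹ * (v * (e₁ : G) * v⁻¹ * (e₁ : G)⁻¹ * e₂) := by
          rw [h']
      _ = (e₁ : G)⁻¹ * e₂ := by group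
  have hΦ : Function.Injective Φ := fun e₁ e₂ h => Subtype.ext (inv_mul_eq_one.1 (hdet _
    (mul_mem (inv_mem e₁.2.1) e₂.2.1) (mul_mem (inv_mem e₁.2.2) e₂.2.2)
    (hcomm_of_eq g hg0 e₁ e₂ (congrArg Prod.fst h)) (hcomm_of_eq x₀ hx00 e₁ e₂ (congrArg Prod.snd h))))
  have hA2 : Nat.card A ≤ p * p := by
    have := Nat.card_le_card_of_injective Φ hΦ
    rwa [Nat.card_prod, hcard] at this
  have hdA : zpowers d ≤ A := zpowers_le.2 ⟨hd, hdD⟩
  have hdo : orderOf d = p := S.orderOf_eq hd hd1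
  refine ⟨⟨d, hdD, S.le_U0 hd, S.le_O hd, hd1, T, S.dvd_u T hdD (S.C0_le hz) hz1 (S.inverted_C0 hz) hzd,
    hfixU d hd hdD, ?_⟩⟩
  rw [inf_relIndex_left, hidx d hd hdD hd1]
  by_cases hAp : Nat.card A ≤ p
  · have hAeq : zpowers d = A := eq_of_le_of_card_ge hdA (by rw [Nat.card_zpowers, hdo]; exact hAp)
    rw [S.relIndex_line hd hdD fun w hw hwD => hAeq.symm ▸ (⟨hw, hwD⟩ : w ∈ A)]
    exact ⟨1, odd_one, (Fact.out : p.Prime).one_le, (Fact.out : p.Prime).not_dvd_one,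
      Or.inr (Or.inl ⟨(mul_one p).symm, rfl⟩)⟩
  -- `p²` divides `u₁`
  have hp2u : p ^ 2 ∣ T.u₁ := by
    obtain ⟨r, hr⟩ := S.dvd_u T hdD (S.C0_le hz) hz1 (S.inverted_C0 hz) hzd
    by_contra hnd
    have hpr : ¬ p ∣ r := fun ⟨s, hs⟩ => hnd ⟨s, by rw [hr, hs, pow_two, mul_assoc]⟩
    refine hAp (((Nat.card_le_card_of_injective (fun e => (Φ e).2) fun e₁ e₂ h => hΦ (Prod.ext ?_ h)).trans
      hcard.le))
    have hr0 : r ≠ 0 := fun h => hpr (h ▸ dvd_zero p)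
    have hgr : (g ^ r) ^ p = 1 := by rw [← pow_mul, mul_comm, ← hr, ← hgo, pow_orderOf_eq_one]
    obtain ⟨k, hk⟩ : ∃ k : ℤ, g ^ r = z ^ k := T.exists_zpow (p := p) (S.le_U (S.C0_le hz)) hzd
      (S.inverted_C0 hz) (S.pow_eq z (S.C0_le hz)) hz1 (pow_mem hg r) (hgd.pow_left r)
      (by rw [← conj_invol_eq C.hb.1, ← conj_pow, conj_invol_eq C.hb.1, hgb, inv_pow]) hgr
    have hone : ∀ e : A, (Φ e).1 = 1 := by
      intro e
      have h1 : (Φ e).1 ^ r = 1 := by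
        show ψ e e.2.1 e.2.2 ⟨g, hg0⟩ ^ r = 1
        rw [← map_pow]
        refine Subtype.ext ?_
        show g ^ r * (e : G) * (g ^ r)⁻¹ * (e : G)⁻¹ = 1
        rw [hk, ← ((S.commute_C0 (zpow_mem hz k) (S.le_U0 e.2.1))).eq, mul_inv_cancel_right,
          mul_inv_cancel]
      have h2 : (Φ e).1 ^ p = 1 := Subtype.ext (S.pow_eq _ (S.C0_le (Φ e).1.2))
      exact orderOf_eq_one_iff.1 (Nat.eq_one_of_dvd_coprimes
        ((Fact.out : p.Prime).coprime_iff_not_dvd.2 hpr) (orderOf_dvd_of_pow_eq_one h2)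
        (orderOf_dvd_of_pow_eq_one h1))
    rw [hone, hone]
  -- the orbit of the line
  set ND := C.D ⊓ normalizer (zpowers d : Set G) with hND
  have hl1 : 1 ≤ ND.relIndex C.D := Nat.one_le_iff_ne_zero.2 index_ne_zero_of_finite
  have hlo : Odd (ND.relIndex C.D) := C.odd_D.of_dvd_nat (index_dvd_card _)
  have hlp : ND.relIndex C.D * (p - 1) ≤ p * p - 1 := by
    let f : (C.D ⧸ ND.subgroupOf C.D) × Fin (p - 1) → {e : A // e ≠ 1} := fun qn =>
      ⟨⟨(qn.1.out : G) * d ^ (qn.2.1 + 1) * (qn.1.out : G)⁻¹,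
        conj_mem (S.norm (C.U_le_H (C.D_le_U qn.1.out.2))) (pow_mem hd _),
        (mul_mem (mul_mem qn.1.out.2 (pow_mem hdD _)) (inv_mem qn.1.out.2) :
          (qn.1.out : G) * d ^ (qn.2.1 + 1) * (qn.1.out : G)⁻¹ ∈ C.D)⟩, fun h => by
          have h1 : (qn.1.out : G) * d ^ (qn.2.1 + 1) * (qn.1.out : G)⁻¹ = 1 :=
            congrArg Subtype.val h
          have h2 := orderOf_dvd_of_pow_eq_one (conj_eq_one_iff.1 h1)
          rw [hdo] at h2
          have := Nat.le_of_dvd (Nat.succ_pos _) h2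
          have := qn.2.2
          omega⟩
    have hf : Function.Injective f := by
      rintro ⟨q₁, n₁⟩ ⟨q₂, n₂⟩ h
      have h1 : (q₁.out : G) * d ^ (n₁.1 + 1) * (q₁.out : G)⁻¹ =
          (q₂.out : G) * d ^ (n₂.1 + 1) * (q₂.out : G)⁻¹ :=
        congrArg (fun e : {e : A // e ≠ 1} => ((e : A) : G)) h
      set t : G := (q₂.out : G)⁻¹ * q₁.out with ht
      have h2 : t * d ^ (n₁.1 + 1) * t⁻¹ = d ^ (n₂.1 + 1) := by
        calc t * d ^ (n₁.1 + 1) * t⁻¹ = (q₂.out : G)⁻¹ *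
              ((q₁.out : G) * d ^ (n₁.1 + 1) * (q₁.out : G)⁻¹) * q₂.out := by rw [ht]; group
          _ = _ := by rw [h1]; group
      have hgen : ∀ n : Fin (p - 1), zpowers (d ^ (n.1 + 1)) = zpowers d := fun n => by
        refine eq_of_le_of_card_ge (zpowers_le.2 (npow_mem_zpowers d _)) ?_
        rw [Nat.card_zpowers, Nat.card_zpowers, hdo, orderOf_pow' d (Nat.succ_ne_zero _), hdo,
          Nat.coprime_iff_gcd_eq_one.1 ((Fact.out : p.Prime).coprime_iff_not_dvd.2 fun h => by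
            have := Nat.le_of_dvd (Nat.succ_pos _) h
            have := n.2
            omega), Nat.div_one]
      have ht' : t ∈ normalizer (zpowers d : Set G) := by
        refine mem_normalizer_iff_map_conj_eq.2 ?_
        show (zpowers d).map (MulAut.conj t).toMonoidHom = zpowers d
        conv_lhs => rw [← hgen n₁, MonoidHom.map_zpowers]
        show zpowers (t * d ^ (n₁.1 + 1) * t⁻¹) = zpowers d
        rw [h2, hgen]
      have hq : q₁ = q₂ := by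
        rw [← q₁.out_eq', ← q₂.out_eq']
        exact (QuotientGroup.eq.2 (show q₂.out⁻¹ * q₁.out ∈ ND.subgroupOf C.D from
          ⟨(q₂.out⁻¹ * q₁.out).2, ht'⟩)).symm
      subst hq
      refine Prod.ext rfl (Fin.ext ?_)
      have h3 : d ^ (n₁.1 + 1) = d ^ (n₂.1 + 1) := by simpa using h1
      have := n₁.2
      have := n₂.2
      have h4 : n₁.1 + 1 ≡ n₂.1 + 1 [MOD p] := by
        have := pow_eq_pow_iff_modEq.1 h3
        rwa [hdo] at this
      have := h4.eq_of_lt_of_lt (by omega) (by omega)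
      show n₁.1 = n₂.1
      omega
    have h := Nat.card_le_card_of_injective f hf
    rw [Nat.card_prod, Nat.card_fin] at h
    refine h.trans ?_
    have hlt : Nat.card {e : A // e ≠ 1} < Nat.card A :=
      Finite.card_subtype_lt (p := fun e : A => e ≠ 1) (x := 1) (by simp)
    omega
  refine ⟨1, odd_one, (Fact.out : p.Prime).one_le, (Fact.out : p.Prime).not_dvd_one,
    Or.inr (Or.inr ⟨rfl, rfl, hp2u, hl1, ?_⟩)⟩
  have hp3 : 3 ≤ p := lt_of_le_of_ne (Fact.out : p.Prime).two_le (Ne.symm hp2)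
  obtain ⟨j, hj⟩ := hlo
  obtain ⟨k, hk⟩ := (Fact.out : p.Prime).odd_of_ne_two hp2
  by_contra hlt
  have hge : p + 2 ≤ ND.relIndex C.D := by omega
  have h5 := Nat.mul_le_mul_right (p - 1) hge
  obtain ⟨q, rfl⟩ : ∃ q, p = q + 1 := ⟨p - 1, by omega⟩
  simp only [Nat.add_sub_cancel] at h5 hlp
  have : (q + 1) * (q + 1) - 1 = q * q + 2 * q := Nat.sub_eq_of_eq_add (by ring)
  nlinarith

end CfsgLib.GW.CaseI.Ctx.Chief
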