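import Cfsg.Agent.GW.CaseI.Invariant

/-!
# The odd core of the centraliser of a fixed `p`-element of `O_p(U)` is centralised by `V`
-/

set_option autoImplicit false
set_option linter.style.haveILetI false
set_option linter.unusedSectionVars false

namespace CfsgLib.GW.CaseI.Ctx

open Subgroup
open CfsgLib.NormCyclic (Inv)
open CfsgLib.DGroup (coreIn Op conj_mem conj_mem' odd_orderOf eq_one_of_sq eq_one_of_inv_eq)

universe u

variable {G : Type u} [Group G] [Finite G] (C : Ctx G)
include C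

/-- An inverted `r`-element of `C(d)` normalised by the centraliser is trivial when `r` is no good
prime. -/
theorem inverted_eq_one_of_not_good {p r : ℕ} [Fact p.Prime] [Fact r.Prime] (hr : r ≠ 2)
    (hp : C.Good p) (hrG : ¬ C.Good r) {d i : G} (hdO : d ∈ Op p C.H)
    (hiY : i ∈ Op r (centralizer ({d} : Set G))) (hiU : i ∈ C.U)
    (hib : C.b * i * C.b = i⁻¹) : i = 1 := by
  set K := centralizer ({d} : Set G) with hK
  obtain ⟨j, hj⟩ := exists_pow_of_isPGroup (CfsgLib.DGroup.isPGroup_Op r K) hiY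
  by_cases hdvd : r ∣ Nat.card C.U0
  swap
  · exact orderOf_eq_one_iff.1 (Nat.eq_one_of_dvd_coprimes
      (((Fact.out : r.Prime).coprime_iff_not_dvd.2 hdvd).pow_left j) (orderOf_dvd_of_pow_eq_one hj)
      (Subgroup.orderOf_dvd_natCard _ (mem_invGen hiU hib)))
  have hbot : Op r C.H = ⊥ := by
    by_contra h
    exact hrG ⟨Fact.out, hr, hdvd, h⟩
  have hrp : r ≠ p := fun e => hp.2.2.2 (e ▸ hbot)
  have hiK : i ∈ K := CfsgLib.DGroup.coreIn_le _ (CfsgLib.DGroup.Op_le r K hiY)
  have hiH : i ∈ C.H := C.U_le_H hiU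
  -- `i` commutes with the centraliser of `d` in every `O_q(U)`
  have hcent : ∀ q : ℕ, q.Prime → q ≠ r → ∀ z ∈ Op q C.H, z ∈ K → Commute z i := by
    intro q hq hqr z hz hzK
    haveI : Fact q.Prime := ⟨hq⟩
    exact CfsgLib.DGroup.commute_of_pq hqr (CfsgLib.DGroup.isPGroup_Op q C.H)
      (CfsgLib.DGroup.isPGroup_Op r K) hz hiY (CfsgLib.DGroup.le_normalizer_Op r K hzK)
      (CfsgLib.DGroup.le_normalizer_Op q C.H hiH)
  have hall : ∀ q : ℕ, q.Prime → ∀ z ∈ Op q C.H, Commute z i := by
    intro q hq z hz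
    haveI : Fact q.Prime := ⟨hq⟩
    by_cases hqr : q = r
    · subst hqr
      rw [hbot, mem_bot] at hz
      rw [hz]; exact Commute.one_left i
    by_cases hqp : q = p
    · subst hqp
      -- Thompson's lemma
      have hdp : IsPGroup q (zpowers d) := (CfsgLib.DGroup.isPGroup_Op q C.H).to_le (zpowers_le.2 hdO)
      have hcop : (Nat.card (zpowers i)).Coprime q := by
        rw [Nat.card_zpowers]
        exact Nat.Coprime.of_dvd_left (orderOf_dvd_of_pow_eq_one hj)
          (((Nat.coprime_primes Fact.out Fact.out).2 hrp).pow_left j)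
      have hdi : Commute d i := (mem_centralizer_singleton_iff.1 hiK).symm
      have h := CfsgLib.CoprimeAct.p_times_q_aux _ q (zpowers d) (zpowers i) (Op q C.H) rfl hdp hcop
        (CfsgLib.DGroup.isPGroup_Op q C.H)
        (zpowers_le.2 (mem_centralizer_iff.2 fun x hx => by
          obtain ⟨k, rfl⟩ := mem_zpowers_iff.1 hx
          exact (hdi.zpow_right k).eq.symm))
        (zpowers_le.2 (le_normalizer hdO))
        (zpowers_le.2 (CfsgLib.DGroup.le_normalizer_Op q C.H hiH)) (fun x hx => by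
          have hxd : x * d = d * x := (mem_centralizer_iff.1 hx.2 d (mem_zpowers d)).symm
          have hxi := hcent q hq hqr x hx.1 (mem_centralizer_singleton_iff.2 hxd)
          refine mem_centralizer_iff.2 fun w hw => ?_
          obtain ⟨k, rfl⟩ := mem_zpowers_iff.1 hw
          exact (hxi.zpow_right k).eq.symm)
      rw [commutator_eq_bot_iff_le_centralizer] at h
      exact (mem_centralizer_iff.1 (h hz) i (mem_zpowers i)).symm
    · exact hcent q hq hqr z hz (mem_centralizer_singleton_iff.2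
        (CfsgLib.DGroup.Op_commute hqp hz hdO).eq)
  have := CfsgLib.DGroup.mem_Op_of_commute (M := C.H) (p := r) hiU ⟨j, hj⟩ hall
  rwa [hbot, mem_bot] at this

/-- The odd core of `C(d)` lies in `D`. -/
theorem coreIn_le_D (hmax : IsCoatom C.H) {p : ℕ} [Fact p.Prime] (hp : C.Good p) {d : G}
    (hdD : d ∈ C.D) (hdO : d ∈ Op p C.H) : coreIn (centralizer ({d} : Set G)) ≤ C.D := by
  obtain ⟨hdU, hdb⟩ := C.mem_D.1 hdD
  set K := centralizer ({d} : Set G) with hK
  have hfus : C.Fus K := C.fus_centralizer hmax hp hdD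
    (exists_pow_of_isPGroup (CfsgLib.DGroup.isPGroup_Op p C.H) hdO)
  have haK : C.a ∈ K := mem_centralizer_singleton_iff.2 (C.commute_a hdU).eq.symm
  have hbK : C.b ∈ K := mem_centralizer_singleton_iff.2 hdb.eq.symm
  have hVK : C.V ≤ K := (closure_le _).2 (by rintro x (rfl | rfl); exacts [haK, hbK])
  obtain ⟨n, hn, -, hna, hnb, hnc⟩ := C.exists_cycle haK hbK hfus
  have hDn : ∀ v ∈ C.V, v ∈ normalizer (C.D : Set G) := fun v hv => by
    refine centralizer_le_normalizer _ (mem_centralizer_iff.2 fun z hz => ?_)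
    obtain ⟨hzU, hzb⟩ := C.mem_D.1 hz
    rcases C.mem_V.1 hv with rfl | rfl | rfl | rfl
    exacts [(Commute.one_right z).eq, (C.commute_a hzU).eq, hzb.eq, (C.commute_c hzU hzb).eq]
  -- every `O_r` of the core is centralised by `V`
  have hOp : ∀ r : ℕ, r.Prime → Op r K ≤ C.D := by
    intro r hr
    haveI : Fact r.Prime := ⟨hr⟩
    have hYn : K ≤ normalizer (Op r K : Set G) := CfsgLib.DGroup.le_normalizer_Op r K
    by_cases hr2 : r = 2
    · subst hr2
      intro y hy
      obtain ⟨j, hj⟩ := exists_pow_of_isPGroup (CfsgLib.DGroup.isPGroup_Op 2 K) hy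
      have ho := odd_orderOf (CfsgLib.DGroup.odd_Op 2 K) hy
      rw [orderOf_eq_one_iff.1 (Nat.eq_one_of_dvd_coprimes ((Nat.coprime_two_right.2 ho).pow_right j)
        dvd_rfl (orderOf_dvd_of_pow_eq_one hj))]
      exact one_mem _
    by_cases hrG : C.Good r
    · exact C.le_D_of_fus hr2 (fun P hP => C.exists_sylow_eq hmax hrG hP)
        (CfsgLib.DGroup.isPGroup_Op r K) (hVK.trans hYn)
        (let ⟨g, hg, h⟩ := hfus; ⟨g, hYn hg, h⟩)
    have hodd : Odd (Nat.card (Op r K)) := CfsgLib.DGroup.odd_Op r K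
    have key : ∀ y ∈ Op r K, Commute y C.a → Commute y C.b := by
      intro y hy hya
      set Y := Op r K ⊓ C.U with hY
      have hyY : y ∈ Y := ⟨hy, C.mem_U_of_odd (C.mem_H.2 hya) (odd_orderOf hodd hy)⟩
      have hbY : C.b ∈ normalizer (Y : Set G) := mem_normalizer_iff.2 fun x => by
        rw [hY, mem_inf, mem_inf, mem_normalizer_iff.1 (hYn hbK) x,
          mem_normalizer_iff.1 C.b_norm_U x]
      obtain ⟨c, hc, i, hi, hcb, hib, e⟩ :=
        exists_split C.hb.1 (hodd.of_dvd_nat (card_dvd_of_le inf_le_left)) hbY hyY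
      rw [C.inverted_eq_one_of_not_good hr2 hp hrG hdO hi.1 hi.2 hib, mul_one] at e
      rw [e]; exact hcb
    refine CfsgLib.Bender.GSide.le_of_four (hr.odd_of_ne_two hr2) (CfsgLib.DGroup.isPGroup_Op r K)
      C.ha.orderOf C.hb.orderOf C.hab (hYn haK) (hYn hbK) (hDn _ C.a_mem_V) (hDn _ C.b_mem_V) ?_
    intro w y hw hy hwy
    suffices h : Commute y C.a ∧ Commute y C.b from C.mem_D_of_odd h.1 h.2 (odd_orderOf hodd hy)
    have h1 : n⁻¹ * y * n ∈ Op r K := conj_mem' (hYn hn) hy
    have h2 : n * y * n⁻¹ ∈ Op r K := conj_mem (hYn hn) hy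
    rcases hw with rfl | rfl | rfl
    · exact ⟨hwy.symm, key y hy hwy.symm⟩
    · have h3 : Commute (n⁻¹ * y * n) C.a := by
        have := (Commute.conj_iff n⁻¹).2 hwy.symm
        rwa [inv_inv, show n⁻¹ * C.b * n = C.a by rw [← hna]; group] at this
      have h4 := (Commute.conj_iff n).2 (key _ h1 h3)
      rw [show n * (n⁻¹ * y * n) * n⁻¹ = y by group, hnb] at h4
      refine ⟨?_, hwy.symm⟩
      have h5 := h4.mul_right hwy.symm
      rwa [c, mul_assoc, C.hb.1, mul_one] at h5
    · have hwy' : Commute y C.c := hwy.symm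
      have h3 : Commute (n * y * n⁻¹) C.a := by
        have := (Commute.conj_iff n).2 hwy'
        rwa [hnc] at this
      have h4 := (Commute.conj_iff n⁻¹).2 (key _ h2 h3)
      rw [inv_inv, show n⁻¹ * (n * y * n⁻¹) * n = y by group,
        show n⁻¹ * C.b * n = C.a by rw [← hna]; group] at h4
      refine ⟨h4, ?_⟩
      have h5 := h4.mul_right hwy'
      rwa [c, ← mul_assoc, C.ha.1, one_mul] at h5
  -- `[W, V] = 1`
  intro x hx
  have main : ∀ v ∈ C.V, v * v = 1 → (∀ q : ℕ, q.Prime → ∀ z ∈ Op q K, Commute z v) → Commute x v := by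
    intro v hv hvv hvq
    have hvK := hVK hv
    set e := v * x * v * x⁻¹ with he
    have heW : e ∈ coreIn K := by
      refine mul_mem ?_ (inv_mem hx)
      have := conj_mem (CfsgLib.DGroup.normalizer_coreIn K hvK) hx
      rwa [inv_eq_of_mul_eq_one_right hvv] at this
    have hfit : e ∈ MaxBender.fit (coreIn K) := by
      refine CfsgLib.DGroup.mem_fit_of_commute heW fun q hq z hz => ?_
      haveI : Fact q.Prime := ⟨hq⟩
      have hxn := CfsgLib.DGroup.coreIn_le_normalizer_Op q K hx
      have hw := hvq q hq _ (conj_mem' hxn hz)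
      have h1 : Commute z (x * v * x⁻¹) := by
        have := (Commute.conj_iff x).2 hw
        rwa [show x * (x⁻¹ * z * x) * x⁻¹ = z by group] at this
      have h2 := (hvq q hq z hz).mul_right h1
      rwa [show v * (x * v * x⁻¹) = e by rw [he]; group] at h2
    have hev : Commute e v :=
      mem_centralizer_singleton_iff.1 (CfsgLib.DGroup.fit_le_centralizer hvq hfit)
    have hinv : v * e * v = e⁻¹ := by
      rw [he]
      simp only [mul_inv_rev, inv_inv, inv_eq_of_mul_eq_one_right hvv, mul_assoc, ← mul_assoc v v,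
        hvv, one_mul]
    rw [conj_eq_of_commute hvv hev] at hinv
    have he1 : v * x * v * x⁻¹ = 1 :=
      eq_one_of_inv_eq hinv.symm (odd_orderOf (CfsgLib.DGroup.odd_coreIn K) heW)
    exact commute_of_conj_eq hvv (mul_inv_eq_one.1 he1)
  have hqa : ∀ q : ℕ, q.Prime → ∀ z ∈ Op q K, Commute z C.a := fun q hq z hz =>
    C.commute_a (C.D_le_U (hOp q hq hz))
  have hqb : ∀ q : ℕ, q.Prime → ∀ z ∈ Op q K, Commute z C.b := fun q hq z hz =>
    (C.mem_D.1 (hOp q hq hz)).2
  exact C.mem_D_of_odd (main _ C.a_mem_V C.ha.1 hqa) (main _ C.b_mem_V C.hb.1 hqb)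
    (odd_orderOf (CfsgLib.DGroup.odd_coreIn K) hx)

end CfsgLib.GW.CaseI.Ctx
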