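import Cfsg.Agent.GW.CaseI.Real
import Cfsg.Agent.DGroup.Fusion

/-!
# Fusion in the four group inside a subgroup
-/

set_option autoImplicit false
set_option linter.style.haveILetI false
set_option linter.unusedSectionVars false

namespace CfsgLib.GW.CaseI.Ctx

open Subgroup
open CfsgLib.NormCyclic (Inv)
open CfsgLib.DGroup (conj_mem conj_mem')

universe u

variable {G : Type u} [Group G] [Finite G] (C : Ctx G)
include C

/-- `M` fuses `a` with another involution of the four group. -/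
def Fus (M : Subgroup G) : Prop :=
  ∃ g ∈ M, g * C.a * g⁻¹ = C.b ∨ g * C.a * g⁻¹ = C.c

theorem Fus.mono {C : Ctx G} {M N : Subgroup G} (h : C.Fus M) (hle : M ≤ N) : C.Fus N :=
  let ⟨g, hg, h'⟩ := h
  ⟨g, hle hg, h'⟩

theorem a_ne_c : C.a ≠ C.c := fun h => C.hb.2 (mul_eq_left.1 h.symm)

theorem b_ne_c : C.b ≠ C.c := fun h => C.ha.2 (mul_eq_right.1 h.symm)

/-- Conjugation by `n ∈ N(V)` of the third involution. -/
theorem conj_c_eq (n : G) : n * C.c * n⁻¹ = n * C.a * n⁻¹ * (n * C.b * n⁻¹) := by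
  rw [c]; group

/-- An element of `N(V)` cannot exchange two involutions of `V` and fix the third. -/
theorem not_swap {n x y : G} (hn : n ∈ normalizer (C.V : Set G)) (hx : x ∈ C.V)
    (hne : x ≠ y) (hxy : n * x * n⁻¹ = y) (hyx : n * y * n⁻¹ = x) : False := by
  haveI : Fact (Nat.Prime 2) := ⟨Nat.prime_two⟩
  obtain ⟨k, m, hm, he⟩ := Nat.exists_eq_two_pow_mul_odd (orderOf_pos n).ne'
  have h2 : ∀ j : ℕ, n ^ (2 * j) * x * (n ^ (2 * j))⁻¹ = x := by
    intro j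
    induction j with
    | zero => simp
    | succ j ih =>
      rw [show n ^ (2 * (j + 1)) = n * n * n ^ (2 * j) by
        rw [show 2 * (j + 1) = 1 + 1 + 2 * j by omega, pow_add, pow_add, pow_one],
        show n * n * n ^ (2 * j) * x * (n * n * n ^ (2 * j))⁻¹ =
          n * (n * (n ^ (2 * j) * x * (n ^ (2 * j))⁻¹) * n⁻¹) * n⁻¹ by group, ih, hxy, hyx]
  obtain ⟨j, rfl⟩ := hm
  set w := n ^ (2 * j + 1) with hw
  have hwx : w * x * w⁻¹ = y := by
    rw [hw, show n ^ (2 * j + 1) = n * n ^ (2 * j) by rw [pow_succ'],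
      show n * n ^ (2 * j) * x * (n * n ^ (2 * j))⁻¹ =
        n * (n ^ (2 * j) * x * (n ^ (2 * j))⁻¹) * n⁻¹ by group, h2, hxy]
  have hp : IsPGroup 2 (zpowers w) := by
    refine IsPGroup.of_card (n := k) ?_
    rw [Nat.card_zpowers, hw, orderOf_pow, he, Nat.gcd_eq_right (dvd_mul_left _ _),
      Nat.mul_div_cancel _ (by omega)]
  have hwn : zpowers w ≤ normalizer (C.V : Set G) := zpowers_le.2 (pow_mem hn _)
  have hsup : IsPGroup 2 ↥(zpowers w ⊔ C.V) := hp.to_sup_of_normal_right' C.isPGroup_V hwn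
  obtain ⟨S, hS⟩ := hsup.exists_le_sylow
  have hV : C.V = (S : Subgroup G) :=
    eq_of_le_of_card_ge (le_sup_right.trans hS) (by rw [C.sylow S, C.card_V])
  have hwV : w ∈ C.V := hV ▸ hS (mem_sup_left (mem_zpowers w))
  rw [(C.commute_of_mem_V hwV hx).eq, mul_inv_cancel_right] at hwx
  exact hne hwx

theorem conj_cases {n : G} (hn : n ∈ normalizer (C.V : Set G)) {x : G} (hx : x ∈ C.V) (hx1 : x ≠ 1) :
    n * x * n⁻¹ = C.a ∨ n * x * n⁻¹ = C.b ∨ n * x * n⁻¹ = C.c := by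
  rcases C.mem_V.1 (conj_mem hn hx) with h | h
  · exact absurd (conj_eq_one_iff.1 h) hx1
  · exact h

theorem conj_ne {n x y : G} (hne : x ≠ y) : n * x * n⁻¹ ≠ n * y * n⁻¹ := fun h => hne (by simpa using h)

/-- An element of `N(V)` either centralises `V` or permutes its involutions cyclically. -/
theorem normalizer_cases {n : G} (hn : n ∈ normalizer (C.V : Set G)) :
    (Commute n C.a ∧ Commute n C.b) ∨
      (n * C.a * n⁻¹ = C.b ∧ n * C.b * n⁻¹ = C.c ∧ n * C.c * n⁻¹ = C.a) ∨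
      (n * C.a * n⁻¹ = C.c ∧ n * C.b * n⁻¹ = C.a ∧ n * C.c * n⁻¹ = C.b) := by
  have hac := C.a_ne_c
  have hbc := C.b_ne_c
  have hab : n * C.a * n⁻¹ ≠ n * C.b * n⁻¹ := C.conj_ne C.hne
  have hac' : n * C.a * n⁻¹ ≠ n * C.c * n⁻¹ := C.conj_ne hac
  have hbc' : n * C.b * n⁻¹ ≠ n * C.c * n⁻¹ := C.conj_ne hbc
  rcases C.conj_cases hn C.a_mem_V C.ha.2 with ha | ha | ha <;>
    rcases C.conj_cases hn C.b_mem_V C.hb.2 with hb | hb | hb <;>
    rcases C.conj_cases hn C.c_mem_V C.hc.2 with hc | hc | hc <;>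
    first
      | exact absurd (ha.trans hb.symm) hab
      | exact absurd (ha.trans hc.symm) hac'
      | exact absurd (hb.trans hc.symm) hbc'
      | exact Or.inl ⟨mul_inv_eq_iff_eq_mul.1 ha, mul_inv_eq_iff_eq_mul.1 hb⟩
      | exact Or.inr (Or.inl ⟨ha, hb, hc⟩)
      | exact Or.inr (Or.inr ⟨ha, hb, hc⟩)
      | exact (C.not_swap hn C.b_mem_V hbc hb hc).elim
      | exact (C.not_swap hn C.a_mem_V C.hne ha hb).elim
      | exact (C.not_swap hn C.a_mem_V hac ha hc).elim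

/-- A subgroup fusing `a` contains an element permuting the involutions of `V` cyclically. -/
theorem exists_cycle {M : Subgroup G} (ha : C.a ∈ M) (hb : C.b ∈ M) (h : C.Fus M) :
    ∃ n ∈ M, n ∈ normalizer (C.V : Set G) ∧
      n * C.a * n⁻¹ = C.b ∧ n * C.b * n⁻¹ = C.c ∧ n * C.c * n⁻¹ = C.a := by
  haveI : Fact (Nat.Prime 2) := ⟨Nat.prime_two⟩
  obtain ⟨S, hS⟩ := C.exists_sylow_V
  have hVM : C.V ≤ M := (closure_le _).2 (by rintro x (rfl | rfl); exacts [ha, hb])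
  let SM : Sylow 2 M := S.subtype (hS ▸ hVM)
  have hcomm : IsMulCommutative (SM : Subgroup M) :=
    ⟨⟨fun x y => Subtype.ext (Subtype.ext (C.commute_of_mem_V (hS ▸ x.2) (hS ▸ y.2)))⟩⟩
  obtain ⟨g, hg, hga⟩ := h
  have hgV : g * C.a * g⁻¹ ∈ C.V := by
    rcases hga with e | e <;> rw [e]
    exacts [C.b_mem_V, C.c_mem_V]
  obtain ⟨n, hn, he⟩ := SM.conj_eq_normalizer_conj_of_mem (⟨C.a, ha⟩ : M) ⟨g, hg⟩⁻¹
    (show C.a ∈ (S : Subgroup G) from hS ▸ C.a_mem_V) (by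
      show ((((⟨g, hg⟩ : M)⁻¹)⁻¹ * (⟨C.a, ha⟩ : M) * (⟨g, hg⟩ : M)⁻¹ : M) : G) ∈ (S : Subgroup G)
      simpa [hS] using hgV)
  have hnV : (n : G)⁻¹ ∈ normalizer (C.V : Set G) := by
    refine inv_mem (mem_normalizer_iff.2 fun x => ?_)
    constructor
    · intro hx
      have := (mem_normalizer_iff.1 hn ⟨x, hVM hx⟩).1 (show x ∈ (S : Subgroup G) from hS ▸ hx)
      exact hS ▸ this
    · intro hx
      have hxM : x ∈ M := by
        have := mul_mem (mul_mem (inv_mem n.2) (hVM hx)) n.2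
        rwa [show (n : G)⁻¹ * ((n : G) * x * (n : G)⁻¹) * n = x by group] at this
      have := (mem_normalizer_iff.1 hn ⟨x, hxM⟩).2
        (show (n : G) * x * (n : G)⁻¹ ∈ (S : Subgroup G) from hS ▸ hx)
      exact hS ▸ this
  have he' : (n : G)⁻¹ * C.a * (n : G)⁻¹⁻¹ = g * C.a * g⁻¹ := by
    have := congrArg Subtype.val he
    simpa using this.symm
  have hna : (n : G)⁻¹ * C.a * (n : G)⁻¹⁻¹ ≠ C.a := by
    rw [he']
    rcases hga with e | e <;> rw [e]
    exacts [C.hne.symm, C.a_ne_c.symm]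
  rcases C.normalizer_cases hnV with ⟨h1, -⟩ | ⟨h1, h2, h3⟩ | ⟨h1, h2, h3⟩
  · exact absurd (by rw [h1.eq, mul_inv_cancel_right]) hna
  · exact ⟨_, inv_mem n.2, hnV, h1, h2, h3⟩
  · have hinv : ∀ {x y : G}, (n : G)⁻¹ * x * (n : G)⁻¹⁻¹ = y → (n : G) * y * (n : G)⁻¹ = x :=
      fun {x y} h => by rw [← h]; group
    exact ⟨n, n.2, by simpa using inv_mem hnV, hinv h2, hinv h3, hinv h1⟩

/-- Without fusion a subgroup containing `V` has a normal 2-complement. -/
theorem exists_compl {M : Subgroup G} (hVM : C.V ≤ M) (h : ¬ C.Fus M) :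
    ∃ R : Subgroup G, R ≤ M ∧ M ≤ normalizer (R : Set G) ∧ Odd (Nat.card R) ∧
      ∀ y ∈ M, Odd (orderOf y) → y ∈ R := by
  haveI : Fact (Nat.Prime 2) := ⟨Nat.prime_two⟩
  obtain ⟨S, hS⟩ := C.exists_sylow_V
  let SM : Sylow 2 M := S.subtype (hS ▸ hVM)
  obtain ⟨R, hR, hRo, hall⟩ := CfsgLib.DGroup.exists_compl_of_burnside SM (by
    intro g hg
    have hgV : (g : G) ∈ normalizer (C.V : Set G) := by
      refine mem_normalizer_iff.2 fun x => ⟨fun hx => ?_, fun hx => ?_⟩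
      · have := (mem_normalizer_iff.1 hg ⟨x, hVM hx⟩).1 (show x ∈ (S : Subgroup G) from hS ▸ hx)
        exact hS ▸ this
      · have hxM : x ∈ M := by
          have := mul_mem (mul_mem (inv_mem g.2) (hVM hx)) g.2
          rwa [show (g : G)⁻¹ * ((g : G) * x * (g : G)⁻¹) * g = x by group] at this
        have := (mem_normalizer_iff.1 hg ⟨x, hxM⟩).2
          (show (g : G) * x * (g : G)⁻¹ ∈ (S : Subgroup G) from hS ▸ hx)
        exact hS ▸ this
    rcases C.normalizer_cases hgV with ⟨h1, h2⟩ | ⟨h1, -, -⟩ | ⟨h1, -, -⟩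
    · refine mem_centralizer_iff.2 fun x hx => Subtype.ext ?_
      have hx' : (x : G) ∈ C.V := hS ▸ hx
      have hgc : Commute (g : G) (x : G) := by
        rcases C.mem_V.1 hx' with e | e | e | e <;> rw [e]
        exacts [Commute.one_right _, h1, h2, h1.mul_right h2]
      exact hgc.eq.symm
    · exact absurd ⟨g, g.2, Or.inl h1⟩ h
    · exact absurd ⟨g, g.2, Or.inr h1⟩ h)
  haveI := hR
  refine ⟨R.map M.subtype, map_subtype_le R, fun m hm => ?_,
    by rwa [card_map_of_injective M.subtype_injective], fun y hy ho =>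
      ⟨⟨y, hy⟩, hall _ (by rwa [Subgroup.orderOf_mk]), rfl⟩⟩
  exact le_normalizer_map M.subtype ⟨⟨m, hm⟩, by rw [normalizer_eq_top]; exact mem_top _, rfl⟩

end CfsgLib.GW.CaseI.Ctx
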