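import Cfsg.Agent.GW.CaseI.Central

/-!
# The shape of `|U₀ : C(d)|`: a Heisenberg layer
-/

set_option autoImplicit false
set_option linter.style.haveILetI false
set_option linter.unusedSectionVars false

namespace CfsgLib.GW.CaseI.Ctx.Chief

open Subgroup
open CfsgLib.DGroup (coreIn Op conj_mem conj_mem' odd_orderOf eq_one_of_sq eq_one_of_inv_eq)

universe u

variable {G : Type u} [Group G] [Finite G] {C : Ctx G} {p : ℕ} [Fact p.Prime] (S : C.Chief p)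
include S

/-- The layer has an inverted element outside the central line. -/
theorem config_heisenberg (hmax : IsCoatom C.H) (hp2 : p ≠ 2) (hp : C.Good p) {z y : G}
    (hz : z ∈ S.C0) (hz1 : z ≠ 1) (hy : y ∈ S.Y) (hyb : C.b * y * C.b = y⁻¹) (hyC : y ∉ S.C0) :
    Nonempty (C.Config p) := by
  obtain ⟨d, hd, hdD, hd1⟩ := S.meet
  obtain ⟨T⟩ := S.exists_torus' hmax hp hd hdD hd1
  have hzd : Commute z d := (S.commute_C0 hz (S.le_U0 hd)).symm
  have hC0 := S.C0_eq_zpowers hmax hp hz hz1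
  have hdb : Commute d C.b := (C.mem_D.1 hdD).2
  have hdbd : C.b * d * C.b = d := conj_eq_of_commute C.hb.1 hdb
  have hdo : orderOf d = p := S.orderOf_eq hd hd1
  have hy0 : y ∈ C.U0 := S.le_U0 hy
  have hfix1 : ∀ e ∈ S.Y, e ∈ C.D → e ≠ 1 → ¬ Commute y e := fun e he heD he1 h =>
    hyC (hC0.symm ▸ S.mem_C0_of_commute hmax hp hz hz1 he heD he1 hy hyb h)
  set c := y * d * y⁻¹ * d⁻¹ with hc
  have hcC : c ∈ S.C0 := S.comm y hy d hd
  have hc1 : c ≠ 1 := fun h => hfix1 d hd hdD hd1 (mul_inv_eq_iff_eq_mul.1 (mul_inv_eq_one.1 h))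
  have hC0c : ∀ v ∈ S.C0, v ∈ zpowers c := fun v hv =>
    S.C0_eq_zpowers hmax hp hcC hc1 ▸ hv
  have hydy : y * d * y⁻¹ = c * d := by rw [hc]; group
  have hcd : Commute c d := (S.commute_C0 hcC (S.le_U0 hd)).symm
  have hdpow : ∀ n : ℤ, y * d ^ n * y⁻¹ = c ^ n * d ^ n := fun n => by
    rw [← conj_zpow, hydy, hcd.mul_zpow]
  have hypow : ∀ n : ℕ, y ^ n * d * (y ^ n)⁻¹ = c ^ n * d := by
    intro n
    induction n with
    | zero => simp
    | succ n ih =>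
      rw [pow_succ', show y * y ^ n * d * (y * y ^ n)⁻¹ = y * (y ^ n * d * (y ^ n)⁻¹) * y⁻¹ by group,
        ih, show y * (c ^ n * d) * y⁻¹ = y * c ^ n * y⁻¹ * (y * d * y⁻¹) by group, hydy,
        ((S.commute_C0 hcC hy0).pow_right n).eq, mul_inv_cancel_right, ← mul_assoc, ← pow_succ,
        pow_succ']
  -- the fixed points
  have hfix : ∀ e ∈ S.Y, e ∈ C.D → e ∈ zpowers d := by
    intro e he heD
    obtain ⟨n, hn⟩ := mem_zpowers_iff.1 (hC0c _ (S.comm y hy e he))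
    by_contra hne
    refine hfix1 (e * (d ^ n)⁻¹) (mul_mem he (inv_mem (zpow_mem hd n)))
      (mul_mem heD (inv_mem (zpow_mem hdD n))) (fun h => hne ?_) (mul_inv_eq_iff_eq_mul.1 ?_)
    · exact mem_zpowers_iff.2 ⟨n, (mul_inv_eq_one.1 h).symm⟩
    · calc y * (e * (d ^ n)⁻¹) * y⁻¹
          = y * e * y⁻¹ * e⁻¹ * e * (y * d ^ n * y⁻¹)⁻¹ := by group
        _ = c ^ n * e * (c ^ n * d ^ n)⁻¹ := by rw [hdpow, hn]
        _ = c ^ n * e * ((d ^ n)⁻¹ * (c ^ n)⁻¹) := by rw [mul_inv_rev]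
        _ = c ^ n * (e * (d ^ n)⁻¹) * (c ^ n)⁻¹ := by group
        _ = _ := by
          rw [← (S.commute_C0 (zpow_mem hcC n) (S.le_U0 (mul_mem he (inv_mem (zpow_mem hd n))))).eq,
            mul_inv_cancel_right]
  -- the inverted elements
  obtain ⟨N, hNY, hN⟩ := S.exists_line hy
  have hyinv : ∀ v ∈ N, C.b * v * C.b = v⁻¹ := fun v hv => by
    obtain ⟨n, c', hc', rfl⟩ := (hN v).1 hv
    rw [invol_mul C.hb.1, S.inverted_C0 hc', mul_inv_rev, ← conj_invol_eq C.hb.1, ← conj_zpow,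
      conj_invol_eq C.hb.1, hyb, inv_zpow]
    exact (((S.commute_C0 hc' hy0).zpow_left n).inv_inv).eq
  have hinvN : ∀ i ∈ S.Y, C.b * i * C.b = i⁻¹ → i ∈ N := by
    intro i hi hib
    have hi0 : i ∈ C.U0 := S.le_U0 hi
    obtain ⟨n, hn⟩ : ∃ n : ℕ, c ^ n = i * d * i⁻¹ * d⁻¹ :=
      mem_powers_iff_mem_zpowers.2 (hC0c _ (S.comm i hi d hd))
    have hidi : i * d * i⁻¹ = c ^ n * d := by rw [hn]; group
    set w := (y ^ n)⁻¹ * i with hw
    have hwd : Commute w d := by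
      refine mul_inv_eq_iff_eq_mul.1 ?_
      calc w * d * w⁻¹ = (y ^ n)⁻¹ * (i * d * i⁻¹) * y ^ n := by rw [hw]; group
        _ = (y ^ n)⁻¹ * (y ^ n * d * (y ^ n)⁻¹) * y ^ n := by rw [hidi, hypow]
        _ = d := by group
    obtain ⟨e, he, heD, i', hi', hi'b, hwe⟩ := S.split (show w ∈ S.Y from
      mul_mem (inv_mem (pow_mem hy n)) hi)
    obtain ⟨a, rfl⟩ := mem_zpowers_iff.1 (hfix e he heD)
    have hi'C : i' ∈ S.C0 := hC0.symm ▸ S.mem_C0_of_commute hmax hp hz hz1 hd hdD hd1 hi' hi'b (by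
      have h := (((Commute.refl d).zpow_left a).inv_left).mul_left hwd
      rwa [hwe, inv_mul_cancel_left] at h)
    suffices hone : d ^ a = 1 by
      refine (hN i).2 ⟨n, i', hi'C, ?_⟩
      rw [zpow_natCast, show i = y ^ n * w by rw [hw]; group, hwe, hone, one_mul]
    have hb1 : C.b * (d ^ a * i') * C.b = d ^ a * i'⁻¹ := by
      rw [invol_mul C.hb.1, hi'b, ← conj_invol_eq C.hb.1, ← conj_zpow, conj_invol_eq C.hb.1, hdbd]
    have hb2 : C.b * (y ^ n) * C.b = (y ^ n)⁻¹ := by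
      rw [← conj_invol_eq C.hb.1, ← conj_pow, conj_invol_eq C.hb.1, hyb, inv_pow]
    have h1 : (y ^ n)⁻¹ * (d ^ a * i'⁻¹) = (y ^ n * (d ^ a * i'))⁻¹ := by
      rw [← hwe, show y ^ n * w = i by rw [hw]; group, ← hib, show i = y ^ n * (d ^ a * i') by
        rw [← hwe, hw]; group, invol_mul C.hb.1, hb1, hb2]
    have h2 : (y ^ n)⁻¹ * d ^ a = (d ^ a)⁻¹ * (y ^ n)⁻¹ := by
      have hcm : Commute ((d ^ a)⁻¹ * (y ^ n)⁻¹) i'⁻¹ := (S.commute_C0 (inv_mem hi'C)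
        (S.le_U0 (mul_mem (inv_mem (zpow_mem hd a)) (inv_mem (pow_mem hy n)))))
      refine mul_right_cancel (b := i'⁻¹) ?_
      rw [mul_assoc, h1, hcm.eq]
      group
    -- so `d ^ (2 a)` lies in `C₀`
    have h3 : y ^ n * (d ^ a)⁻¹ * (y ^ n)⁻¹ = d ^ a := by
      rw [mul_assoc, ← h2, mul_inv_cancel_left]
    have h4 : (c ^ n) ^ (-a) * (d ^ (-a) * d ^ (-a)) = 1 := by
      have h5 : y ^ n * d ^ (-a) * (y ^ n)⁻¹ = (c ^ n) ^ (-a) * d ^ (-a) := by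
        rw [← conj_zpow, hypow, (hcd.pow_left n).mul_zpow]
      rw [zpow_neg d, h3] at h5
      rw [← mul_assoc, zpow_neg d, ← h5, mul_inv_cancel]
    have h6 : d ^ (-a) * d ^ (-a) = 1 := S.eq_one_of_mem_C0 (by
        rw [eq_inv_of_mul_eq_one_right h4]; exact inv_mem (zpow_mem (pow_mem hcC n) _))
      (mul_mem (zpow_mem hdD _) (zpow_mem hdD _))
    have h7 := eq_one_of_sq h6 (odd_orderOf C.odd_D (zpow_mem hdD _))
    rwa [zpow_neg, inv_eq_one] at h7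
  have hspan : ∀ w ∈ S.Y, ∃ a n : ℤ, (d ^ a * y ^ n)⁻¹ * w ∈ S.C0 := fun w hw => by
    obtain ⟨e, he, heD, i, hi, hib, rfl⟩ := S.split hw
    obtain ⟨a, rfl⟩ := mem_zpowers_iff.1 (hfix e he heD)
    obtain ⟨n, c', hc', rfl⟩ := (hN i).1 (hinvN i hi hib)
    exact ⟨a, n, by rwa [← mul_assoc (d ^ a), inv_mul_cancel_left]⟩
  -- no common line
  have hdC : d ∉ S.C0 := fun h => hd1 (S.eq_one_of_mem_C0 h hdD)
  have hyN : y ∈ N := (hN y).2 ⟨1, 1, one_mem _, by rw [zpow_one, mul_one]⟩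
  have hly : ∃ x ∈ C.U0, ∀ n : ℤ, (y ^ n)⁻¹ * (x * y * x⁻¹) ∉ S.C0 := by
    by_contra hne
    push Not at hne
    have hNH : C.H ≤ normalizer (N : Set G) := by
      refine C.H_le_normalizer_of (fun x hx hxb => S.conj_line hN (C.U_le_H hx) ?_)
        (fun e he => S.conj_line hN (C.U_le_H (C.D_le_U he))
          (hinvN _ (conj_mem (S.norm (C.U_le_H (C.D_le_U he))) hy) (C.conj_inverted_of_D he hyb)))
        (fun v hv => S.conj_line hN (C.V_le_H hv) ?_)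
      · obtain ⟨n, hn⟩ := hne x (mem_invGen hx hxb)
        exact (hN _).2 ⟨n, _, hn, by group⟩
      · rcases C.conj_inverted hv (S.le_U hy) hyb with h | h <;> rw [h]
        exacts [hyN, inv_mem hyN]
    rcases S.min N hNY hNH with h | h
    · exact hd1 (S.eq_one_of_fixed hdD (hyinv d (h.symm ▸ hd)))
    · exact hyC (h hyN)
  obtain ⟨M, hMY, hM⟩ := S.exists_line hd
  have hdM : d ∈ M := (hM d).2 ⟨1, 1, one_mem _, by rw [zpow_one, mul_one]⟩
  have hld : ∃ x ∈ C.U0, ∀ n : ℤ, (d ^ n)⁻¹ * (x * d * x⁻¹) ∉ S.C0 := by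
    by_contra hne
    push Not at hne
    have hMH : C.H ≤ normalizer (M : Set G) := by
      refine C.H_le_normalizer_of (fun x hx hxb => S.conj_line hM (C.U_le_H hx) ?_)
        (fun e he => S.conj_line hM (C.U_le_H (C.D_le_U he)) ?_)
        (fun v hv => S.conj_line hM (C.V_le_H hv) (by rw [C.conj_fixed hv hdD]; exact hdM))
      · obtain ⟨n, hn⟩ := hne x (mem_invGen hx hxb)
        exact (hM _).2 ⟨n, _, hn, by group⟩
      · obtain ⟨n, hn⟩ := mem_zpowers_iff.1 (hfix (e * d * e⁻¹)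
          (conj_mem (S.norm (C.U_le_H (C.D_le_U he))) hd) (mul_mem (mul_mem he hdD) (inv_mem he)))
        exact (hM _).2 ⟨n, 1, one_mem _, by rw [hn, mul_one]⟩
    rcases S.min M hMY hMH with h | h
    · obtain ⟨n, c', hc', e⟩ := (hM y).1 (h.symm ▸ hy)
      have h1 : d ^ n * c'⁻¹ = c'⁻¹ * (d ^ n)⁻¹ := by
        have hb' : C.b * (d ^ n * c') * C.b = d ^ n * c'⁻¹ := by
          rw [invol_mul C.hb.1, S.inverted_C0 hc', ← conj_invol_eq C.hb.1, ← conj_zpow,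
            conj_invol_eq C.hb.1, hdbd]
        rw [← hb', ← e, hyb, e, mul_inv_rev]
      rw [((S.commute_C0 (inv_mem hc') (S.le_U0 (zpow_mem hd n)))).eq, mul_left_cancel_iff] at h1
      have h2 : d ^ n * d ^ n = 1 := by nth_rw 1 [h1]; rw [inv_mul_cancel]
      rw [eq_one_of_sq h2 (odd_orderOf C.odd_D (zpow_mem hdD n)), one_mul] at e
      exact hyC (e ▸ hc')
    · exact hdC (h hdM)
  obtain ⟨K, hK, hko, hk3, hkp, hpk, hsr, hKb⟩ := plane_section (p := p) hp2 C.hb.1 (U := C.U0)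
    (Y := S.Y) (N := S.C0) C.odd_U0 (by
      refine le_antisymm ((closure_le _).2 fun x hx => hx.1) ?_
      exact (closure_le _).2 fun x hx => subset_closure ⟨mem_invGen hx.1 hx.2, hx.2⟩)
    S.C0_le (fun v hv => S.norm_C0 (C.U_le_H (S.le_U hv)))
    (fun v hv => S.norm (C.U_le_H (C.U0_le_U hv))) (fun v hv => S.norm_C0 (C.U_le_H (C.U0_le_U hv)))
    (S.norm_C0 C.b_mem_H) hd hy hdbd hyb hdC hyC (by rw [S.pow_eq d hd]; exact one_mem _)
    (by rw [S.pow_eq y hy]; exact one_mem _) hcC hspan hld hly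
  set F := C.U0 ⊓ centralizer ({d} : Set G) with hF
  have hFK : F ≤ K := fun v hv => hsr v hv.1 (by
    rw [mem_centralizer_singleton_iff.1 hv.2, mul_inv_cancel_right, mul_inv_cancel]; exact one_mem _)
  have hKU : K ≤ C.U0 := fun v hv => ((hK v).1 hv).1
  have hKd : ∀ v ∈ K, v * d * v⁻¹ * d⁻¹ ∈ S.C0 := fun v hv => ((hK v).1 hv).2 d hd
  let ψ : K →* S.C0 := MonoidHom.mk' (fun x => ⟨(x : G) * d * (x : G)⁻¹ * d⁻¹, hKd x x.2⟩) fun x w => by
    refine Subtype.ext ?_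
    show (x : G) * w * d * ((x : G) * w)⁻¹ * d⁻¹ =
      (x : G) * d * (x : G)⁻¹ * d⁻¹ * ((w : G) * d * (w : G)⁻¹ * d⁻¹)
    rw [show (x : G) * w * d * ((x : G) * w)⁻¹ * d⁻¹ =
      (x : G) * ((w : G) * d * (w : G)⁻¹ * d⁻¹) * (x : G)⁻¹ * ((x : G) * d * (x : G)⁻¹ * d⁻¹) by group,
      (S.commute_C0 (hKd w w.2) (hKU x.2)).eq, mul_inv_cancel_right]
    exact (S.commute_C0 (hKd x x.2) (S.le_U0 (S.C0_le (hKd w w.2)))).eq
  have hψ : ψ.ker = F.subgroupOf K := by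
    ext x
    rw [MonoidHom.mem_ker, mem_subgroupOf, hF, mem_inf, mem_centralizer_singleton_iff, Subtype.ext_iff]
    show (x : G) * d * (x : G)⁻¹ * d⁻¹ = 1 ↔ _
    rw [mul_inv_eq_one, mul_inv_eq_iff_eq_mul]
    exact ⟨fun h => ⟨hKU x.2, h⟩, And.right⟩
  have hyK : y ∈ K := (hK y).2 ⟨hy0, fun w hw => S.comm y hy w hw⟩
  have hsurj : Function.Surjective ψ := fun v => by
    obtain ⟨n, hn⟩ := mem_zpowers_iff.1 (hC0c v v.2)
    exact ⟨(⟨y, hyK⟩ : K) ^ n, by rw [map_zpow]; exact Subtype.ext hn⟩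
  have hi : F.relIndex C.U0 = p * K.relIndex C.U0 := by
    rw [← relIndex_mul_relIndex F K C.U0 hFK hKU]
    congr 1
    rw [relIndex, ← hψ, index_ker, MonoidHom.range_eq_top.2 hsurj, card_top]
    exact S.card_C0 hmax hp hz hz1
  refine ⟨⟨d, hdD, S.le_U0 hd, S.le_O hd, hd1, T, S.dvd_u T hdD (S.C0_le hz) hz1 (S.inverted_C0 hz) hzd,
    fun e he he0 => ?_, ?_⟩⟩
  · exact mul_inv_eq_iff_eq_mul.1 (mul_inv_eq_one.1 (S.eq_one_of_mem_C0
      (hKd e (hKb e he0 (C.mem_D.1 he).2)) (mul_mem (mul_mem (mul_mem he hdD) (inv_mem he))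
        (inv_mem hdD))))
  · rw [hi, S.relIndex_line hd hdD hfix]
    exact ⟨_, hko, hkp, hpk, Or.inr (Or.inl ⟨rfl, rfl⟩)⟩

end CfsgLib.GW.CaseI.Ctx.Chief
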