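import Cfsg.Agent.GW.CaseI.Normalizer

/-!
# `p`-subgroups normalised by the four group
-/

set_option autoImplicit false
set_option linter.style.haveILetI false
set_option linter.unusedSectionVars false

namespace CfsgLib.GW.CaseI.Ctx

open Subgroup
open CfsgLib.NormCyclic (Inv)
open CfsgLib.DGroup (conj_mem conj_mem' odd_orderOf)

universe u

variable {G : Type u} [Group G] [Finite G] (C : Ctx G)
include C

theorem odd_of_isPGroup {p : ℕ} (hp : p.Prime) (hp2 : p ≠ 2) {P : Subgroup G} (hP : IsPGroup p P) :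
    Odd (Nat.card P) := by
  haveI : Fact p.Prime := ⟨hp⟩
  obtain ⟨k, hk⟩ := IsPGroup.iff_card.1 hP
  rw [hk]
  exact (hp.odd_of_ne_two hp2).pow

theorem exists_norm_map {v : G} (hv : v ∈ C.V) (hv1 : v ≠ 1) :
    ∃ g ∈ normalizer (C.V : Set G), g * C.a * g⁻¹ = v := by
  rcases C.mem_V.1 hv with rfl | rfl | rfl | rfl
  · exact absurd rfl hv1
  · exact ⟨1, one_mem _, by group⟩
  · exact ⟨C.rho, C.rho_mem, C.rho_a⟩
  · refine ⟨C.rho * C.rho, mul_mem C.rho_mem C.rho_mem, ?_⟩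
    rw [show C.rho * C.rho * C.a * (C.rho * C.rho)⁻¹ = C.rho * (C.rho * C.a * C.rho⁻¹) * C.rho⁻¹ by
      group, C.rho_a, C.rho_b]
    rfl

/-- A Sylow `p`-subgroup normalised by `V` and centralised by one of its involutions. -/
structure Std (p : ℕ) (T : Subgroup G) : Prop where
  isPGroup : IsPGroup p T
  index : ¬ p ∣ T.index
  V_le : C.V ≤ normalizer (T : Set G)
  comm : ∃ v ∈ C.V, v ≠ 1 ∧ ∀ x ∈ T, Commute x v

theorem std_map {p : ℕ} {T : Subgroup G} (h : C.Std p T) {g : G}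
    (hg : g ∈ normalizer (C.V : Set G)) : C.Std p (T.map (MulAut.conj g).toMonoidHom) := by
  refine ⟨h.isPGroup.map _, ?_, fun v hv => ?_, ?_⟩
  · have e : (T.map (MulAut.conj g).toMonoidHom).index = T.index :=
      index_map_equiv T (MulAut.conj g)
    rw [e]; exact h.index
  · have h1 := le_normalizer_map (MulAut.conj g).toMonoidHom
      ⟨g⁻¹ * v * g, h.V_le (conj_mem' hg hv), rfl⟩
    simpa [mul_assoc] using h1
  · obtain ⟨v, hv, hv1, hc⟩ := h.comm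
    refine ⟨g * v * g⁻¹, conj_mem hg hv, fun e => hv1 (conj_eq_one_iff.1 e), ?_⟩
    rintro _ ⟨x, hx, rfl⟩
    exact (Commute.conj_iff g).2 (hc x hx)

theorem std_of_sylowU {p : ℕ} [Fact p.Prime]
    (hsyl : ∀ P, C.SylowU p P → ∃ S : Sylow p G, (S : Subgroup G) = P) {P : Subgroup G}
    (hP : C.SylowU p P) : C.Std p P := by
  obtain ⟨S, hS⟩ := hsyl P hP
  exact ⟨hP.isPGroup, hS ▸ S.not_dvd_index, hP.V_le, C.a, C.a_mem_V, C.ha.2,
    fun x hx => C.commute_a (hP.le hx)⟩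

/-- A `V`-invariant `p`-group centralised by an involution of `V` lies in a standard Sylow group. -/
theorem exists_std_ge {p : ℕ} [Fact p.Prime] (hp2 : p ≠ 2)
    (hsyl : ∀ P, C.SylowU p P → ∃ S : Sylow p G, (S : Subgroup G) = P) {Q : Subgroup G}
    (hQ : IsPGroup p Q) (hQV : C.V ≤ normalizer (Q : Set G)) {v : G} (hv : v ∈ C.V) (hv1 : v ≠ 1)
    (hQv : ∀ x ∈ Q, Commute x v) : ∃ T, C.Std p T ∧ Q ≤ T := by
  obtain ⟨g, hg, hga⟩ := C.exists_norm_map hv hv1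
  set Q' := Q.map (MulAut.conj g⁻¹).toMonoidHom with hQ'
  have hQ'U : Q' ≤ C.U := by
    rintro _ ⟨x, hx, rfl⟩
    refine C.mem_U_of_odd (C.mem_H.2 ?_) ?_
    · have := (Commute.conj_iff g⁻¹).2 (hQv x hx)
      rw [← hga, show g⁻¹ * (g * C.a * g⁻¹) * g⁻¹⁻¹ = C.a by group] at this
      exact this
    · rw [show ((MulAut.conj g⁻¹).toMonoidHom x) = g⁻¹ * x * g⁻¹⁻¹ from rfl,
        CfsgLib.Invol.orderOf_conj_eq]
      exact odd_orderOf (C.odd_of_isPGroup Fact.out hp2 hQ) hx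
  have hQ'V : C.V ≤ normalizer (Q' : Set G) := fun w hw => by
    have h1 := le_normalizer_map (MulAut.conj g⁻¹).toMonoidHom
      ⟨g * w * g⁻¹, hQV (conj_mem hg hw), rfl⟩
    rwa [show (MulAut.conj g⁻¹).toMonoidHom (g * w * g⁻¹) = w by
      show g⁻¹ * (g * w * g⁻¹) * g⁻¹⁻¹ = w
      group] at h1
  obtain ⟨S, hQS, hS⟩ := CfsgLib.CoprimeAct.exists_invariant_sylow_ge (A := C.V) (K := C.U)
    (C.V_le_H.trans C.H_le_normalizer_U) (by
      rw [C.card_V]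
      exact ((Nat.coprime_two_left.2 C.odd_U).pow_left 2 :))
    (Or.inl (Group.isSolvable_of_comm fun x y => Subtype.ext (C.commute_of_mem_V x.2 y.2)))
    p hQ'U (hQ.map _) hQ'V
  have hPU : C.SylowU p ((S : Subgroup C.U).map C.U.subtype) :=
    ⟨S.2.map _, map_subtype_le _, by
      rw [relIndex, subgroupOf, comap_map_eq_self_of_injective C.U.subtype_injective]
      exact S.not_dvd_index, hS⟩
  refine ⟨_, C.std_map (C.std_of_sylowU hsyl hPU) hg, fun x hx => ⟨g⁻¹ * x * g, ?_, by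
    show g * (g⁻¹ * x * g) * g⁻¹ = x
    group⟩⟩
  exact hQS ⟨x, hx, by show g⁻¹ * x * g⁻¹⁻¹ = _; rw [inv_inv]⟩

/-- Every `V`-invariant `p`-group lies in a standard Sylow group. -/
theorem exists_std {p : ℕ} [Fact p.Prime] (hp2 : p ≠ 2)
    (hsyl : ∀ P, C.SylowU p P → ∃ S : Sylow p G, (S : Subgroup G) = P) {Q : Subgroup G}
    (hQ : IsPGroup p Q) (hQV : C.V ≤ normalizer (Q : Set G)) : ∃ T, C.Std p T ∧ Q ≤ T := by
  by_contra hbad
  obtain ⟨P, hP⟩ := C.exists_sylowU p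
  let Bad : Set (Subgroup G × Subgroup G) :=
    {x | IsPGroup p x.1 ∧ C.V ≤ normalizer (x.1 : Set G) ∧ C.Std p x.2 ∧
      ¬ ∃ T, C.Std p T ∧ x.1 ≤ T}
  obtain ⟨⟨Q₀, T⟩, ⟨hQ₀, hQ₀V, hT, hQ₀b⟩, hmax⟩ := Set.exists_max_image Bad
    (fun x => Nat.card ↥(x.1 ⊓ x.2)) (Set.toFinite _)
    ⟨⟨Q, P⟩, hQ, hQV, C.std_of_sylowU hsyl hP, hbad⟩
  set I := Q₀ ⊓ T with hI
  have hnorm : ∀ {A B : Subgroup G}, C.V ≤ normalizer (A : Set G) → C.V ≤ normalizer (B : Set G) →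
      C.V ≤ normalizer ((A ⊓ B : Subgroup G) : Set G) := fun hA hB v hv =>
    mem_normalizer_iff.2 fun x => by
      rw [mem_inf, mem_inf, mem_normalizer_iff.1 (hA hv) x, mem_normalizer_iff.1 (hB hv) x]
  have hIV : C.V ≤ normalizer (I : Set G) := hnorm hQ₀V hT.V_le
  have hIQ : I < Q₀ := lt_of_le_of_ne inf_le_left fun h => hQ₀b ⟨T, hT, h ▸ inf_le_right⟩
  have hIT : I < T := lt_of_le_of_ne inf_le_right fun h => by
    refine hQ₀b ⟨T, hT, ?_⟩
    have hle : T ≤ Q₀ := h ▸ inf_le_left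
    let S : Sylow p G := hT.isPGroup.toSylow hT.index
    exact (S.3 hQ₀ hle).le
  obtain ⟨v, hv, hv1, hTv⟩ := hT.comm
  by_cases hfus : C.Fus (normalizer (I : Set G))
  · -- the intersection is centralised by `V`, so it contains all pieces of `Q₀`
    obtain ⟨n, hn, -, hna, hnb, hnc⟩ := C.exists_cycle (hIV C.a_mem_V) (hIV C.b_mem_V) hfus
    have step : ∀ {x y : G}, n * x * n⁻¹ = y → (∀ z ∈ I, Commute z x) → ∀ z ∈ I, Commute z y := by
      intro x y hxy hx z hz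
      have h1 := (Commute.conj_iff n).2 (hx _ (conj_mem' hn hz))
      rwa [show n * (n⁻¹ * z * n) * n⁻¹ = z by group, hxy] at h1
    have hIv : ∀ z ∈ I, Commute z v := fun z hz => hTv z hz.2
    have hall : (∀ z ∈ I, Commute z C.a) ∧ (∀ z ∈ I, Commute z C.b) := by
      rcases C.mem_V.1 hv with rfl | rfl | rfl | rfl
      · exact absurd rfl hv1
      · exact ⟨hIv, step hna hIv⟩
      · exact ⟨step hnc (step hnb hIv), hIv⟩
      · exact ⟨step hnc hIv, step hna (step hnc hIv)⟩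
    have hIall : ∀ z ∈ I, ∀ w ∈ C.V, Commute z w := fun z hz w hw => by
      rcases C.mem_V.1 hw with rfl | rfl | rfl | rfl
      exacts [Commute.one_right z, hall.1 z hz, hall.2 z hz, (hall.1 z hz).mul_right (hall.2 z hz)]
    have hle : Q₀ ≤ I := CfsgLib.Bender.GSide.le_of_four ((Fact.out : p.Prime).odd_of_ne_two hp2)
      hQ₀ C.ha.orderOf C.hb.orderOf C.hab (hQ₀V C.a_mem_V) (hQ₀V C.b_mem_V) (hIV C.a_mem_V)
      (hIV C.b_mem_V) (by
        intro w y hw hy hwy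
        obtain ⟨hwV, hw1⟩ : w ∈ C.V ∧ w ≠ 1 := by
          rcases hw with rfl | rfl | rfl
          exacts [⟨C.a_mem_V, C.ha.2⟩, ⟨C.b_mem_V, C.hb.2⟩, ⟨C.c_mem_V, C.hc.2⟩]
        set Qw := Q₀ ⊓ centralizer ({w} : Set G) with hQw
        have hwn : C.V ≤ normalizer (centralizer ({w} : Set G) : Set G) := fun x hx =>
          le_normalizer (mem_centralizer_singleton_iff.2 (C.commute_of_mem_V hx hwV).eq)
        obtain ⟨T', hT', hQT⟩ := C.exists_std_ge hp2 hsyl (hQ₀.to_le inf_le_left) (hnorm hQ₀V hwn)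
          hwV hw1 (fun x hx => mem_centralizer_singleton_iff.1 hx.2)
        have h1 : Nat.card Qw ≤ Nat.card I :=
          le_trans (card_le_of_le (le_inf inf_le_left hQT))
            (hmax ⟨Q₀, T'⟩ ⟨hQ₀, hQ₀V, hT', hQ₀b⟩)
        have h2 : I ≤ Qw := fun z hz =>
          ⟨hz.1, mem_centralizer_singleton_iff.2 (hIall z hz w hwV).eq⟩
        rw [eq_of_le_of_card_ge h2 h1]
        exact ⟨hy, mem_centralizer_singleton_iff.2 hwy.symm.eq⟩)
    exact absurd hle hIQ.not_ge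
  -- without fusion the normaliser has a normal 2-complement
  set M := normalizer (I : Set G) with hM
  obtain ⟨R, hRM, hMR, hRo, hRodd⟩ := C.exists_compl (fun x hx => hIV hx) hfus
  have hVR : C.V ≤ normalizer (R : Set G) := fun x hx => hMR (hIV hx)
  have hVM : C.V ≤ normalizer (M : Set G) := fun x hx => le_normalizer (hIV hx)
  have hcop : (Nat.card C.V).Coprime (Nat.card R) := by
    rw [C.card_V]; exact ((Nat.coprime_two_left.2 hRo).pow_left 2 :)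
  have hsol : Group.IsSolvable C.V :=
    Group.isSolvable_of_comm fun x y => Subtype.ext (C.commute_of_mem_V x.2 y.2)
  have hin : ∀ A : Subgroup G, IsPGroup p A → C.V ≤ normalizer (A : Set G) →
      ∃ S : Sylow p R, A ⊓ M ≤ (S : Subgroup R).map R.subtype ∧
        C.V ≤ normalizer ((S : Subgroup R).map R.subtype : Set G) := fun A hA hAV =>
    CfsgLib.CoprimeAct.exists_invariant_sylow_ge hVR hcop (Or.inl hsol) p
      (fun x hx => hRodd x hx.2 (odd_orderOf (C.odd_of_isPGroup Fact.out hp2 hA) hx.1))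
      (hA.to_le inf_le_left) (hnorm hAV hVM)
  obtain ⟨ZT, hZT, hZTT, hZTn⟩ := CfsgLib.Bender.GSide.exists_between hIT hT.isPGroup
  obtain ⟨ZQ, hZQ, hZQQ, hZQn⟩ := CfsgLib.Bender.GSide.exists_between hIQ hQ₀
  obtain ⟨S₁, hS₁, hS₁V⟩ := hin T hT.isPGroup hT.V_le
  obtain ⟨S₂, hS₂, hS₂V⟩ := hin Q₀ hQ₀ hQ₀V
  -- the first Sylow group is inside a standard one, by maximality
  obtain ⟨T', hT', hS₁T'⟩ : ∃ T', C.Std p T' ∧ (S₁ : Subgroup R).map R.subtype ≤ T' := by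
    by_contra hno
    have h1 := hmax ⟨_, T⟩ ⟨S₁.2.map _, hS₁V, hT, hno⟩
    have h2 : Nat.card ZT ≤ Nat.card ↥((S₁ : Subgroup R).map R.subtype ⊓ T) :=
      card_le_of_le fun x hx => ⟨hS₁ ⟨hZTT hx, hZTn hx⟩, hZTT hx⟩
    have h3 := CfsgLib.Solvable.card_lt_of_lt hZT
    exact absurd (lt_of_lt_of_le h3 (h2.trans h1)) (lt_irrefl _)
  obtain ⟨k, hk, hkS⟩ := CfsgLib.CoprimeAct.invariant_sylow_conj hVR hcop (Or.inl hsol) p S₁ S₂
    hS₁V hS₂V
  have hkV : (k : G) ∈ normalizer (C.V : Set G) := centralizer_le_normalizer _ hk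
  have h1 := hmax ⟨Q₀, T'.map (MulAut.conj (k : G)).toMonoidHom⟩ ⟨hQ₀, hQ₀V, C.std_map hT' hkV, hQ₀b⟩
  have h2 : Nat.card ZQ ≤ Nat.card ↥(Q₀ ⊓ T'.map (MulAut.conj (k : G)).toMonoidHom) := by
    refine card_le_of_le fun x hx => ⟨hZQQ hx, ?_⟩
    obtain ⟨s, hs, hsx⟩ := hS₂ ⟨hZQQ hx, hZQn hx⟩
    rw [SetLike.mem_coe, ← hkS] at hs
    obtain ⟨s₁, hs₁, rfl⟩ := hs
    exact ⟨(s₁ : G), hS₁T' ⟨s₁, hs₁, rfl⟩, hsx⟩
  have h3 := CfsgLib.Solvable.card_lt_of_lt hZQ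
  exact absurd (lt_of_lt_of_le h3 (h2.trans h1)) (lt_irrefl _)

/-- A `V`-invariant `p`-group with fusion in its normaliser is centralised by `V`. -/
theorem le_D_of_fus {p : ℕ} [Fact p.Prime] (hp2 : p ≠ 2)
    (hsyl : ∀ P, C.SylowU p P → ∃ S : Sylow p G, (S : Subgroup G) = P) {Q : Subgroup G}
    (hQ : IsPGroup p Q) (hQV : C.V ≤ normalizer (Q : Set G))
    (hfus : C.Fus (normalizer (Q : Set G))) : Q ≤ C.D := by
  obtain ⟨T, hT, hQT⟩ := C.exists_std hp2 hsyl hQ hQV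
  obtain ⟨v, hv, hv1, hTv⟩ := hT.comm
  obtain ⟨n, hn, -, hna, hnb, hnc⟩ := C.exists_cycle (hQV C.a_mem_V) (hQV C.b_mem_V) hfus
  have step : ∀ {x y : G}, n * x * n⁻¹ = y → (∀ z ∈ Q, Commute z x) → ∀ z ∈ Q, Commute z y := by
    intro x y hxy hx z hz
    have h1 := (Commute.conj_iff n).2 (hx _ (conj_mem' hn hz))
    rwa [show n * (n⁻¹ * z * n) * n⁻¹ = z by group, hxy] at h1
  have hQv : ∀ z ∈ Q, Commute z v := fun z hz => hTv z (hQT hz)
  have hall : (∀ z ∈ Q, Commute z C.a) ∧ (∀ z ∈ Q, Commute z C.b) := by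
    rcases C.mem_V.1 hv with rfl | rfl | rfl | rfl
    · exact absurd rfl hv1
    · exact ⟨hQv, step hna hQv⟩
    · exact ⟨step hnc (step hnb hQv), hQv⟩
    · exact ⟨step hnc hQv, step hna (step hnc hQv)⟩
  exact fun z hz => C.mem_D_of_odd (hall.1 z hz) (hall.2 z hz)
    (odd_orderOf (C.odd_of_isPGroup Fact.out hp2 hQ) hz)

end CfsgLib.GW.CaseI.Ctx
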