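import Cfsg.Agent.DGroup.Four
import Cfsg.Agent.DGroup.Fusion

/-!
# An involution acting on a group of odd order: the part generated by inverted elements

`invGen b U` is generated by the elements of `U` inverted by `b`. It is normal in `U`, and
`U = invGen b U * C_U(b)`. A Sylow subgroup of `U` centralised by `b` meets it trivially.
-/

set_option autoImplicit false
set_option linter.style.haveILetI false
set_option linter.unusedSectionVars false

namespace CfsgLib.GW.CaseI

open Subgroup
open CfsgLib.DGroup (conj_mem conj_mem' commute_of_sq eq_one_of_sq eq_one_of_inverted odd_orderOf)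

universe u

variable {G : Type u} [Group G]

/-- The subgroup generated by the elements of `U` inverted by `b`. -/
def invGen (b : G) (U : Subgroup G) : Subgroup G :=
  closure {x | x ∈ U ∧ b * x * b = x⁻¹}

theorem invGen_le (b : G) (U : Subgroup G) : invGen b U ≤ U := (closure_le _).2 fun _ h => h.1

theorem mem_invGen {b x : G} {U : Subgroup G} (hx : x ∈ U) (h : b * x * b = x⁻¹) :
    x ∈ invGen b U := subset_closure ⟨hx, h⟩

theorem invGen_mono {b : G} {U W : Subgroup G} (h : U ≤ W) : invGen b U ≤ invGen b W :=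
  closure_mono fun _ hx => ⟨h hx.1, hx.2⟩

theorem eq_of_sq {x y : G} (hx : Odd (orderOf x)) (hy : Odd (orderOf y)) (h : x * x = y * y) :
    x = y := by
  have hxy : Commute x y := commute_of_sq hx (by
    rw [h]; exact (Commute.refl y).mul_left (Commute.refl y))
  have h2 : x * y⁻¹ * (x * y⁻¹) = 1 := by
    rw [hxy.inv_right.symm.mul_mul_mul_comm, h, ← mul_inv_rev, mul_inv_cancel]
  exact mul_inv_eq_one.1 (eq_one_of_sq h2 ((hx.mul (by rwa [orderOf_inv])).of_dvd_nat
    hxy.inv_right.orderOf_mul_dvd_mul_orderOf))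

section

variable {b : G} (hb : b * b = 1)
include hb

theorem conj_invol_eq (x : G) : b * x * b⁻¹ = b * x * b := by
  rw [inv_eq_of_mul_eq_one_right hb]

theorem conj_eq_of_commute {c : G} (hc : Commute c b) : b * c * b = c := by
  rw [← hc.eq, mul_assoc, hb, mul_one]

theorem commute_of_conj_eq {c : G} (hc : b * c * b = c) : Commute c b := by
  show c * b = b * c
  conv_lhs => rw [← hc]
  rw [mul_assoc, hb, mul_one]

theorem invol_mul (x y : G) : b * (x * y) * b = b * x * b * (b * y * b) := by
  simp only [mul_assoc, ← mul_assoc b b, hb, one_mul]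

theorem invol_inv (x : G) : b * x⁻¹ * b = (b * x * b)⁻¹ := by
  simp only [mul_inv_rev, inv_eq_of_mul_eq_one_right hb, mul_assoc]

theorem inverted_conj {c x : G} (hc : Commute c b) (hx : b * x * b = x⁻¹) :
    b * (c * x * c⁻¹) * b = (c * x * c⁻¹)⁻¹ := by
  rw [invol_mul hb, invol_mul hb, conj_eq_of_commute hb hc,
    conj_eq_of_commute hb hc.inv_left, hx]
  group

theorem inverted_inv {x : G} (hx : b * x * b = x⁻¹) : b * x⁻¹ * b = x⁻¹⁻¹ := by
  rw [invol_inv hb, hx]

/-- An element of odd order is the product of a fixed and an inverted one. -/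
theorem exists_split [Finite G] {U : Subgroup G} (hU : Odd (Nat.card U)) (hbU : b ∈ normalizer (U : Set G))
    {y : G} (hy : y ∈ U) :
    ∃ c ∈ U, ∃ i ∈ U, Commute c b ∧ b * i * b = i⁻¹ ∧ y = c * i := by
  obtain ⟨c, hc, i, hi, hbc, hbi, e⟩ := CfsgLib.Bender.GSide.split hU hb hy (by
    rw [← conj_invol_eq hb]; exact conj_mem hbU hy)
  exact ⟨c, hc, i, hi, hbc.symm, hbi, e⟩

/-- An inverted element keeping a fixed element fixed commutes with it. -/
theorem commute_of_fixed {x w : G} (hx : Odd (orderOf x)) (hxb : b * x * b = x⁻¹) (hw : Commute w b)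
    (h : Commute (x * w * x⁻¹) b) : Commute x w :=
  CfsgLib.DGroup.commute_of_conj hb hw hx hxb h

/-- An inverted element keeping an inverted element inverted commutes with it. -/
theorem commute_of_inverted {x w : G} (hx : Odd (orderOf x)) (hxb : b * x * b = x⁻¹)
    (hw : b * w * b = w⁻¹) (h : b * (x * w * x⁻¹) * b = (x * w * x⁻¹)⁻¹) : Commute x w := by
  refine commute_of_sq hx ?_
  rw [invol_mul hb, invol_mul hb, invol_inv hb, hxb, hw, inv_inv] at h
  have h2 : x⁻¹ * w⁻¹ * x = x * w⁻¹ * x⁻¹ := h.trans (by group)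
  refine Commute.inv_right_iff.1 ?_
  show x * x * w⁻¹ = w⁻¹ * (x * x)
  calc x * x * w⁻¹ = x * (x * w⁻¹ * x⁻¹) * x := by group
    _ = x * (x⁻¹ * w⁻¹ * x) * x := by rw [h2]
    _ = w⁻¹ * (x * x) := by group

/-- The group generated by inverted elements centralises a normalised fixed subgroup. -/
theorem commute_of_le_centralizer {U N : Subgroup G} (hU : Odd (Nat.card U))
    (hUN : invGen b U ≤ normalizer (N : Set G)) (hNb : ∀ w ∈ N, Commute w b) :
    ∀ x ∈ invGen b U, ∀ w ∈ N, Commute x w := by
  intro x hx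
  induction hx using closure_induction with
  | mem x hx =>
    exact fun w hw => commute_of_fixed hb (odd_orderOf hU hx.1) hx.2 (hNb w hw)
      (hNb _ (conj_mem (hUN (subset_closure hx)) hw))
  | one => exact fun w _ => Commute.one_left w
  | inv x _ ih => exact fun w hw => (ih w hw).inv_left
  | mul x y _ _ ihx ihy => exact fun w hw => (ihx w hw).mul_left (ihy w hw)

/-- The group generated by inverted elements centralises a normalised inverted subgroup. -/
theorem commute_of_le_inverted {U N : Subgroup G} (hU : Odd (Nat.card U))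
    (hUN : invGen b U ≤ normalizer (N : Set G)) (hNb : ∀ w ∈ N, b * w * b = w⁻¹) :
    ∀ x ∈ invGen b U, ∀ w ∈ N, Commute x w := by
  intro x hx
  induction hx using closure_induction with
  | mem x hx =>
    exact fun w hw => commute_of_inverted hb (odd_orderOf hU hx.1) hx.2 (hNb w hw)
      (hNb _ (conj_mem (hUN (subset_closure hx)) hw))
  | one => exact fun w _ => Commute.one_left w
  | inv x _ ih => exact fun w hw => (ih w hw).inv_left
  | mul x y _ _ ihx ihy => exact fun w hw => (ihx w hw).mul_left (ihy w hw)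

theorem mem_normalizer_invGen_of_commute {U : Subgroup G} {c : G} (hc : Commute c b)
    (hcU : c ∈ normalizer (U : Set G)) : c ∈ normalizer (invGen b U : Set G) := by
  have key : ∀ c : G, Commute c b → c ∈ normalizer (U : Set G) →
      ∀ x ∈ invGen b U, c * x * c⁻¹ ∈ invGen b U := by
    intro c hc hcU x hx
    induction hx using closure_induction with
    | mem x hx => exact mem_invGen (conj_mem hcU hx.1) (inverted_conj hb hc hx.2)
    | one => simp
    | inv x _ ih => simpa [mul_assoc] using inv_mem ih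
    | mul x y _ _ ihx ihy => simpa [mul_assoc] using mul_mem ihx ihy
  refine mem_normalizer_iff.2 fun x => ⟨key c hc hcU x, fun hx => ?_⟩
  have := key c⁻¹ hc.inv_left (inv_mem hcU) _ hx
  simpa [mul_assoc] using this

theorem exists_mul [Finite G] {U : Subgroup G} (hU : Odd (Nat.card U)) (hbU : b ∈ normalizer (U : Set G))
    {y : G} (hy : y ∈ U) : ∃ c ∈ U, ∃ x ∈ invGen b U, Commute c b ∧ y = c * x := by
  obtain ⟨c, hc, i, hi, hcb, hib, e⟩ := exists_split hb hU hbU hy
  exact ⟨c, hc, i, mem_invGen hi hib, hcb, e⟩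

theorem le_normalizer_invGen [Finite G] {U : Subgroup G} (hU : Odd (Nat.card U))
    (hbU : b ∈ normalizer (U : Set G)) : U ≤ normalizer (invGen b U : Set G) := by
  intro y hy
  obtain ⟨c, hc, x, hx, hcb, rfl⟩ := exists_mul hb hU hbU hy
  exact mul_mem (mem_normalizer_invGen_of_commute hb hcb (le_normalizer hc)) (le_normalizer hx)

/-- An inverted coset contains an inverted element. -/
theorem exists_inverted_mem_coset [Finite G] {U N : Subgroup G} (hU : Odd (Nat.card U))
    (hbU : b ∈ normalizer (U : Set G))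
    (hUN : U ≤ normalizer (N : Set G)) {x : G} (hx : x ∈ U) (h : x * (b * x * b) ∈ N) :
    ∃ i ∈ U, b * i * b = i⁻¹ ∧ x * i⁻¹ ∈ N := by
  obtain ⟨c, hc, i, hi, hcb, hib, rfl⟩ := exists_split hb hU hbU hx
  refine ⟨i, hi, hib, ?_⟩
  rw [mul_inv_cancel_right]
  rw [invol_mul hb, conj_eq_of_commute hb hcb, hib] at h
  set M := normalizer (N : Set G) with hM
  haveI : (N.subgroupOf M).Normal := (normal_subgroupOf_iff_le_normalizer le_normalizer).2 le_rfl
  set π := QuotientGroup.mk' (N.subgroupOf M)
  let c' : M := ⟨c, hUN hc⟩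
  let i' : M := ⟨i, hUN hi⟩
  have h1 : π (c' * i' * (c' * i'⁻¹)) = 1 := (QuotientGroup.eq_one_iff _).2 h
  have ho : ∀ m : M, (m : G) ∈ U → Odd (orderOf (π m)) := fun m hm =>
    ((odd_orderOf hU hm).of_dvd_nat (Subgroup.orderOf_coe m).symm.dvd).of_dvd_nat
      (orderOf_map_dvd π m)
  have hic : π i' * π c' * (π i')⁻¹ = (π c')⁻¹ := by
    refine eq_inv_of_mul_eq_one_right ?_
    rw [← h1]; simp [mul_assoc]
  exact (QuotientGroup.eq_one_iff c').1 (eq_one_of_inverted (ho i' hi) (ho c' hc) hic)

end

/-! ### Fixed Sylow subgroups -/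

section FixedSylow

theorem closure_inverted_map {W Q : Type u} [Group W] [Group Q] {f : W →* Q}
    (hf : Function.Surjective f) (β : W ≃* W) (γ : Q ≃* Q) (hγ : ∀ x, γ (f x) = f (β x))
    (hgen : closure {x : W | β x = x⁻¹} = ⊤) : closure {x : Q | γ x = x⁻¹} = ⊤ := by
  refine top_le_iff.1 ?_
  rw [← MonoidHom.range_eq_top.2 hf, MonoidHom.range_eq_map, ← hgen, MonoidHom.map_closure]
  refine closure_mono ?_
  rintro _ ⟨x, hx, rfl⟩
  rw [Set.mem_ofPred_eq, hγ, show β x = x⁻¹ from hx, map_inv]

theorem sylow_eq_bot_aux (p : ℕ) [Fact p.Prime] :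
    ∀ (n : ℕ) (W : Type u) [Group W] [Finite W], Nat.card W = n → Odd (Nat.card W) →
      ∀ β : W ≃* W, closure {x : W | β x = x⁻¹} = ⊤ →
        ∀ P : Sylow p W, (∀ x ∈ (P : Subgroup W), β x = x) → (P : Subgroup W) = ⊥ := by
  intro n
  induction n using Nat.strong_induction_on with | _ n ih => ?_
  intro W _ _ hn hodd β hgen P hP
  by_contra hP0
  haveI : Group.IsSolvable W := by
    have := CfsgLib.DGroup.solvable_of_odd (⊤ : Subgroup W) (by rwa [card_top])
    exact Group.isSolvable_of_isSolvable_injective (f := (topEquiv (G := W)).symm.toMonoidHom)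
      (topEquiv (G := W)).symm.injective
  haveI hnt : Nontrivial W := by
    obtain ⟨x, hx, hx1⟩ := (P : Subgroup W).bot_or_exists_ne_one.resolve_left hP0
    exact ⟨⟨x, 1, hx1⟩⟩
  -- a characteristic abelian subgroup
  have hex : ∃ k, derivedSeries W k = ⊥ := Group.IsSolvable.solvable
  classical
  obtain ⟨k, hk⟩ : ∃ k, Nat.find hex = k + 1 := Nat.exists_eq_succ_of_ne_zero fun h => by
    have := Nat.find_spec hex
    rw [h, derivedSeries_zero] at this
    exact top_ne_bot this
  set A := derivedSeries W k with hA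
  have hA0 : A ≠ ⊥ := Nat.find_min hex (by omega)
  have hAc : ∀ x ∈ A, ∀ y ∈ A, Commute x y := by
    have := Nat.find_spec hex
    rw [hk, derivedSeries_succ, commutator_eq_bot_iff_le_centralizer] at this
    exact fun x hx y hy => (mem_centralizer_iff.1 (this hx) y hy).symm
  -- its elements of order dividing a prime
  obtain ⟨x₀, hx₀, hx₀1⟩ := A.bot_or_exists_ne_one.resolve_left hA0
  obtain ⟨r, hr, hrdvd⟩ := Nat.exists_prime_and_dvd (mt orderOf_eq_one_iff.1 hx₀1)
  let N : Subgroup W :=
    { carrier := {x | x ∈ A ∧ x ^ r = 1}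
      one_mem' := ⟨one_mem A, one_pow r⟩
      mul_mem' := fun {x y} hx hy =>
        ⟨mul_mem hx.1 hy.1, by rw [(hAc x hx.1 y hy.1).mul_pow, hx.2, hy.2, one_mul]⟩
      inv_mem' := fun {x} hx => ⟨inv_mem hx.1, by rw [inv_pow, hx.2, inv_one]⟩ }
  have hNmem : ∀ (φ : W ≃* W) (x : W), x ∈ N → φ x ∈ N := fun φ x hx => ⟨by
    have := (derivedSeries_characteristic (G := W) k).fixed φ
    exact (SetLike.ext_iff.1 this x).2 hx.1, by rw [← map_pow, hx.2, map_one]⟩
  haveI hNn : N.Normal := ⟨fun x hx g => hNmem (MulAut.conj g) x hx⟩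
  have hN0 : N ≠ ⊥ := fun h => by
    have hmem : x₀ ^ (orderOf x₀ / r) ∈ N := ⟨pow_mem hx₀ _, by
      rw [← pow_mul, Nat.div_mul_cancel hrdvd, pow_orderOf_eq_one]⟩
    rw [h, mem_bot] at hmem
    have hlt : orderOf x₀ / r < orderOf x₀ := Nat.div_lt_self (orderOf_pos x₀) hr.one_lt
    exact absurd (Nat.le_of_dvd (Nat.div_pos (Nat.le_of_dvd (orderOf_pos x₀) hrdvd) hr.pos)
      (orderOf_dvd_of_pow_eq_one hmem)) (not_le.2 hlt)
  have hNβ : N.map β.toMonoidHom = N := by
    refine le_antisymm (map_le_iff_le_comap.2 fun x hx => hNmem β x hx) fun x hx => ?_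
    exact ⟨β.symm x, hNmem β.symm x hx, β.apply_symm_apply x⟩
  set π := QuotientGroup.mk' N with hπ
  let γ : W ⧸ N ≃* W ⧸ N := QuotientGroup.congr N N β hNβ
  have hγ : ∀ x, γ (π x) = π (β x) := fun x => rfl
  have hlt : Nat.card (W ⧸ N) < n := hn ▸ CfsgLib.Solvable.card_quotient_lt hN0
  have hPbot := ih _ hlt (W ⧸ N) rfl (hodd.of_dvd_nat (Subgroup.card_quotient_dvd_card N)) γ
    (closure_inverted_map (QuotientGroup.mk'_surjective N) β γ hγ hgen)
    (P.mapSurjective (QuotientGroup.mk'_surjective N)) (by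
      rintro _ ⟨x, hx, rfl⟩
      rw [hγ, hP x hx])
  have hPN : (P : Subgroup W) ≤ N := fun x hx => by
    have : π x ∈ (⊥ : Subgroup (W ⧸ N)) := hPbot ▸ mem_map_of_mem π hx
    exact (QuotientGroup.eq_one_iff x).1 (mem_bot.1 this)
  -- `P` is central
  have hc : ∀ g w : W, w ∈ (P : Subgroup W) → Commute g w := by
    by_cases hrp : r = p
    swap
    · intro g w hw
      obtain ⟨j, hj⟩ := P.2 ⟨w, hw⟩
      have h2 := orderOf_dvd_of_pow_eq_one (hPN hw).2
      have h3 := orderOf_dvd_of_pow_eq_one (congrArg Subtype.val hj : w ^ p ^ j = 1)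
      have : w = 1 := orderOf_eq_one_iff.1 (Nat.eq_one_of_dvd_coprimes
        (((Nat.coprime_primes hr Fact.out).2 hrp).pow_right j) h2 h3)
      rw [this]; exact Commute.one_right g
    have hNP : N = (P : Subgroup W) := by
      refine P.3 (fun x => ⟨1, Subtype.ext ?_⟩) hPN
      rw [pow_one, ← hrp]; exact x.2.2
    have hgen' : ∀ g ∈ closure {x : W | β x = x⁻¹}, ∀ w ∈ N, Commute g w := by
      intro g hg
      induction hg using closure_induction with
      | mem g hg =>
        intro w hw
        refine commute_of_sq (hodd.of_dvd_nat (orderOf_dvd_natCard g)) ?_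
        have h1 : β (g * w * g⁻¹) = g * w * g⁻¹ := hP _ (hNP ▸ hNn.conj_mem w hw g)
        rw [map_mul, map_mul, map_inv, show β g = g⁻¹ from hg, hP w (hNP ▸ hw), inv_inv] at h1
        show g * g * w = w * (g * g)
        calc g * g * w = g * (g * w * g⁻¹) * g := by group
          _ = g * (g⁻¹ * w * g) * g := by rw [h1]
          _ = w * (g * g) := by group
      | one => exact fun w _ => Commute.one_left w
      | inv x _ ih => exact fun w hw => (ih w hw).inv_left
      | mul x y _ _ ihx ihy => exact fun w hw => (ihx w hw).mul_left (ihy w hw)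
    exact fun g w hw => hgen' g (hgen ▸ mem_top g) w (hPN hw)
  -- transfer
  have hPc : normalizer ((P : Subgroup W) : Set W) ≤ centralizer ((P : Subgroup W) : Set W) :=
    fun g _ => mem_centralizer_iff.2 fun w hw => (hc g w hw).eq.symm
  set τ := MonoidHom.transferSylow P hPc with hτ
  have hτ1 : ∀ g : W, β g = g⁻¹ → τ g = 1 := by
    intro g hg
    -- the part of `g` prime to `p` generates it
    have hgp : ¬ p ∣ orderOf g := by
      intro hdvd
      set h := g ^ (orderOf g / p) with hh
      have hho : orderOf h = p := by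
        rw [hh, orderOf_pow_of_dvd (Nat.div_pos (Nat.le_of_dvd (orderOf_pos g) hdvd)
          (Fact.out : p.Prime).pos).ne' (Nat.div_dvd_of_dvd hdvd),
          Nat.div_div_self hdvd (orderOf_pos g).ne']
      obtain ⟨Q, hQ⟩ := (IsPGroup.of_card (p := p) (n := 1) (by
        rw [Nat.card_zpowers, hho, pow_one]) : IsPGroup p (zpowers h)).exists_le_sylow
      obtain ⟨x, hx⟩ := MulAction.exists_smul_eq W Q P
      have hmem : h ∈ (P : Subgroup W) := by
        have h1 : x * h * x⁻¹ ∈ (P : Subgroup W) := by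
          rw [← hx]; exact ⟨h, hQ (mem_zpowers h), rfl⟩
        have h2 := (hc x _ h1).eq
        have : h = x * h * x⁻¹ := by
          calc h = x⁻¹ * (x * h * x⁻¹ * x) := by group
            _ = x⁻¹ * (x * (x * h * x⁻¹)) := by rw [h2]
            _ = x * h * x⁻¹ := by group
        rwa [← this] at h1
      have hinv : h⁻¹ = h := by
        have := hP h hmem
        rwa [hh, map_pow, hg, inv_pow, ← hh] at this
      have := eq_one_of_sq (y := h) (by nth_rw 1 [← hinv]; exact inv_mul_cancel h)
        (hodd.of_dvd_nat (orderOf_dvd_natCard h))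
      rw [this, orderOf_one] at hho
      exact (Fact.out : p.Prime).one_lt.ne hho
    obtain ⟨i, hi⟩ := P.2 (τ g)
    refine orderOf_eq_one_iff.1 (Nat.eq_one_of_dvd_coprimes
      (((Fact.out : p.Prime).coprime_iff_not_dvd.2 hgp).pow_left i)
      (orderOf_dvd_of_pow_eq_one hi) (orderOf_map_dvd τ g))
  have hker : τ.ker = ⊤ := top_le_iff.1 (hgen ▸ (closure_le _).2 fun g hg => hτ1 g hg)
  have hcompl := MonoidHom.ker_transferSylow_isComplement' P hPc
  rw [← hτ, hker] at hcompl
  exact hP0 (isComplement'_top_left.1 hcompl)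

/-- A Sylow subgroup centralised by `b` meets the inverted part trivially. -/
theorem not_dvd_invGen [Finite G] {b : G} (hb : b * b = 1) {U P : Subgroup G}
    (hU : Odd (Nat.card U)) (hbU : b ∈ normalizer (U : Set G)) {p : ℕ} [Fact p.Prime]
    (hP : IsPGroup p P) (hPU : P ≤ U) (hPi : ¬ p ∣ P.relIndex U) (hPb : ∀ x ∈ P, Commute x b) :
    ¬ p ∣ Nat.card (invGen b U) := by
  set W := invGen b U with hW
  have hWU : W ≤ U := invGen_le b U
  have hbW : b ∈ normalizer (W : Set G) :=
    mem_normalizer_invGen_of_commute hb (Commute.refl b) hbU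
  have hb' : b⁻¹ = b := inv_eq_of_mul_eq_one_right hb
  have hinv2 : ∀ x : G, b * (b * x * b) * b = x := fun x => by
    simp only [mul_assoc, ← mul_assoc b b, hb, one_mul, mul_one]
  let β : W ≃* W :=
    { toFun := fun x => ⟨b * x * b, conj_invol_eq hb (x : G) ▸ conj_mem hbW x.2⟩
      invFun := fun x => ⟨b * x * b, conj_invol_eq hb (x : G) ▸ conj_mem hbW x.2⟩
      left_inv := fun x => Subtype.ext (hinv2 x)
      right_inv := fun x => Subtype.ext (hinv2 x)
      map_mul' := fun x y => Subtype.ext (invol_mul hb (x : G) y) }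
  -- the trace of `P` is a Sylow subgroup
  have hPW : IsPGroup p (P.subgroupOf W) := hP.comap_subtype
  have hidx : ¬ p ∣ (P.subgroupOf W).index := fun h => by
    refine hPi (h.trans ?_)
    have hPn : P ≤ normalizer (W : Set G) := hPU.trans (le_normalizer_invGen hb hU hbU)
    have e := CfsgLib.Solvable.card_sup_mul_card_inf hPn
    have e2 : Nat.card P * P.relIndex U = Nat.card U := by
      rw [← Nat.card_congr (subgroupOfEquivOfLe hPU).toEquiv]
      exact card_mul_index (P.subgroupOf U)
    have e3 : Nat.card ↥(P ⊓ W) * (P.subgroupOf W).index = Nat.card W := by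
      rw [← card_mul_index (P.subgroupOf W)]
      congr 1
      rw [inf_comm, ← Nat.card_congr (subgroupOfEquivOfLe (inf_le_left : W ⊓ P ≤ W)).toEquiv,
        inf_subgroupOf_left]
    refine Nat.dvd_of_mul_dvd_mul_left (k := Nat.card P * Nat.card ↥(P ⊓ W))
      (Nat.mul_pos Nat.card_pos Nat.card_pos) ?_
    calc Nat.card P * Nat.card ↥(P ⊓ W) * (P.subgroupOf W).index
        = Nat.card P * Nat.card W := by rw [mul_assoc, e3]
      _ = Nat.card ↥(P ⊔ W) * Nat.card ↥(P ⊓ W) := e.symm
      _ ∣ Nat.card U * Nat.card ↥(P ⊓ W) :=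
          Nat.mul_dvd_mul_right (card_dvd_of_le (sup_le hPU hWU)) _
      _ = Nat.card P * Nat.card ↥(P ⊓ W) * P.relIndex U := by rw [← e2]; ring
  set S : Sylow p W := hPW.toSylow hidx with hS
  have hgen : closure {x : W | β x = x⁻¹} = ⊤ := by
    refine map_injective W.subtype_injective ?_
    rw [MonoidHom.map_closure, ← MonoidHom.range_eq_map, range_subtype]
    refine le_antisymm ((closure_le _).2 (by rintro _ ⟨x, -, rfl⟩; exact x.2)) ?_
    refine (closure_le _).2 fun x hx => subset_closure ⟨⟨x, subset_closure hx⟩, Subtype.ext hx.2, rfl⟩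
  have h0 := sylow_eq_bot_aux p _ W rfl (hU.of_dvd_nat (card_dvd_of_le hWU)) β hgen S fun x hx =>
    Subtype.ext (conj_eq_of_commute hb (hPb x hx))
  intro h
  rw [← card_mul_index (S : Subgroup W), h0, card_bot, one_mul] at h
  exact S.not_dvd_index (by rw [h0]; exact h)

end FixedSylow

end CfsgLib.GW.CaseI
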