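import Cfsg.Agent.GW.CaseI.Line
import Cfsg.Agent.Solvable.PGroupRank

/-!
# A minimal normal subgroup of `C(a)` in a layer of class two of `O_p(U₀)`, meeting `D`
-/

set_option autoImplicit false
set_option linter.style.haveILetI false
set_option linter.unusedSectionVars false

namespace CfsgLib.GW.CaseI

open Subgroup
open CfsgLib.DGroup (coreIn Op conj_mem conj_mem' odd_orderOf eq_one_of_sq eq_one_of_inv_eq)

universe u

variable {G : Type u} [Group G] [Finite G]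

theorem le_normalizer_of_conj {K N : Subgroup G} (h : ∀ k ∈ K, ∀ x ∈ N, k * x * k⁻¹ ∈ N) :
    K ≤ normalizer (N : Set G) := fun k hk => mem_normalizer_iff.2 fun x =>
  ⟨h k hk x, fun hx => by simpa [mul_assoc] using h k⁻¹ (inv_mem hk) _ hx⟩

theorem le_normalizer_closure {K : Subgroup G} {s : Set G}
    (h : ∀ k ∈ K, ∀ x ∈ s, k * x * k⁻¹ ∈ closure s) :
    K ≤ normalizer (closure s : Set G) := le_normalizer_of_conj fun k hk x hx => by
  have : (closure s).map (MulAut.conj k).toMonoidHom ≤ closure s := by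
    rw [MonoidHom.map_closure, closure_le]
    rintro _ ⟨w, hw, rfl⟩
    exact h k hk w hw
  exact this ⟨x, hx, rfl⟩

/-- The elements of order `p` which are central modulo the centre. -/
theorem exists_layer {p : ℕ} [Fact p.Prime] (hp2 : p ≠ 2) (P : Subgroup G) :
    ∃ T : Subgroup G,
      ∀ x, x ∈ T ↔ x ∈ P ∧ x ^ p = 1 ∧ ∀ y ∈ P, x * y * x⁻¹ * y⁻¹ ∈ centralizer (P : Set G) := by
  have hcen : ∀ {c w : G}, c ∈ centralizer (P : Set G) → w ∈ P → Commute w c := fun hc hw =>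
    mem_centralizer_iff.1 hc _ hw
  refine ⟨{ carrier := {x | x ∈ P ∧ x ^ p = 1 ∧ ∀ y ∈ P, x * y * x⁻¹ * y⁻¹ ∈ centralizer (P : Set G)}
            one_mem' := ⟨one_mem P, one_pow p, fun y _ => by simp⟩
            mul_mem' := ?_
            inv_mem' := ?_ }, fun x => Iff.rfl⟩
  · rintro x₁ x₂ ⟨h1, h1p, h1c⟩ ⟨h2, h2p, h2c⟩
    refine ⟨mul_mem h1 h2, ?_, fun y hy => ?_⟩
    · set c := x₂ * x₁ * x₂⁻¹ * x₁⁻¹ with hc
      have hcC : c ∈ centralizer (P : Set G) := h2c x₁ h1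
      have hc1 : Commute x₁ c := hcen hcC h1
      have hc2 : Commute x₂ c := hcen hcC h2
      have e : x₂ * x₁ = c * x₁ * x₂ := by rw [hc]; group
      have hswap : ∀ n : ℕ, x₂ ^ n * x₁ = c ^ n * x₁ * x₂ ^ n := by
        intro n
        induction n with
        | zero => simp
        | succ n ih =>
          calc x₂ ^ (n + 1) * x₁ = x₂ * (x₂ ^ n * x₁) := by rw [pow_succ', mul_assoc]
            _ = x₂ * c ^ n * (x₁ * x₂ ^ n) := by rw [ih]; group
            _ = c ^ n * (x₂ * x₁) * x₂ ^ n := by rw [(hc2.pow_right n).eq]; group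
            _ = c ^ (n + 1) * x₁ * x₂ ^ (n + 1) := by rw [e, pow_succ, pow_succ' x₂]; group
      have hcp : c ^ p = 1 := by
        have := hswap p
        rw [h2p, one_mul, mul_one] at this
        exact mul_eq_right.1 this.symm
      have hpow : ∀ n : ℕ, (x₁ * x₂) ^ n = c ^ n.choose 2 * x₁ ^ n * x₂ ^ n := by
        intro n
        induction n with
        | zero => simp
        | succ n ih =>
          rw [pow_succ, ih, Nat.choose_succ_succ' n 1, Nat.choose_one_right, pow_add]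
          calc c ^ n.choose 2 * x₁ ^ n * x₂ ^ n * (x₁ * x₂)
              = c ^ n.choose 2 * x₁ ^ n * (x₂ ^ n * x₁) * x₂ := by group
            _ = c ^ n.choose 2 * (x₁ ^ n * c ^ n) * x₁ * x₂ ^ n * x₂ := by rw [hswap]; group
            _ = c ^ n.choose 2 * (c ^ n * x₁ ^ n) * x₁ * x₂ ^ n * x₂ := by
                rw [(hc1.pow_pow n n).eq]
            _ = c ^ n * c ^ n.choose 2 * x₁ ^ (n + 1) * x₂ ^ (n + 1) := by
                rw [← mul_assoc, ((Commute.refl c).pow_pow _ _).eq, pow_succ, pow_succ]; group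
      obtain ⟨j, hj⟩ := (Fact.out : p.Prime).dvd_choose_self two_ne_zero
        (lt_of_le_of_ne (Fact.out : p.Prime).two_le (Ne.symm hp2))
      rw [hpow, h1p, h2p, hj, pow_mul, hcp, one_pow, one_mul, one_mul]
    · rw [show x₁ * x₂ * y * (x₁ * x₂)⁻¹ * y⁻¹ =
        x₁ * (x₂ * y * x₂⁻¹ * y⁻¹) * x₁⁻¹ * (x₁ * y * x₁⁻¹ * y⁻¹) by group,
        (hcen (h2c y hy) h1).eq, mul_inv_cancel_right]
      exact mul_mem (h2c y hy) (h1c y hy)
  · rintro x ⟨h1, h1p, h1c⟩
    refine ⟨inv_mem h1, by rw [inv_pow, h1p, inv_one], fun y hy => ?_⟩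
    have h := hcen (h1c y hy) (inv_mem h1)
    rw [show x⁻¹ * y * x⁻¹⁻¹ * y⁻¹ = x⁻¹ * (x * y * x⁻¹ * y⁻¹)⁻¹ * x⁻¹⁻¹ by group,
      h.inv_right.eq, mul_inv_cancel_right]
    exact inv_mem (h1c y hy)

namespace Ctx

variable (C : Ctx G)
include C

theorem H_le_normalizer_P0 (p : ℕ) [Fact p.Prime] :
    C.H ≤ normalizer ((Op p C.H ⊓ C.U0 : Subgroup G) : Set G) := fun h hh =>
  mem_normalizer_iff.2 fun x => by
    rw [mem_inf, mem_inf, mem_normalizer_iff.1 (C.H_le_normalizer_U0 hh) x,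
      mem_normalizer_iff.1 (CfsgLib.DGroup.le_normalizer_Op p C.H hh) x]

/-- A subgroup normalised by `C(a)` and missing `D` is inverted and central in `U₀`. -/
theorem inverted_of_disjoint {N : Subgroup G} (hNU : N ≤ C.U)
    (hN : C.H ≤ normalizer (N : Set G)) (hND : ∀ x ∈ N, x ∈ C.D → x = 1) :
    ∀ x ∈ N, C.b * x * C.b = x⁻¹ ∧ ∀ v ∈ C.U0, Commute v x := by
  have hinv : ∀ x ∈ N, C.b * x * C.b = x⁻¹ := by
    intro x hx
    obtain ⟨c, hc, i, hi, hcb, hib, rfl⟩ := exists_split C.hb.1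
      (C.odd_U.of_dvd_nat (card_dvd_of_le hNU)) (hN C.b_mem_H) hx
    rw [hND c hc (C.mem_D.2 ⟨hNU hc, hcb⟩), one_mul]
    exact hib
  exact fun x hx => ⟨hinv x hx, fun v hv => commute_of_le_inverted C.hb.1 C.odd_U
    (fun w hw => hN (C.U_le_H (C.U0_le_U hw))) hinv v hv x hx⟩

/-- The minimal normal section used in the case distinction. -/
structure Chief (p : ℕ) where
  Y : Subgroup G
  C0 : Subgroup G
  le_O : Y ≤ Op p C.H
  le_U0 : Y ≤ C.U0
  pow_eq : ∀ x ∈ Y, x ^ p = 1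
  C0_le : C0 ≤ Y
  C0_mem : ∀ x, x ∈ C0 ↔ x ∈ Y ∧ C.b * x * C.b = x⁻¹ ∧ ∀ v ∈ C.U0, Commute v x
  norm : C.H ≤ normalizer (Y : Set G)
  norm_C0 : C.H ≤ normalizer (C0 : Set G)
  meet : ∃ d ∈ Y, d ∈ C.D ∧ d ≠ 1
  min : ∀ N ≤ Y, C.H ≤ normalizer (N : Set G) → N = Y ∨ N ≤ C0
  comm : ∀ v ∈ Y, ∀ w ∈ Y, v * w * v⁻¹ * w⁻¹ ∈ C0

theorem exists_chief (hmax : IsCoatom C.H) {p : ℕ} [Fact p.Prime] (hp2 : p ≠ 2) (hp : C.Good p)
    {d₀ : G} (hd₀D : d₀ ∈ C.D) (hd₀O : d₀ ∈ Op p C.H) (hd₀U : d₀ ∈ C.U0) (hd₀1 : d₀ ≠ 1) :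
    Nonempty (C.Chief p) := by
  set P := Op p C.H ⊓ C.U0 with hPdef
  have hPH := C.H_le_normalizer_P0 p
  have hPU : P ≤ C.U := inf_le_right.trans C.U0_le_U
  have hPp : IsPGroup p P := (CfsgLib.DGroup.isPGroup_Op p C.H).to_le inf_le_left
  obtain ⟨T, hT⟩ := exists_layer hp2 P
  have hTP : T ≤ P := fun x hx => ((hT x).1 hx).1
  have hTH : C.H ≤ normalizer (T : Set G) := le_normalizer_of_conj fun k hk x hx => by
    obtain ⟨h1, h2, h3⟩ := (hT x).1 hx
    refine (hT _).2 ⟨conj_mem (hPH hk) h1, by rw [conj_pow, h2]; group, fun y hy => ?_⟩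
    have h4 := conj_mem (CfsgLib.DGroup.mem_normalizer_centralizer (hPH hk))
      (h3 _ (conj_mem' (hPH hk) hy))
    convert h4 using 1
    group
  -- the layer meets `D`
  have hTD : ∃ x ∈ T, x ∈ C.D ∧ x ≠ 1 := by
    by_contra hne
    push Not at hne
    have hTi := C.inverted_of_disjoint (hTP.trans hPU) hTH hne
    obtain ⟨k₀, hk₀⟩ := exists_pow_of_isPGroup hPp (⟨hd₀O, hd₀U⟩ : d₀ ∈ P)
    set d := d₀ ^ (orderOf d₀ / p) with hd
    have hpo : p ∣ orderOf d₀ := by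
      obtain ⟨j, -, hj⟩ := (Nat.dvd_prime_pow (Fact.out : p.Prime)).1 (orderOf_dvd_of_pow_eq_one hk₀)
      rcases j with _ | j
      · exact absurd (orderOf_eq_one_iff.1 hj) hd₀1
      · exact hj ▸ dvd_pow_self p (Nat.succ_ne_zero j)
    have hdP : d ∈ P := pow_mem (⟨hd₀O, hd₀U⟩ : d₀ ∈ P) _
    have hdo : orderOf d = p := orderOf_pow_orderOf_div (orderOf_pos d₀).ne' hpo
    have hd1 : d ≠ 1 := fun h => (Fact.out : p.Prime).one_lt.ne (by rw [← hdo, h, orderOf_one])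
    by_cases hcyc : IsCyclic P
    · -- then the fixed element of order `p` is in the layer
      refine hd1 (hne d ((hT d).2 ⟨hdP, hdo ▸ pow_orderOf_eq_one d, fun y hy => ?_⟩) (pow_mem hd₀D _))
      haveI := hcyc
      obtain ⟨g, hg⟩ := IsCyclic.exists_generator (α := P)
      obtain ⟨i, hi⟩ := mem_zpowers_iff.1 (hg ⟨d, hdP⟩)
      obtain ⟨j, hj⟩ := mem_zpowers_iff.1 (hg ⟨y, hy⟩)
      have : Commute (⟨d, hdP⟩ : P) ⟨y, hy⟩ := hi ▸ hj ▸ (Commute.refl g).zpow_zpow i j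
      have h2 : d * y * d⁻¹ * y⁻¹ = 1 := by
        have h3 : d * y = y * d := congrArg Subtype.val this.eq
        rw [h3]; group
      rw [h2]; exact one_mem _
    obtain ⟨A, hA, hAe, hAc⟩ := CfsgLib.PGroupRank.exists_normal_sq hp2 hPp hcyc
    haveI := hA
    obtain ⟨Tor⟩ := C.exists_torus hmax hp hd₀D hd₀O hd₀1
    -- an element of the layer commutes with `d₀`
    have hTd : ∀ x ∈ T, Commute x d₀ := fun x hx => ((hTi x hx).2 d₀ hd₀U).symm
    set Z := A ⊓ center P with hZ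
    by_cases hAZ : A ≤ center P
    · -- `A` is central, so cyclic
      have hAT : ∀ x ∈ A, ((x : P) : G) ∈ T := fun x hx => (hT _).2 ⟨x.2, by
        exact_mod_cast congrArg Subtype.val (hAe.2 x hx), fun y hy => by
          have h3 : (y : G) * (x : G) = x * y :=
            congrArg Subtype.val (mem_center_iff.1 (hAZ hx) ⟨y, hy⟩)
          rw [← h3]; simp⟩
      obtain ⟨a, ha, ha1⟩ := A.bot_or_exists_ne_one.resolve_left fun h => by
        rw [h, card_bot] at hAc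
        exact absurd (Nat.dvd_one.1 (hAc.symm ▸ dvd_pow_self p two_ne_zero)) (Fact.out : p.Prime).one_lt.ne'
      have haT := hAT a ha
      have hle : A.map P.subtype ≤ zpowers (a : G) := by
        rintro _ ⟨x, hx, rfl⟩
        have hxT := hAT x hx
        obtain ⟨k, hk⟩ := Tor.exists_zpow (p := p) (hPU a.2) (hTd _ haT) (hTi _ haT).1
          ((hT _).1 haT).2.1 (fun h => ha1 (Subtype.ext h)) (hPU x.2) (hTd _ hxT) (hTi _ hxT).1
          ((hT _).1 hxT).2.1
        exact mem_zpowers_iff.2 ⟨k, hk.symm⟩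
      have h1 := card_dvd_of_le hle
      rw [card_map_of_injective P.subtype_injective, hAc, Nat.card_zpowers,
        orderOf_eq_prime ((hT _).1 haT).2.1 (fun h => ha1 (Subtype.ext h))] at h1
      have h2 := Nat.le_of_dvd (Fact.out : p.Prime).pos h1
      nlinarith [(Fact.out : p.Prime).two_le]
    · -- an element central modulo the centre is in the layer
      haveI := hPp.isNilpotent
      haveI : (A ⊓ center P).Normal := inferInstance
      set π := QuotientGroup.mk' Z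
      haveI : (A.map π).Normal := Subgroup.Normal.map hA π (QuotientGroup.mk'_surjective _)
      have hAne : A.map π ≠ ⊥ := fun h => hAZ (by
        rw [Subgroup.map_eq_bot_iff, QuotientGroup.ker_mk'] at h
        exact h.trans inf_le_right)
      haveI : Group.IsNilpotent (P ⧸ Z) := nilpotent_quotient_of_nilpotent Z
      obtain ⟨w, hw, hw1⟩ := (Subgroup.bot_or_exists_ne_one _).resolve_left
        (CfsgLib.PGroupBasic.inf_center_ne_bot (A.map π) hAne)
      obtain ⟨⟨x, hx, rfl⟩, hwc⟩ := hw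
      have hxT : (x : G) ∈ T := (hT _).2 ⟨x.2, by exact_mod_cast congrArg Subtype.val (hAe.2 x hx),
        fun y hy => by
          have h3 : (x * ⟨y, hy⟩ * x⁻¹ * (⟨y, hy⟩ : P)⁻¹) ∈ Z := by
            rw [← QuotientGroup.eq_one_iff]
            show π _ = 1
            rw [map_mul, map_mul, map_mul, map_inv, map_inv, (mem_center_iff.1 hwc (π ⟨y, hy⟩)).symm,
              mul_inv_cancel_right, mul_inv_cancel]
          refine mem_centralizer_iff.2 fun v hv => ?_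
          exact congrArg Subtype.val (mem_center_iff.1 h3.2 ⟨v, hv⟩)⟩
      refine hw1 ((QuotientGroup.eq_one_iff x).2 ⟨hx, mem_center_iff.2 fun v => Subtype.ext ?_⟩)
      exact ((hTi _ hxT).2 _ (v.2 : (v : G) ∈ P).2).eq
  -- the minimal one
  obtain ⟨Y, ⟨hYT, hYH, hYD⟩, hYmin⟩ := Set.Finite.exists_minimal
    (s := {N : Subgroup G | N ≤ T ∧ C.H ≤ normalizer (N : Set G) ∧ ∃ d ∈ N, d ∈ C.D ∧ d ≠ 1})
    (Set.toFinite _) ⟨T, le_rfl, hTH, hTD⟩
  have hYU : Y ≤ C.U := hYT.trans (hTP.trans hPU)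
  let C0 : Subgroup G :=
    { carrier := {x | x ∈ Y ∧ C.b * x * C.b = x⁻¹ ∧ ∀ v ∈ C.U0, Commute v x}
      one_mem' := ⟨one_mem Y, by rw [mul_one, C.hb.1, inv_one], fun v _ => Commute.one_right v⟩
      mul_mem' := fun {x y} hx hy => ⟨mul_mem hx.1 hy.1, by
        rw [invol_mul C.hb.1, hx.2.1, hy.2.1, mul_inv_rev]
        exact ((hy.2.2 x (mem_invGen (hYU hx.1) hx.2.1)).inv_inv).eq,
        fun v hv => (hx.2.2 v hv).mul_right (hy.2.2 v hv)⟩
      inv_mem' := fun {x} hx => ⟨inv_mem hx.1, inverted_inv C.hb.1 hx.2.1,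
        fun v hv => (hx.2.2 v hv).inv_right⟩ }
  have hC0 : ∀ x, x ∈ C0 ↔ x ∈ Y ∧ C.b * x * C.b = x⁻¹ ∧ ∀ v ∈ C.U0, Commute v x := fun x => Iff.rfl
  have hCH : C.H ≤ normalizer (C0 : Set G) := le_normalizer_of_conj fun k hk x hx => by
    obtain ⟨hxY, hxb, hxc⟩ := (hC0 x).1 hx
    refine (hC0 _).2 ⟨conj_mem (hYH hk) hxY, ?_, fun v hv => ?_⟩
    · obtain ⟨u, hu, w, hw, rfl⟩ := C.exists_mul_V hk
      obtain ⟨e, he, y, hy, rfl⟩ := C.exists_mul_U0 hu
      have h1 : y * (w * x * w⁻¹) * y⁻¹ = w * x * w⁻¹ := by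
        have hcm : Commute y (w * x * w⁻¹) := by
          have h2 := (Commute.conj_iff w).2
            (hxc (w⁻¹ * y * w) (conj_mem' (C.H_le_normalizer_U0 (C.V_le_H hw)) hy))
          rwa [show w * (w⁻¹ * y * w) * w⁻¹ = y by group] at h2
        rw [hcm.eq, mul_inv_cancel_right]
      rw [show e * y * w * x * (e * y * w)⁻¹ = e * (y * (w * x * w⁻¹) * y⁻¹) * e⁻¹ by group, h1]
      exact inverted_conj C.hb.1 (C.mem_D.1 he).2
        (inverted_conj C.hb.1 (C.commute_of_mem_V hw C.b_mem_V) hxb)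
    · have h2 := (Commute.conj_iff k).2 (hxc (k⁻¹ * v * k) (conj_mem' (C.H_le_normalizer_U0 hk) hv))
      rwa [show k * (k⁻¹ * v * k) * k⁻¹ = v by group] at h2
  have hmin : ∀ N ≤ Y, C.H ≤ normalizer (N : Set G) → N = Y ∨ N ≤ C0 := by
    intro N hN hNH
    by_cases hd : ∃ d ∈ N, d ∈ C.D ∧ d ≠ 1
    · exact Or.inl (le_antisymm hN (hYmin ⟨hN.trans hYT, hNH, hd⟩ hN))
    push Not at hd
    exact Or.inr fun x hx => (hC0 x).2 ⟨hN hx, C.inverted_of_disjoint (hN.trans hYU) hNH hd x hx⟩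
  refine ⟨⟨Y, C0, fun x hx => (hTP (hYT hx)).1, fun x hx => (hTP (hYT hx)).2,
    fun x hx => ((hT x).1 (hYT hx)).2.1, fun x hx => hx.1, hC0, hYH, hCH, hYD, hmin, ?_⟩⟩
  intro v hv w hw
  set Zc := Y ⊓ centralizer (P : Set G) with hZc
  have hZH : C.H ≤ normalizer (Zc : Set G) := le_normalizer_of_conj fun k hk x hx =>
    ⟨conj_mem (hYH hk) hx.1, conj_mem (CfsgLib.DGroup.mem_normalizer_centralizer (hPH hk)) hx.2⟩
  rcases hmin Zc inf_le_left hZH with h | h
  · have : v ∈ Zc := h.symm ▸ hv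
    rw [show v * w = w * v from (mem_centralizer_iff.1 this.2 w (hTP (hYT hw))).symm]
    simp
  · exact h ⟨(mul_mem (mul_mem (mul_mem hv hw) (inv_mem hv)) (inv_mem hw) : v * w * v⁻¹ * w⁻¹ ∈ Y),
      ((hT v).1 (hYT hv)).2.2 w (hTP (hYT hw))⟩

end Ctx

end CfsgLib.GW.CaseI
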