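import Cfsg.Agent.GW.CaseI.Torus

/-!
# The inverted elements of `C_U(d)` form a cyclic group; a fixed point lemma
-/

set_option autoImplicit false
set_option linter.style.haveILetI false
set_option linter.unusedSectionVars false

namespace CfsgLib.GW.CaseI

open Subgroup
open CfsgLib.DGroup (coreIn mem_normalizer_centralizer Op conj_mem conj_mem' odd_orderOf eq_one_of_sq eq_one_of_inv_eq)

universe u

variable {G : Type u} [Group G] [Finite G]

/-- If the inverted elements of order prime to `p` centralise the normal `p`-subgroup `Y` of a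
group of odd order which they generate with the others, this group fixes a point of `Y`. -/
theorem exists_fixed_of_inverted {p : ℕ} [Fact p.Prime] {b : G} (hb : b * b = 1) {U Y : Subgroup G}
    (hU : Odd (Nat.card U)) (hgen : closure {x | x ∈ U ∧ b * x * b = x⁻¹} = U)
    (hbU : b ∈ normalizer (U : Set G)) (hYU : Y ≤ U) (hUY : U ≤ normalizer (Y : Set G))
    (hbY : b ∈ normalizer (Y : Set G)) (hY : IsPGroup p Y) (hY1 : Y ≠ ⊥)
    (h : ∀ x ∈ U, b * x * b = x⁻¹ → ¬ p ∣ orderOf x → ∀ w ∈ Y, Commute x w) :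
    ∃ z ∈ Y, z ≠ 1 ∧ ∀ x ∈ U, Commute x z := by
  set N := (centralizer (Y : Set G)).subgroupOf U with hN
  haveI : N.Normal := ⟨fun n hn g => by
    show (g : G) * n * (g : G)⁻¹ ∈ centralizer (Y : Set G)
    exact conj_mem (mem_normalizer_centralizer (hUY g.2)) hn⟩
  have hb' : b⁻¹ = b := inv_eq_of_mul_eq_one_right hb
  have hinv2 : ∀ x : G, b * (b * x * b) * b = x := fun x => by
    simp only [mul_assoc, ← mul_assoc b b, hb, one_mul, mul_one]
  let β : U ≃* U :=
    { toFun := fun x => ⟨b * x * b, conj_invol_eq hb (x : G) ▸ conj_mem hbU x.2⟩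
      invFun := fun x => ⟨b * x * b, conj_invol_eq hb (x : G) ▸ conj_mem hbU x.2⟩
      left_inv := fun x => Subtype.ext (hinv2 x)
      right_inv := fun x => Subtype.ext (hinv2 x)
      map_mul' := fun x y => Subtype.ext (invol_mul hb (x : G) y) }
  have hβN : ∀ x : U, x ∈ N → β x ∈ N := fun x hx => by
    show b * (x : G) * b ∈ centralizer (Y : Set G)
    rw [← conj_invol_eq hb]
    exact conj_mem (mem_normalizer_centralizer hbY) hx
  have hNβ : N.map β.toMonoidHom = N := by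
    refine le_antisymm (map_le_iff_le_comap.2 fun x hx => hβN x hx) fun x hx =>
      ⟨β x, hβN x hx, Subtype.ext (hinv2 x)⟩
  let γ : U ⧸ N ≃* U ⧸ N := QuotientGroup.congr N N β hNβ
  set π := QuotientGroup.mk' N with hπ
  have hgen' : closure {x : U | β x = x⁻¹} = ⊤ := by
    refine map_injective U.subtype_injective ?_
    rw [MonoidHom.map_closure, ← MonoidHom.range_eq_map, range_subtype]
    refine le_antisymm ((closure_le _).2 (by rintro _ ⟨x, -, rfl⟩; exact x.2)) ?_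
    refine hgen.symm.le.trans ((closure_le _).2 fun x hx => ?_)
    exact subset_closure ⟨⟨x, hx.1⟩, Subtype.ext hx.2, rfl⟩
  -- other primes do not occur in `U / N`
  have hidx : ∀ r : ℕ, r.Prime → r ≠ p → ¬ r ∣ N.index := by
    intro r hr hrp hdvd
    haveI : Fact r.Prime := ⟨hr⟩
    obtain ⟨S, hS⟩ := CfsgLib.CoprimeAct.exists_invariant_sylow (A := zpowers b) (K := U)
      (zpowers_le.2 hbU) (by
        rw [Nat.card_zpowers]
        exact Nat.Coprime.of_dvd_left (orderOf_dvd_of_pow_eq_one (by rw [pow_two, hb]))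
          (Nat.coprime_two_left.2 hU))
      (Or.inl (Group.isSolvable_of_comm fun x y => by
        obtain ⟨i, hi⟩ := mem_zpowers_iff.1 x.2
        obtain ⟨j, hj⟩ := mem_zpowers_iff.1 y.2
        exact Subtype.ext (by simp only [Subgroup.coe_mul, ← hi, ← hj, ← zpow_add, add_comm]))) r
    have hW : Nat.card (U ⧸ N) = N.index := rfl
    have h0 := sylow_eq_bot_aux r _ (U ⧸ N) rfl (hU.of_dvd_nat (Subgroup.card_quotient_dvd_card N)) γ
      (closure_inverted_map (QuotientGroup.mk'_surjective N) β γ (fun _ => rfl) hgen')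
      (S.mapSurjective (QuotientGroup.mk'_surjective N)) (by
        rintro _ ⟨x, hx, rfl⟩
        show π (β x) = π x
        obtain ⟨c, hc, i, hi, hcb, hib, e⟩ := exists_split (U := (S : Subgroup U).map U.subtype) hb
          (hU.of_dvd_nat (card_dvd_of_le (map_subtype_le _))) (hS (mem_zpowers b)) ⟨x, hx, rfl⟩
        obtain ⟨i', hi', rfl⟩ := hi
        obtain ⟨c', hc', rfl⟩ := hc
        have e' : x = c' * i' := Subtype.ext e
        have h1 : π i' = 1 := by
          refine (QuotientGroup.eq_one_iff _).2 (mem_centralizer_iff.2 fun w hw =>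
            (h i' i'.2 hib (fun hd => ?_) w hw).eq.symm)
          obtain ⟨k, hk⟩ := S.2 ⟨i', hi'⟩
          have h2 : orderOf (i' : G) ∣ r ^ k := orderOf_dvd_of_pow_eq_one
            (congrArg (fun z : (S : Subgroup U) => ((z : U) : G)) hk)
          exact hrp ((Nat.prime_dvd_prime_iff_eq Fact.out hr).1
            ((Fact.out : p.Prime).dvd_of_dvd_pow (hd.trans h2))).symm
        have h2 : β i' = i'⁻¹ := Subtype.ext hib
        have h3 : β c' = c' := Subtype.ext (conj_eq_of_commute hb hcb)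
        rw [e', map_mul, map_mul, map_mul, h2, h3, map_inv, h1, inv_one])
    have h1 := (S.mapSurjective (QuotientGroup.mk'_surjective N)).not_dvd_index
    rw [h0, index_bot, hW] at h1
    exact h1 hdvd
  -- a fixed point
  obtain ⟨P⟩ := (inferInstance : Nonempty (Sylow p U))
  haveI hYn : (Y.subgroupOf U).Normal := (normal_subgroupOf_iff_le_normalizer hYU).2 hUY
  haveI : (Y.comap U.subtype).Normal := hYn
  have hYP : Y.subgroupOf U ≤ P :=
    le_sup_left.trans (P.3 ((hY.comap_subtype (K := U)).to_sup_of_normal_left P.2) le_sup_right).le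
  haveI := P.2.isNilpotent
  haveI : ((Y.subgroupOf U).subgroupOf (P : Subgroup U)).Normal := inferInstance
  obtain ⟨z, hz, hz1⟩ := (Subgroup.bot_or_exists_ne_one _).resolve_left
    (CfsgLib.PGroupBasic.inf_center_ne_bot ((Y.subgroupOf U).subgroupOf (P : Subgroup U)) (by
      rw [ne_eq, subgroupOf_eq_bot, disjoint_iff, inf_eq_left.2 hYP, subgroupOf_eq_bot, disjoint_iff,
        inf_eq_left.2 hYU]
      exact hY1))
  refine ⟨((z : U) : G), hz.1, fun e => hz1 (Subtype.ext (Subtype.ext e)), ?_⟩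
  set K := centralizer ({(z : U)} : Set U) with hK
  have hPK : (P : Subgroup U) ≤ K := fun x hx => mem_centralizer_singleton_iff.2
    (congrArg Subtype.val (mem_center_iff.1 hz.2 ⟨x, hx⟩))
  have hNK : N ≤ K := fun x hx => mem_centralizer_singleton_iff.2
    (Subtype.ext (mem_centralizer_iff.1 hx _ hz.1).symm)
  have htop : K = ⊤ := by
    rw [← index_eq_one]
    by_contra hne
    obtain ⟨r, hr, hrd⟩ := Nat.exists_prime_and_dvd hne
    by_cases hrp : r = p
    · exact P.not_dvd_index ((hrp ▸ hrd).trans (index_dvd_of_le hPK))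
    · exact hidx r hr hrp (hrd.trans (index_dvd_of_le hNK))
  intro x hx
  have : (⟨x, hx⟩ : U) ∈ K := htop ▸ mem_top _
  exact congrArg Subtype.val (mem_centralizer_singleton_iff.1 this)

namespace Torus

variable {C : Ctx G} {d : G} (T : Torus C d)
include T

theorem b_normalizer_inf (hdD : d ∈ C.D) :
    C.b ∈ normalizer ((C.U ⊓ centralizer ({d} : Set G) : Subgroup G) : Set G) := by
    refine mem_normalizer_iff.2 fun x => ?_
    have hbd : Commute C.b d := (C.mem_D.1 hdD).2.symm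
    rw [mem_inf, mem_inf, mem_normalizer_iff.1 C.b_norm_U x, mem_normalizer_iff.1
      (le_normalizer (mem_centralizer_singleton_iff.2 hbd.eq) : C.b ∈ normalizer
        (centralizer ({d} : Set G) : Set G)) x]

/-- The inverted elements of `C_U(d)` are the powers of one of order `u₁`. -/
theorem exists_gen (hdD : d ∈ C.D) : ∃ g ∈ C.U, Commute g d ∧ C.b * g * C.b = g⁻¹ ∧ orderOf g = T.u₁ ∧
    ∀ x ∈ C.U, Commute x d → C.b * x * C.b = x⁻¹ → x ∈ zpowers g := by
  haveI : NeZero T.u₁ := ⟨T.odd_u.pos.ne'⟩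
  obtain ⟨t, ht⟩ := T.surj (Multiplicative.ofAdd 1)
  have hTU : T.Tor ≤ C.U := T.le.trans inf_le_left
  have hbK := T.b_normalizer_inf hdD
  obtain ⟨c, hc, i, hi, hcb, hib, e⟩ := exists_split C.hb.1
    (C.odd_U.of_dvd_nat (card_dvd_of_le inf_le_left)) hbK (⟨hTU t.2, (T.le t.2).2⟩ :
      (t : G) ∈ C.U ⊓ centralizer ({d} : Set G))
  have hiU : i ∈ C.U := hi.1
  have hid : Commute i d := mem_centralizer_singleton_iff.1 hi.2
  have hiT : i ∈ T.Tor := T.mem_of_inverted i hi.1 hid hib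
  have hcT : c ∈ T.Tor := by
    have := mul_mem t.2 (inv_mem hiT)
    rwa [e, mul_inv_cancel_right] at this
  have hcW : T.φ ⟨c, hcT⟩ = 1 := (T.ker _).2 (T.inf_D c hcT (C.mem_D.2 ⟨hc.1, hcb⟩))
  set i' : T.Tor := ⟨i, hiT⟩ with hi'
  have hφi : T.φ i' = Multiplicative.ofAdd 1 := by
    rw [← ht, show t = (⟨c, hcT⟩ : T.Tor) * i' from Subtype.ext e, map_mul, hcW, one_mul]
  have hzb : ∀ k : ℤ, C.b * i ^ k * C.b = (i ^ k)⁻¹ := fun k => by
    rw [← conj_invol_eq C.hb.1, ← conj_zpow, conj_invol_eq C.hb.1, hib, inv_zpow]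
  have hone : ∀ k : ℤ, i ^ k = 1 ↔ T.φ i' ^ k = 1 := by
    intro k
    rw [← map_zpow, T.ker, SubgroupClass.coe_zpow]
    refine ⟨fun h => by show i ^ k ∈ _; rw [h]; exact one_mem _, fun h => ?_⟩
    refine eq_one_of_inv_eq ?_ (odd_orderOf C.odd_U (zpow_mem hiU k))
    rw [← hzb, conj_eq_of_commute C.hb.1 (T.W_commute h)]
  refine ⟨i, hi.1, hid, hib, ?_, fun x hx hxd hxb => ?_⟩
  · have h1 : orderOf i = orderOf (T.φ i') := orderOf_eq_orderOf_iff.2 fun n => by
      simpa using hone n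
    rw [h1, hφi, orderOf_ofAdd_eq_addOrderOf, ZMod.addOrderOf_one]
  · obtain ⟨k, hk⟩ : ∃ k : ℕ, T.φ ⟨x, T.mem_of_inverted x hx hxd hxb⟩ = Multiplicative.ofAdd 1 ^ k :=
      ⟨(T.φ ⟨x, T.mem_of_inverted x hx hxd hxb⟩).toAdd.val, by
        rw [← ofAdd_nsmul, nsmul_one, ZMod.natCast_zmod_val]; rfl⟩
    refine mem_zpowers_iff.2 ⟨k, (T.inverted_ext hx hxd hxb (zpow_mem hiU k) (hid.zpow_left k)
      (hzb k) ?_).symm⟩
    rw [hk, show (⟨i ^ (k : ℤ), T.mem_of_inverted _ (zpow_mem hiU k) (hid.zpow_left k) (hzb k)⟩ :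
      T.Tor) = i' ^ k from Subtype.ext (by simp [hi']), map_pow, hφi]

/-- `U₀` does not centralise `d`. -/
theorem exists_not_commute (hdD : d ∈ C.D) (hd0 : d ∈ C.U0) (hd1 : d ≠ 1) :
    ∃ x ∈ C.U, C.b * x * C.b = x⁻¹ ∧ ¬ Commute x d := by
  by_contra h
  push Not at h
  obtain ⟨g, hg, hgd, hgb, -, hgen⟩ := T.exists_gen hdD
  have hle : C.U0 ≤ zpowers g := (closure_le _).2 fun x hx => hgen x hx.1 (h x hx.1 hx.2) hx.2
  obtain ⟨k, hk⟩ := mem_zpowers_iff.1 (hle hd0)
  refine hd1 (eq_one_of_inv_eq ?_ (odd_orderOf C.odd_D hdD))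
  rw [← hk, ← inv_zpow, ← hgb, ← conj_invol_eq C.hb.1, conj_zpow, hk,
    conj_invol_eq C.hb.1, conj_eq_of_commute C.hb.1 (C.mem_D.1 hdD).2]

/-- The order of `C_{U₀}(d)` when `D ∩ U₀` centralises `d`. -/
theorem card_U0_inf (hdD : d ∈ C.D) (hD : ∀ e ∈ C.D, e ∈ C.U0 → Commute e d) :
    Nat.card ↥(C.U0 ⊓ centralizer ({d} : Set G)) = T.u₁ * Nat.card ↥(C.D ⊓ C.U0) := by
  obtain ⟨g, hg, hgd, hgb, hgo, hgen⟩ := T.exists_gen hdD
  have hg0 : g ∈ C.U0 := mem_invGen hg hgb
  set A := C.D ⊓ C.U0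
  set B := zpowers g
  have hgB : ∀ v ∈ B, C.b * v * C.b = v⁻¹ := fun v hv => by
    obtain ⟨k, rfl⟩ := mem_zpowers_iff.1 hv
    rw [← conj_invol_eq C.hb.1, ← conj_zpow, conj_invol_eq C.hb.1, hgb, inv_zpow]
  have hmem : ∀ q : A × B, (q.1 : G) * q.2 ∈ C.U0 ⊓ centralizer ({d} : Set G) := fun q => by
    obtain ⟨k, hk⟩ := mem_zpowers_iff.1 q.2.2
    refine ⟨mul_mem q.1.2.2 (zpowers_le.2 hg0 q.2.2), mem_centralizer_singleton_iff.2
      ((hD _ q.1.2.1 q.1.2.2).mul_left ?_).eq⟩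
    rw [← hk]; exact hgd.zpow_left k
  let f : A × B → ↥(C.U0 ⊓ centralizer ({d} : Set G)) := fun q => ⟨_, hmem q⟩
  have hf : Function.Bijective f := by
    refine ⟨?_, ?_⟩
    · rintro ⟨e₁, v₁⟩ ⟨e₂, v₂⟩ hq
      have hq' : (e₁ : G) * v₁ = (e₂ : G) * v₂ := congrArg Subtype.val hq
      set w : G := (v₁ : G) * (v₂ : G)⁻¹ with hw
      have hwB : w ∈ B := mul_mem v₁.2 (inv_mem v₂.2)
      have hwA : w ∈ C.D := by
        have : w = (e₁ : G)⁻¹ * e₂ := by
          rw [hw, mul_inv_eq_iff_eq_mul, mul_assoc, ← hq', inv_mul_cancel_left]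
        rw [this]; exact mul_mem (inv_mem e₁.2.1) e₂.2.1
      have hw1 : w = 1 := eq_one_of_inv_eq (by
        rw [← hgB w hwB, conj_eq_of_commute C.hb.1 (C.mem_D.1 hwA).2]) (odd_orderOf C.odd_D hwA)
      have hv : v₁ = v₂ := Subtype.ext (mul_inv_eq_one.1 hw1)
      subst hv
      exact Prod.ext (Subtype.ext (mul_right_cancel hq')) rfl
    · rintro ⟨x, hx0, hxd⟩
      obtain ⟨c, hc, i, hi, hcb, hib, rfl⟩ := exists_split C.hb.1
        (C.odd_U.of_dvd_nat (card_dvd_of_le inf_le_left)) (T.b_normalizer_inf hdD) (⟨C.U0_le_U hx0, hxd⟩ :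
          x ∈ C.U ⊓ centralizer ({d} : Set G))
      have hid : Commute i d := mem_centralizer_singleton_iff.1 hi.2
      have hc0 : c ∈ C.U0 := by
        have hiU : i ∈ C.U := hi.1
        have := mul_mem (show c * i ∈ C.U0 from hx0) (inv_mem (show i ∈ C.U0 from mem_invGen hiU hib))
        rwa [mul_inv_cancel_right] at this
      exact ⟨(⟨c, C.mem_D.2 ⟨hc.1, hcb⟩, hc0⟩, ⟨i, hgen i hi.1 hid hib⟩), rfl⟩
  rw [← Nat.card_eq_of_bijective f hf, Nat.card_prod, Nat.card_zpowers, hgo, mul_comm]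

end Torus

end CfsgLib.GW.CaseI
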