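import Cfsg.Agent.GW.CaseI.Plane

/-!
# A section of order `p²` with one fixed and one inverted generator
-/

set_option autoImplicit false
set_option linter.unusedSectionVars false
set_option linter.style.haveILetI false

namespace CfsgLib.GW.CaseI

open Subgroup
open CfsgLib.DGroup (conj_mem odd_orderOf eq_one_of_sq)

universe u

variable {G : Type u} [Group G] [Finite G] {p : ℕ} [Fact p.Prime]

theorem plane_section (hp2 : p ≠ 2) {b : G} (hb : b * b = 1) {U Y N : Subgroup G}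
    (hU : Odd (Nat.card U))
    (hgen : closure {x | x ∈ U ∧ b * x * b = x⁻¹} = U) (hNY : N ≤ Y)
    (hYN : Y ≤ normalizer (N : Set G)) (hUY : U ≤ normalizer (Y : Set G))
    (hUN : U ≤ normalizer (N : Set G)) (hbN : b ∈ normalizer (N : Set G))
    {d y : G} (hd : d ∈ Y) (hy : y ∈ Y) (hdb : b * d * b = d) (hyb : b * y * b = y⁻¹)
    (hdN : d ∉ N) (hyN : y ∉ N) (hdp : d ^ p ∈ N) (hyp : y ^ p ∈ N)
    (hcomm : y * d * y⁻¹ * d⁻¹ ∈ N)
    (hspan : ∀ w ∈ Y, ∃ a c : ℤ, (d ^ a * y ^ c)⁻¹ * w ∈ N)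
    (hld : ∃ x ∈ U, ∀ a : ℤ, (d ^ a)⁻¹ * (x * d * x⁻¹) ∉ N)
    (hly : ∃ x ∈ U, ∀ c : ℤ, (y ^ c)⁻¹ * (x * y * x⁻¹) ∉ N) :
    ∃ K : Subgroup G, (∀ x, x ∈ K ↔ x ∈ U ∧ ∀ w ∈ Y, x * w * x⁻¹ * w⁻¹ ∈ N) ∧
      Odd (K.relIndex U) ∧ 3 ≤ K.relIndex U ∧ K.relIndex U ≤ p ∧ ¬ p ∣ K.relIndex U ∧
      (∀ x ∈ U, x * d * x⁻¹ * d⁻¹ ∈ N → x ∈ K) ∧ ∀ x ∈ U, Commute x b → x ∈ K := by
  classical
  haveI : (N.subgroupOf Y).Normal := (normal_subgroupOf_iff_le_normalizer hNY).2 hYN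
  let π := QuotientGroup.mk' (N.subgroupOf Y)
  have hπ : ∀ {v w : Y}, π v = π w ↔ (v : G)⁻¹ * w ∈ N := fun {v w} =>
    QuotientGroup.eq.trans (by simp [mem_subgroupOf])
  set D := π ⟨d, hd⟩ with hD
  set E := π ⟨y, hy⟩ with hE
  have hone : ∀ {w : Y}, π w = 1 ↔ (w : G) ∈ N := fun {w} => QuotientGroup.eq_one_iff w
  have hDE : Commute D E := by
    refine (?_ : Commute E D).symm
    refine mul_inv_eq_iff_eq_mul.1 (mul_inv_eq_one.1 ?_)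
    rw [hE, hD, ← map_inv, ← map_mul, ← map_mul, ← map_inv, ← map_mul, hone]
    exact hcomm
  have hDp : orderOf D = p := orderOf_eq_prime (by rw [hD, ← map_pow, hone]; exact hdp)
    fun h => hdN (hone.1 h)
  have hEp : orderOf E = p := orderOf_eq_prime (by rw [hE, ← map_pow, hone]; exact hyp)
    fun h => hyN (hone.1 h)
  have hbc : ∀ a c : ℤ, b * (d ^ a * y ^ c) * b = d ^ a * y ^ (-c) := fun a c => by
    rw [invol_mul hb, ← conj_invol_eq hb, ← conj_invol_eq hb (y ^ c), ← conj_zpow, ← conj_zpow,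
      conj_invol_eq hb, conj_invol_eq hb, hdb, hyb, inv_zpow, zpow_neg]
  have hbmem : ∀ v ∈ N, b * v * b ∈ N := fun v hv => conj_invol_eq hb v ▸ conj_mem hbN hv
  have hindep : ∀ a c : ℤ, D ^ a * E ^ c = 1 → ((a : ZMod p) = 0 ∧ (c : ZMod p) = 0) := by
    intro a c h
    have h' : D ^ a * E ^ (-c) = 1 := by
      rw [hD, hE, ← map_zpow, ← map_zpow, ← map_mul, hone] at h ⊢
      have := hbmem _ h
      simpa [hbc] using this
    have h2 : E ^ (2 * c) = 1 := by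
      calc E ^ (2 * c) = (D ^ a * E ^ (-c))⁻¹ * (D ^ a * E ^ c) := by group
        _ = 1 := by rw [h, h', inv_one, one_mul]
    have hc : (c : ZMod p) = 0 := by
      rw [← orderOf_dvd_iff_zpow_eq_one, hEp, ← ZMod.intCast_zmod_eq_zero_iff_dvd] at h2
      push_cast at h2
      exact (mul_eq_zero.1 h2).resolve_left (two_ne_zero_zmod hp2)
    refine ⟨?_, hc⟩
    rw [ZMod.intCast_zmod_eq_zero_iff_dvd] at hc
    rw [orderOf_dvd_iff_zpow_eq_one.1 (show (orderOf E : ℤ) ∣ c by rw [hEp]; exact hc), mul_one, ← orderOf_dvd_iff_zpow_eq_one,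
      hDp] at h
    rwa [ZMod.intCast_zmod_eq_zero_iff_dvd]
  have hspan' : ∀ w : Y, ∃ a c : ℤ, π w = D ^ a * E ^ c := fun w => by
    obtain ⟨a, c, h⟩ := hspan w w.2
    refine ⟨a, c, ?_⟩
    rw [hD, hE, ← map_zpow, ← map_zpow, ← map_mul]
    exact (hπ.2 (by simpa using h)).symm
  choose α γ hαγ using hspan'
  let χ₁ : Y → ZMod p := fun w => (α w : ZMod p)
  let χ₂ : Y → ZMod p := fun w => (γ w : ZMod p)
  have huniq : ∀ (w : Y) (a c : ℤ), π w = D ^ a * E ^ c →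
      χ₁ w = (a : ZMod p) ∧ χ₂ w = (c : ZMod p) := by
    intro w a c h
    have := hindep (α w - a) (γ w - c) (by
      calc D ^ (α w - a) * E ^ (γ w - c)
          = D ^ (-a) * (D ^ α w * E ^ γ w) * E ^ (-c) := by group
        _ = D ^ (-a) * (D ^ a * E ^ c) * E ^ (-c) := by rw [← hαγ w, h]
        _ = 1 := by group)
    simpa [χ₁, χ₂, sub_eq_zero] using this
  have hχeq : ∀ v w : Y, χ₁ v = χ₁ w → χ₂ v = χ₂ w → π v = π w := by
    intro v w h1 h2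
    rw [hαγ v, hαγ w]
    congr 1
    · rw [← orderOf_dvd_sub_iff_zpow_eq_zpow, hDp]
      exact (ZMod.intCast_eq_intCast_iff_dvd_sub _ _ _).1 h1.symm
    · rw [← orderOf_dvd_sub_iff_zpow_eq_zpow, hEp]
      exact (ZMod.intCast_eq_intCast_iff_dvd_sub _ _ _).1 h2.symm
  -- the action
  let cj : U → Y → Y := fun x w => ⟨(x : G) * w * (x : G)⁻¹, conj_mem (hUY x.2) w.2⟩
  have hcj : ∀ (x : U) (v w : Y), π v = π w → π (cj x v) = π (cj x w) := fun x v w h => by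
    refine hπ.2 ?_
    have := conj_mem (hUN x.2) (hπ.1 h)
    simpa [cj, mul_assoc] using this
  have hlin : ∀ (x : U) (w : Y),
      χ₁ (cj x w) = χ₁ (cj x ⟨d, hd⟩) * χ₁ w + χ₁ (cj x ⟨y, hy⟩) * χ₂ w ∧
      χ₂ (cj x w) = χ₂ (cj x ⟨d, hd⟩) * χ₁ w + χ₂ (cj x ⟨y, hy⟩) * χ₂ w := by
    intro x w
    have h0 : π (cj x w) = π (cj x (⟨d, hd⟩ ^ α w * ⟨y, hy⟩ ^ γ w)) :=
      hcj x _ _ (by rw [map_mul, map_zpow, map_zpow]; exact hαγ w)
    have h1 : cj x (⟨d, hd⟩ ^ α w * ⟨y, hy⟩ ^ γ w) =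
        cj x ⟨d, hd⟩ ^ α w * cj x ⟨y, hy⟩ ^ γ w := Subtype.ext (by
      simp only [cj, Subgroup.coe_mul, SubgroupClass.coe_zpow, conj_zpow]
      group)
    rw [h1, map_mul, map_zpow, map_zpow, hαγ (cj x ⟨d, hd⟩), hαγ (cj x ⟨y, hy⟩),
      (hDE.zpow_zpow _ _).mul_zpow, (hDE.zpow_zpow _ _).mul_zpow] at h0
    have h2 := huniq _ (α (cj x ⟨d, hd⟩) * α w + α (cj x ⟨y, hy⟩) * γ w)
      (γ (cj x ⟨d, hd⟩) * α w + γ (cj x ⟨y, hy⟩) * γ w) (by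
        rw [h0, zpow_add, zpow_add, zpow_mul, zpow_mul, zpow_mul, zpow_mul]
        exact Commute.mul_mul_mul_comm (((hDE.zpow_zpow _ _).zpow_zpow _ _).symm) _ _)
    simpa [χ₁, χ₂] using h2
  let M : U → Matrix (Fin 2) (Fin 2) (ZMod p) := fun x =>
    !![χ₁ (cj x ⟨d, hd⟩), χ₁ (cj x ⟨y, hy⟩); χ₂ (cj x ⟨d, hd⟩), χ₂ (cj x ⟨y, hy⟩)]
  have hχd : χ₁ ⟨d, hd⟩ = 1 ∧ χ₂ ⟨d, hd⟩ = 0 := by
    simpa using huniq ⟨d, hd⟩ 1 0 (by rw [zpow_one, zpow_zero, mul_one])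
  have hχy : χ₁ ⟨y, hy⟩ = 0 ∧ χ₂ ⟨y, hy⟩ = 1 := by
    simpa using huniq ⟨y, hy⟩ 0 1 (by rw [zpow_one, zpow_zero, one_mul])
  have hcj1 : ∀ w, cj 1 w = w := fun w => Subtype.ext (by simp [cj])
  let f : U →* Matrix (Fin 2) (Fin 2) (ZMod p) :=
    { toFun := M
      map_one' := by
        ext i j
        fin_cases i <;> fin_cases j <;> simp [M, hcj1, hχd, hχy]
      map_mul' := fun x x' => by
        have hcc : ∀ w, cj (x * x') w = cj x (cj x' w) := fun w => Subtype.ext (by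
          simp [cj, mul_assoc])
        ext i j
        fin_cases i <;> fin_cases j <;> simp [M, hcc, Matrix.mul_apply, Fin.sum_univ_two]
        exacts [(hlin x _).1, (hlin x _).1, (hlin x _).2, (hlin x _).2] }
  have hfM : ∀ x, f x = M x := fun x => rfl
  -- the involution
  have hbY : ∀ w : Y, b * (w : G) * b ∈ Y := fun w => by
    obtain ⟨a, c, h⟩ := hspan w w.2
    have h' := hbmem _ h
    rw [invol_mul hb, invol_inv hb, hbc] at h'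
    have := mul_mem (mul_mem (zpow_mem hd a) (zpow_mem hy (-c))) (hNY h')
    rwa [mul_inv_cancel_left] at this
  have hχb : ∀ (w w' : Y), (w' : G) = b * w * b → χ₁ w' = χ₁ w ∧ χ₂ w' = -χ₂ w := by
    intro w w' e
    have h : π (⟨d, hd⟩ ^ α w * ⟨y, hy⟩ ^ (-γ w)) = π w' := by
      refine hπ.2 ?_
      have h0 := hbmem _ (hπ.1 ((by rw [map_mul, map_zpow, map_zpow]; exact (hαγ w).symm) :
        π (⟨d, hd⟩ ^ α w * ⟨y, hy⟩ ^ γ w) = π w))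
      rw [invol_mul hb, invol_inv hb, ← e] at h0
      simpa [hbc] using h0
    have h2 := huniq w' (α w) (-γ w) (by rw [← h, map_mul, map_zpow, map_zpow])
    exact ⟨h2.1, by rw [h2.2]; simp [χ₂]⟩
  have hjf : ∀ x x' : U, (x' : G) = b * x * b → jconj (f x) = f x' := by
    intro x x' e
    have hw : ∀ (w : G) (hw : w ∈ Y) (hw' : b * w * b ∈ Y),
        ((cj x' ⟨b * w * b, hw'⟩ : Y) : G) = b * (cj x ⟨w, hw⟩ : G) * b := fun w hw hw' => by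
      simp only [cj, e]
      rw [invol_mul hb, invol_mul hb, invol_inv hb]
    have h1 := hχb _ _ (hw d hd (hdb.symm ▸ hd))
    have h2 := hχb _ _ (hw y hy (hyb.symm ▸ inv_mem hy))
    simp only [hdb, hyb] at h1 h2
    have h3 : cj x' ⟨y⁻¹, inv_mem hy⟩ = (cj x' ⟨y, hy⟩)⁻¹ := Subtype.ext (by simp [cj, mul_assoc])
    have hneg : ∀ w : Y, χ₁ w⁻¹ = -χ₁ w ∧ χ₂ w⁻¹ = -χ₂ w := fun w => by
      have := huniq w⁻¹ (-α w) (-γ w) (by
        rw [map_inv, hαγ w, mul_inv_rev, ← zpow_neg, ← zpow_neg]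
        exact ((hDE.zpow_zpow _ _).symm).eq)
      simpa [χ₁, χ₂] using this
    rw [h3, (hneg _).1, (hneg _).2] at h2
    ext i j
    fin_cases i <;> fin_cases j <;> simp [jconj, hfM, M]
    · exact h1.1.symm
    · rw [← h2.1, neg_neg]
    · exact h1.2.symm
    · exact (neg_injective h2.2).symm
  have hgen' : closure {x : U | jconj (f x) = f x⁻¹} = ⊤ := by
    refine map_injective U.subtype_injective ?_
    rw [MonoidHom.map_closure, ← MonoidHom.range_eq_map, range_subtype]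
    refine le_antisymm ((closure_le _).2 (by rintro _ ⟨x, -, rfl⟩; exact x.2)) ?_
    refine hgen.symm.le.trans ((closure_le _).2 fun x hx => ?_)
    exact subset_closure ⟨⟨x, hx.1⟩, hjf ⟨x, hx.1⟩ (⟨x, hx.1⟩⁻¹) hx.2.symm, rfl⟩
  have hfb : ∃ x, f x 0 1 ≠ 0 := by
    obtain ⟨x, hx, h⟩ := hly
    refine ⟨⟨x, hx⟩, fun h0 => h (γ (cj ⟨x, hx⟩ ⟨y, hy⟩)) ?_⟩
    have h1 : π (⟨y, hy⟩ ^ γ (cj ⟨x, hx⟩ ⟨y, hy⟩)) = π (cj ⟨x, hx⟩ ⟨y, hy⟩) := by
      have h2 : D ^ α (cj ⟨x, hx⟩ ⟨y, hy⟩) = 1 := by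
        rw [← orderOf_dvd_iff_zpow_eq_one, hDp, ← ZMod.intCast_zmod_eq_zero_iff_dvd]
        simpa [hfM, M, χ₁] using h0
      rw [hαγ (cj ⟨x, hx⟩ ⟨y, hy⟩), h2, one_mul, map_zpow]
    exact hπ.1 h1
  have hfc : ∃ x, f x 1 0 ≠ 0 := by
    obtain ⟨x, hx, h⟩ := hld
    refine ⟨⟨x, hx⟩, fun h0 => h (α (cj ⟨x, hx⟩ ⟨d, hd⟩)) ?_⟩
    have h1 : π (⟨d, hd⟩ ^ α (cj ⟨x, hx⟩ ⟨d, hd⟩)) = π (cj ⟨x, hx⟩ ⟨d, hd⟩) := by
      have h2 : E ^ γ (cj ⟨x, hx⟩ ⟨d, hd⟩) = 1 := by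
        rw [← orderOf_dvd_iff_zpow_eq_one, hEp, ← ZMod.intCast_zmod_eq_zero_iff_dvd]
        simpa [hfM, M, χ₂] using h0
      rw [hαγ (cj ⟨x, hx⟩ ⟨d, hd⟩), h2, mul_one, map_zpow]
    exact hπ.1 h1
  obtain ⟨ho, h3, hle, hpk, hinv, hsr⟩ := plane_matrix hp2 hU f hgen' hfb hfc
  have hcj' : ∀ (x : U) (w : Y), π (cj x w) = π w ↔ (x : G) * w * (x : G)⁻¹ * (w : G)⁻¹ ∈ N := by
    intro x w
    rw [← mul_inv_eq_one, ← map_inv, ← map_mul, hone]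
    simp [cj]
  have hmem : ∀ x : U, f x = 1 ↔ ∀ w ∈ Y, (x : G) * w * (x : G)⁻¹ * w⁻¹ ∈ N := by
    intro x
    constructor
    · intro h w hw
      refine (hcj' x ⟨w, hw⟩).1 (hχeq _ _ ?_ ?_)
      all_goals
        have e : ∀ i j, M x i j = (1 : Matrix (Fin 2) (Fin 2) (ZMod p)) i j := fun i j => by
          rw [← hfM, h]
        have e00 := e 0 0
        have e01 := e 0 1
        have e10 := e 1 0
        have e11 := e 1 1
        simp [M] at e00 e01 e10 e11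
      · rw [(hlin x _).1, e00, e01]; ring
      · rw [(hlin x _).2, e10, e11]; ring
    · intro h
      have h1 : ∀ w : Y, χ₁ (cj x w) = χ₁ w ∧ χ₂ (cj x w) = χ₂ w := fun w =>
        huniq _ _ _ (((hcj' x w).2 (h w w.2)).trans (hαγ w))
      ext i j
      fin_cases i <;> fin_cases j <;> simp [hfM, M, h1, hχd, hχy]
  have hk : (f.ker.map U.subtype).relIndex U = f.ker.index := by
    rw [relIndex, subgroupOf, comap_map_eq_self_of_injective U.subtype_injective]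
  refine ⟨f.ker.map U.subtype, fun x => ⟨?_, fun h => ⟨⟨x, h.1⟩, (hmem _).2 h.2, rfl⟩⟩,
    hk ▸ ho, hk ▸ h3, hk ▸ hle, hk ▸ hpk, fun x hx h => ⟨⟨x, hx⟩, ?_, rfl⟩,
    fun x hx hxb => ⟨⟨x, hx⟩, ?_, rfl⟩⟩
  · rintro ⟨x, hx, rfl⟩
    exact ⟨x.2, (hmem x).1 hx⟩
  · have h1 := huniq _ _ _ (((hcj' ⟨x, hx⟩ ⟨d, hd⟩).2 h).trans (hαγ _))
    refine hsr ⟨x, hx⟩ ?_ ?_ <;> simp [hfM, M]
    · rw [h1.1]; exact hχd.1
    · rw [h1.2]; exact hχd.2
  · have h1 : f ⟨x, hx⟩⁻¹ = f ⟨x, hx⟩ := by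
      rw [← hinv]; exact hjf _ _ (conj_eq_of_commute hb hxb).symm
    have h2 : f ⟨x, hx⟩ * f ⟨x, hx⟩ = 1 := by
      nth_rw 1 [← h1]; rw [← map_mul, inv_mul_cancel, map_one]
    have h3 : orderOf (f ⟨x, hx⟩) = 1 := by
      have ho' : Odd (orderOf (⟨x, hx⟩ : U)) := hU.of_dvd_nat (orderOf_dvd_natCard _)
      have hd2 : orderOf (f ⟨x, hx⟩) ∣ 2 := orderOf_dvd_of_pow_eq_one (by rw [pow_two, h2])
      exact Nat.eq_one_of_dvd_coprimes (Nat.coprime_two_left.2 ho') hd2 (orderOf_map_dvd f _)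
    exact orderOf_eq_one_iff.1 h3

end CfsgLib.GW.CaseI
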