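import Cfsg.Agent.GW.CaseI.Layer
import Cfsg.Agent.GW.CaseI.PlaneSection
import Cfsg.Agent.GW.CaseI.Arith

/-!
# The shape of `|U₀ : C(d)|`: a mixed minimal normal subgroup
-/

set_option autoImplicit false
set_option linter.style.haveILetI false
set_option linter.unusedSectionVars false

namespace CfsgLib.GW.CaseI

open Subgroup
open CfsgLib.DGroup (coreIn Op conj_mem conj_mem' odd_orderOf eq_one_of_sq eq_one_of_inv_eq)

universe u

variable {G : Type u} [Group G] [Finite G]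

namespace Ctx

variable (C : Ctx G)
include C

/-- What the analysis of the layer delivers. -/
structure Config (p : ℕ) where
  d : G
  mem_D : d ∈ C.D
  mem_U0 : d ∈ C.U0
  mem_O : d ∈ Op p C.H
  ne_one : d ≠ 1
  torus : Torus C d
  dvd_u : p ∣ torus.u₁
  fixed : ∀ e ∈ C.D, e ∈ C.U0 → Commute e d
  shape : Shape p torus.u₁ ((C.U0 ⊓ centralizer ({d} : Set G)).relIndex C.U0)
    ((C.D ⊓ normalizer (zpowers d : Set G)).relIndex C.D)

/-- `C(a)` normalises what the inverted elements, `D` and `V` leave invariant. -/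
theorem H_le_normalizer_of {N : Subgroup G}
    (hU : ∀ x ∈ C.U, C.b * x * C.b = x⁻¹ → ∀ w ∈ N, x * w * x⁻¹ ∈ N)
    (hD : ∀ e ∈ C.D, ∀ w ∈ N, e * w * e⁻¹ ∈ N) (hV : ∀ v ∈ C.V, ∀ w ∈ N, v * w * v⁻¹ ∈ N) :
    C.H ≤ normalizer (N : Set G) := by
  have hU0 : C.U0 ≤ normalizer (N : Set G) := (closure_le _).2 fun x hx =>
    mem_normalizer_iff.2 fun w => ⟨hU x hx.1 hx.2 w, fun h => by
      simpa [mul_assoc] using hU x⁻¹ (inv_mem hx.1) (inverted_inv C.hb.1 hx.2) _ h⟩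
  intro h hh
  obtain ⟨u, hu, v, hv, rfl⟩ := C.exists_mul_V hh
  obtain ⟨e, he, y, hy, rfl⟩ := C.exists_mul_U0 hu
  exact mul_mem (mul_mem (le_normalizer_of_conj hD he) (hU0 hy)) (le_normalizer_of_conj hV hv)

theorem conj_fixed {v w : G} (hv : v ∈ C.V) (hw : w ∈ C.D) : v * w * v⁻¹ = w := by
  obtain ⟨hwU, hwb⟩ := C.mem_D.1 hw
  have : Commute w v := by
    rcases C.mem_V.1 hv with rfl | rfl | rfl | rfl
    exacts [Commute.one_right w, C.commute_a hwU, hwb, C.commute_c hwU hwb]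
  rw [← this.eq, mul_inv_cancel_right]

theorem conj_inverted {v w : G} (hv : v ∈ C.V) (hw : w ∈ C.U) (hwb : C.b * w * C.b = w⁻¹) :
    v * w * v⁻¹ = w ∨ v * w * v⁻¹ = w⁻¹ := by
  rcases C.mem_V.1 hv with rfl | rfl | rfl | rfl
  · left; group
  · left; rw [← (C.commute_a hw).eq, mul_inv_cancel_right]
  · right; rw [conj_invol_eq C.hb.1, hwb]
  · right; rw [conj_invol_eq C.hc.1, C.conj_c hw, hwb]

theorem conj_inverted_of_D {e w : G} (he : e ∈ C.D) (hwb : C.b * w * C.b = w⁻¹) :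
    C.b * (e * w * e⁻¹) * C.b = (e * w * e⁻¹)⁻¹ :=
  inverted_conj C.hb.1 (C.mem_D.1 he).2 hwb

namespace Chief

variable {C} {p : ℕ} [Fact p.Prime] (S : C.Chief p)
include S

theorem le_U : S.Y ≤ C.U := S.le_U0.trans C.U0_le_U

theorem isPGroup : IsPGroup p S.Y := (CfsgLib.DGroup.isPGroup_Op p C.H).to_le S.le_O

theorem split {w : G} (hw : w ∈ S.Y) :
    ∃ c ∈ S.Y, c ∈ C.D ∧ ∃ i ∈ S.Y, C.b * i * C.b = i⁻¹ ∧ w = c * i := by
  obtain ⟨c, hc, i, hi, hcb, hib, e⟩ := exists_split C.hb.1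
    (C.odd_U.of_dvd_nat (card_dvd_of_le S.le_U)) (S.norm C.b_mem_H) hw
  exact ⟨c, hc, C.mem_D.2 ⟨S.le_U hc, hcb⟩, i, hi, hib, e⟩

theorem eq_one_of_fixed {w : G} (hwD : w ∈ C.D) (hwb : C.b * w * C.b = w⁻¹) : w = 1 :=
  eq_one_of_inv_eq (by rw [← hwb, conj_eq_of_commute C.hb.1 (C.mem_D.1 hwD).2])
    (odd_orderOf C.odd_D hwD)

theorem exists_torus' (hmax : IsCoatom C.H) (hp : C.Good p) {d : G} (hd : d ∈ S.Y) (hdD : d ∈ C.D)
    (hd1 : d ≠ 1) : Nonempty (Torus C d) :=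
  C.exists_torus hmax hp hdD (S.le_O hd) hd1

theorem orderOf_eq {w : G} (hw : w ∈ S.Y) (hw1 : w ≠ 1) : orderOf w = p :=
  orderOf_eq_prime (S.pow_eq w hw) hw1

theorem dvd_u {d z : G} (T : Torus C d) (hdD : d ∈ C.D) (hz : z ∈ S.Y) (hz1 : z ≠ 1)
    (hzb : C.b * z * C.b = z⁻¹) (hzd : Commute z d) : p ∣ T.u₁ := by
  obtain ⟨g, -, -, -, hgo, hgen⟩ := T.exists_gen hdD
  rw [← S.orderOf_eq hz hz1, ← hgo, ← Nat.card_zpowers g]
  exact Subgroup.orderOf_dvd_natCard _ (hgen z (S.le_U hz) hzd hzb)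

theorem relIndex_line {d : G} (hd : d ∈ S.Y) (hdD : d ∈ C.D)
    (h : ∀ w ∈ S.Y, w ∈ C.D → w ∈ zpowers d) :
    (C.D ⊓ normalizer (zpowers d : Set G)).relIndex C.D = 1 := by
  rw [inf_relIndex_left, relIndex_eq_one]
  refine le_normalizer_of_conj fun e he w hw => h _ ?_ ?_
  · exact conj_mem (S.norm (C.U_le_H (C.D_le_U he))) (zpowers_le.2 hd hw)
  · exact mul_mem (mul_mem he (zpowers_le.2 hdD hw)) (inv_mem he)

/-- The first case: a minimal normal subgroup which is abelian and not centralised. -/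
theorem config_mixed (hmax : IsCoatom C.H) (hp2 : p ≠ 2) (hp : C.Good p)
    (h0 : ∀ x ∈ S.C0, x = 1) : Nonempty (C.Config p) := by
  have hcomm : ∀ v ∈ S.Y, ∀ w ∈ S.Y, Commute v w := fun v hv w hw =>
    (mul_inv_eq_iff_eq_mul.1 (mul_inv_eq_one.1 (h0 _ (S.comm v hv w hw))) : v * w = w * v)
  obtain ⟨d, hd, hdD, hd1⟩ := S.meet
  obtain ⟨T⟩ := S.exists_torus' hmax hp hd hdD hd1
  have hdb : Commute d C.b := (C.mem_D.1 hdD).2
  obtain ⟨x, hx, hxb, hxd⟩ := T.exists_not_commute hdD (S.le_U0 hd) hd1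
  obtain ⟨c, hc, hcD, y, hy, hyb, hxdx⟩ := S.split (conj_mem (S.norm (C.U_le_H hx)) hd)
  have hy1 : y ≠ 1 := fun h => hxd (commute_of_fixed C.hb.1 (odd_orderOf C.odd_U hx) hxb hdb (by
    rw [hxdx, h, mul_one]; exact (C.mem_D.1 hcD).2))
  have hdy : Commute y d := hcomm y hy d hd
  have hline : ∀ i ∈ S.Y, C.b * i * C.b = i⁻¹ → i ∈ zpowers y := fun i hi hib => by
    obtain ⟨k, hk⟩ := T.exists_zpow (p := p) (S.le_U hy) hdy hyb (S.pow_eq y hy) hy1 (S.le_U hi)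
      (hcomm i hi d hd) hib (S.pow_eq i hi)
    exact mem_zpowers_iff.2 ⟨k, hk.symm⟩
  -- the fixed points form a line
  have hfix : ∀ w ∈ S.Y, w ∈ C.D → w ∈ zpowers d := by
    by_contra hne
    push Not at hne
    obtain ⟨w, hw, hwD, hwd⟩ := hne
    have hxfix : ∀ x' ∈ C.U, C.b * x' * C.b = x'⁻¹ →
        ∃ d' ∈ S.Y, d' ∈ C.D ∧ d' ≠ 1 ∧ Commute x' d' := by
      intro x' hx' hx'b
      classical
      set A := S.Y ⊓ C.D with hA
      have hA' : ∀ e : A, ∃ i : zpowers y, x' * (e : G) * x'⁻¹ * (i : G)⁻¹ ∈ C.D := fun e => by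
        obtain ⟨c', hc', hc'D, i, hi, hib, he⟩ := S.split (conj_mem (S.norm (C.U_le_H hx')) e.2.1)
        exact ⟨⟨i, hline i hi hib⟩, by rw [he, mul_inv_cancel_right]; exact hc'D⟩
      choose σ hσ using hA'
      have hcard : Nat.card (zpowers y) < Nat.card A := by
        rw [Nat.card_zpowers, S.orderOf_eq hy hy1, ← S.orderOf_eq hd hd1, ← Nat.card_zpowers]
        exact lt_of_le_of_ne (card_le_of_le (zpowers_le.2 (⟨hd, hdD⟩ : d ∈ A))) fun h =>
          hwd (eq_of_le_of_card_ge (zpowers_le.2 (⟨hd, hdD⟩ : d ∈ A)) h.ge ▸ ⟨hw, hwD⟩)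
      have hni : ¬ Function.Injective σ := fun h =>
        absurd (Nat.card_le_card_of_injective σ h) (not_le.2 hcard)
      obtain ⟨e₁, e₂, he, hne'⟩ : ∃ e₁ e₂, σ e₁ = σ e₂ ∧ e₁ ≠ e₂ := by
        simpa [Function.Injective, not_forall] using hni
      refine ⟨(e₁ : G)⁻¹ * e₂, mul_mem (inv_mem e₁.2.1) e₂.2.1, mul_mem (inv_mem e₁.2.2) e₂.2.2,
        fun h => hne' (Subtype.ext (inv_mul_eq_one.1 h)),
        commute_of_fixed C.hb.1 (odd_orderOf C.odd_U hx') hx'b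
          (C.mem_D.1 (mul_mem (inv_mem e₁.2.2) e₂.2.2)).2 ?_⟩
      have h1 : x' * (e₁ : G) * x'⁻¹ * (σ e₁ : G)⁻¹ ∈ C.D := hσ e₁
      have h2 := hσ e₂
      rw [← he] at h2
      have hi : (σ e₁ : G) ∈ S.Y := zpowers_le.2 hy (σ e₁).2
      set m := (x' * (e₁ : G) * x'⁻¹ * (σ e₁ : G)⁻¹)⁻¹ * (x' * (e₂ : G) * x'⁻¹ * (σ e₁ : G)⁻¹)
        with hm
      have hmY : m ∈ S.Y := mul_mem (inv_mem (mul_mem (conj_mem (S.norm (C.U_le_H hx')) e₁.2.1)
        (inv_mem hi))) (mul_mem (conj_mem (S.norm (C.U_le_H hx')) e₂.2.1) (inv_mem hi))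
      have he' : x' * ((e₁ : G)⁻¹ * e₂) * x'⁻¹ = (σ e₁ : G)⁻¹ * m * (σ e₁ : G) := by
        rw [hm]; group
      rw [he', (hcomm _ (inv_mem hi) m hmY).eq, inv_mul_cancel_right]
      exact (C.mem_D.1 (mul_mem (inv_mem h1) h2)).2
    obtain ⟨z, hz, hz1, hzc⟩ := exists_fixed_of_inverted (p := p) (b := C.b) (U := C.U0) (Y := S.Y)
      C.hb.1 C.odd_U0 (by
        refine le_antisymm ((closure_le _).2 fun x hx => hx.1) ?_
        exact (closure_le _).2 fun x hx => subset_closure ⟨mem_invGen hx.1 hx.2, hx.2⟩)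
      C.b_norm_U0 S.le_U0 (fun v hv => S.norm (C.U_le_H (C.U0_le_U hv))) (S.norm C.b_mem_H)
      S.isPGroup (fun h => hd1 (mem_bot.1 (h ▸ hd))) (by
        intro x' hx' hx'b hxp v hv
        obtain ⟨d', hd', hd'D, hd'1, hxd'⟩ := hxfix x' (C.U0_le_U hx') hx'b
        obtain ⟨T'⟩ := S.exists_torus' hmax hp hd' hd'D hd'1
        exact T'.centralises (C.U0_le_U hx') hxd' hx'b S.isPGroup
          (le_inf S.le_U fun v hv => mem_centralizer_singleton_iff.2 (hcomm v hv d' hd').eq)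
          (S.norm (C.U_le_H (C.U0_le_U hx')))
          ((Fact.out : p.Prime).coprime_iff_not_dvd.2 hxp).symm v hv)
    have hN : C.H ≤ normalizer ((S.Y ⊓ centralizer (C.U0 : Set G) : Subgroup G) : Set G) :=
      le_normalizer_of_conj fun k hk v hv => ⟨conj_mem (S.norm hk) hv.1,
        conj_mem (CfsgLib.DGroup.mem_normalizer_centralizer (C.H_le_normalizer_U0 hk)) hv.2⟩
    rcases S.min _ inf_le_left hN with h | h
    · have : d ∈ S.Y ⊓ centralizer (C.U0 : Set G) := h.symm ▸ hd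
      exact hxd (mem_centralizer_iff.1 this.2 x (mem_invGen hx hxb))
    · exact hz1 (h0 z (h ⟨hz, mem_centralizer_iff.2 fun v hv => (hzc v hv).eq⟩))
  -- the plane
  have hspan : ∀ w ∈ S.Y, ∃ a k : ℤ, (d ^ a * y ^ k)⁻¹ * w ∈ (⊥ : Subgroup G) := fun w hw => by
    obtain ⟨c', hc', hc'D, i, hi, hib, rfl⟩ := S.split hw
    obtain ⟨a, ha⟩ := mem_zpowers_iff.1 (hfix c' hc' hc'D)
    obtain ⟨k, hk⟩ := mem_zpowers_iff.1 (hline i hi hib)
    exact ⟨a, k, by rw [ha, hk, inv_mul_cancel]; exact one_mem _⟩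
  have hly : ∃ x ∈ C.U0, ∀ k : ℤ, (y ^ k)⁻¹ * (x * y * x⁻¹) ∉ (⊥ : Subgroup G) := by
    by_contra hne
    push Not at hne
    have hN : C.H ≤ normalizer (zpowers y : Set G) := by
      have hg : ∀ w ∈ zpowers y, ∀ g, g * y * g⁻¹ ∈ zpowers y → g * w * g⁻¹ ∈ zpowers y := by
        intro w hw g hg
        obtain ⟨k, rfl⟩ := mem_zpowers_iff.1 hw
        rw [← conj_zpow]; exact zpow_mem hg k
      refine C.H_le_normalizer_of (fun x' hx' hx'b w hw => hg w hw x' ?_)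
        (fun e he w hw => hg w hw e (hline _ (conj_mem (S.norm (C.U_le_H (C.D_le_U he))) hy)
          (C.conj_inverted_of_D he hyb))) fun v hv w hw => hg w hw v ?_
      · obtain ⟨k, hk⟩ := hne x' (mem_invGen hx' hx'b)
        exact mem_zpowers_iff.2 ⟨k, inv_mul_eq_one.1 (mem_bot.1 hk)⟩
      · rcases C.conj_inverted hv (S.le_U hy) hyb with h | h <;> rw [h]
        exacts [mem_zpowers y, inv_mem (mem_zpowers y)]
    rcases S.min _ (zpowers_le.2 hy) hN with h | h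
    · have hdy' : d ∈ zpowers y := h.symm ▸ hd
      obtain ⟨k, hk⟩ := mem_zpowers_iff.1 hdy'
      refine hd1 (S.eq_one_of_fixed hdD ?_)
      rw [← hk, ← conj_invol_eq C.hb.1, ← conj_zpow, conj_invol_eq C.hb.1, hyb, inv_zpow]
    · exact hy1 (h0 y (h (mem_zpowers y)))
  obtain ⟨K, hK, hko, hk3, hkp, hpk, hsr, hKb⟩ := plane_section (p := p) hp2 C.hb.1 (U := C.U0)
    (Y := S.Y) (N := ⊥) C.odd_U0 (by
      refine le_antisymm ((closure_le _).2 fun x hx => hx.1) ?_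
      exact (closure_le _).2 fun x hx => subset_closure ⟨mem_invGen hx.1 hx.2, hx.2⟩)
    bot_le (by rw [normalizer_eq_top]; exact le_top)
    (fun v hv => S.norm (C.U_le_H (C.U0_le_U hv))) (by rw [normalizer_eq_top]; exact le_top)
    (by rw [normalizer_eq_top]; exact mem_top _) hd hy (conj_eq_of_commute C.hb.1 hdb) hyb
    (fun h => hd1 (mem_bot.1 h)) (fun h => hy1 (mem_bot.1 h)) (mem_bot.2 (S.pow_eq d hd))
    (mem_bot.2 (S.pow_eq y hy)) (mem_bot.2 (by rw [(hdy : Commute y d).eq]; group)) hspan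
    ⟨x, mem_invGen hx hxb, fun a ha => hy1 (by
      have h1 : x * d * x⁻¹ = d ^ a := (inv_mul_eq_one.1 (mem_bot.1 ha)).symm
      refine S.eq_one_of_fixed ?_ hyb
      have h2 : y = c⁻¹ * d ^ a := by rw [← h1, hxdx, inv_mul_cancel_left]
      rw [h2]; exact mul_mem (inv_mem hcD) (zpow_mem hdD a))⟩ hly
  have hcen : C.U0 ⊓ centralizer ({d} : Set G) = K := by
    ext v
    rw [mem_inf, mem_centralizer_singleton_iff, hK]
    constructor
    · rintro ⟨hv, hvd⟩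
      exact (hK v).1 (hsr v hv (mem_bot.2 (by rw [hvd]; group)))
    · rintro ⟨hv, hvc⟩
      exact ⟨hv, mul_inv_eq_iff_eq_mul.1 (mul_inv_eq_one.1 (mem_bot.1 (hvc d hd)))⟩
  refine ⟨⟨d, hdD, S.le_U0 hd, S.le_O hd, hd1, T, S.dvd_u T hdD hy hy1 hyb hdy, fun e he he0 => ?_, ?_⟩⟩
  · have h1 := hcen.symm.le (hKb e he0 (C.mem_D.1 he).2)
    exact mem_centralizer_singleton_iff.1 h1.2
  · rw [hcen, S.relIndex_line hd hdD hfix]
    exact ⟨_, hko, hkp, hpk, Or.inl ⟨rfl, rfl, hk3⟩⟩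

end Chief

end Ctx

end CfsgLib.GW.CaseI
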