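import Cfsg.Agent.GW.CaseI.Setting
import Cfsg.Agent.S0948
import Cfsg.Agent.S4479
import Cfsg.Agent.S4480
import Cfsg.Agent.Blocks.KleinEqual.Degree
import Cfsg.Agent.Blocks.Congr
import Mathlib.GroupTheory.SpecificGroups.KleinFour

/-!
# The order formula for `|G : C(a)|`

The principal 2-block has four characters; when the product of their signs at an involution is `-1`
this is S4480, otherwise two of the degrees are equal and S4479 gives the formula.
-/

set_option autoImplicit false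
set_option linter.style.haveILetI false
set_option linter.unusedSectionVars false

namespace CfsgLib.GW.CaseI.Ctx

open Subgroup
open Cfsg (charDegree)

universe u

variable {G : Type u} [Group G] [Finite G] (C : Ctx G)
include C

theorem card_H_inst : Nat.card C.H = 4 * Nat.card C.U := by
  have hn : C.V ≤ normalizer (C.U : Set G) := C.V_le_H.trans C.H_le_normalizer_U
  have hsup : C.V ⊔ C.U = C.H := le_antisymm (sup_le C.V_le_H C.U_le_H) fun h hh => by
    obtain ⟨u, hu, v, hv, rfl⟩ := C.exists_mul_V hh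
    exact mul_mem (mem_sup_right hu) (mem_sup_left hv)
  have e := CfsgLib.Solvable.card_sup_mul_card_inf hn
  rwa [hsup, (eq_bot_iff_forall (C.V ⊓ C.U)).2 fun x hx => CfsgLib.DGroup.eq_one_of_sq
    (C.sq_of_mem_V hx.1) (CfsgLib.DGroup.odd_orderOf C.odd_U hx.2), card_bot, mul_one, C.card_V] at e

theorem card_centralizer_V : Nat.card (centralizer (C.V : Set G)) = 4 * Nat.card C.D := by
  have hn : C.V ≤ normalizer (C.D : Set G) := fun v hv =>
    centralizer_le_normalizer _ (mem_centralizer_iff.2 fun d hd => by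
      obtain ⟨hdU, hdb⟩ := C.mem_D.1 hd
      rcases C.mem_V.1 hv with rfl | rfl | rfl | rfl
      exacts [by rw [mul_one, one_mul], (C.commute_a hdU).eq, hdb.eq, (C.commute_c hdU hdb).eq])
  have hsup : C.V ⊔ C.D = centralizer (C.V : Set G) := by
    refine le_antisymm (sup_le (fun v hv => mem_centralizer_iff.2 fun w hw =>
      (C.commute_of_mem_V hw hv).eq) fun d hd => mem_centralizer_iff.2 fun v hv => ?_) fun x hx => ?_
    · obtain ⟨hdU, hdb⟩ := C.mem_D.1 hd
      rcases C.mem_V.1 hv with rfl | rfl | rfl | rfl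
      exacts [by rw [mul_one, one_mul], (C.commute_a hdU).eq.symm, hdb.eq.symm,
        (C.commute_c hdU hdb).eq.symm]
    · obtain ⟨d, hd, v, hv, rfl⟩ := C.exists_mul_of_commute
        (show Commute x C.a from (mem_centralizer_iff.1 hx _ C.a_mem_V).symm)
        (show Commute x C.b from (mem_centralizer_iff.1 hx _ C.b_mem_V).symm)
      exact mul_mem (mem_sup_right hd) (mem_sup_left hv)
  have e := CfsgLib.Solvable.card_sup_mul_card_inf hn
  rwa [hsup, (eq_bot_iff_forall (C.V ⊓ C.D)).2 fun x hx => CfsgLib.DGroup.eq_one_of_sq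
    (C.sq_of_mem_V hx.1) (CfsgLib.DGroup.odd_orderOf C.odd_D hx.2), card_bot, mul_one, C.card_V] at e

theorem exists_order : Nonempty (Order C) := by
  classical
  haveI : Fintype G := Fintype.ofFinite G
  haveI := C.simple
  haveI : Fact (Nat.Prime 2) := ⟨Nat.prime_two⟩
  obtain ⟨M, hM⟩ := CfsgLib.Block.exists_isPModular (p := 2) Nat.prime_two
  haveI : M.IsPrime := hM.2.1.isPrime
  obtain ⟨P, hP⟩ := C.exists_sylow_V
  haveI : Nontrivial C.V := Finite.one_lt_card_iff_nontrivial.1 (by rw [C.card_V]; norm_num)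
  have h4 : IsKleinFour C.V := {
    card_four := C.card_V
    exponent_two := (Monoid.exponent_eq_prime_iff Nat.prime_two).2 fun g hg => orderOf_eq_prime
      (Subtype.ext (by simpa [pow_two] using C.sq_of_mem_V g.2)) hg }
  have hPK : IsKleinFour (P : Subgroup G) := hP.symm ▸ h4
  have hone : ∀ s t : G, orderOf s = 2 → orderOf t = 2 → IsConj s t := fun s t hs ht => by
    obtain ⟨g, hg⟩ := C.exists_conj_a (NormCyclic.Inv.of_orderOf hs)
    obtain ⟨h, hh⟩ := C.exists_conj_a (NormCyclic.Inv.of_orderOf ht)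
    exact ((isConj_iff.2 ⟨g, hg⟩).symm).trans (isConj_iff.2 ⟨h, hh⟩)
  have haP : C.a ∈ (P : Subgroup G) := hP ▸ C.a_mem_V
  have hG : Nat.card G = 4 * P.index := by
    rw [← C.card_V, ← hP]; exact (card_mul_index _).symm
  have hodd : Odd P.index := Nat.not_even_iff_odd.1 fun h =>
    P.not_dvd_index (even_iff_two_dvd.1 h)
  have hnc : ¬ ∃ N : Subgroup G, N.Normal ∧ Nat.card N = P.index := by
    rintro ⟨N, hN, hc⟩
    rcases hN.eq_bot_or_eq_top with rfl | rfl
    · rw [card_bot] at hc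
      refine C.H_ne_top (top_le_iff.1 fun g _ => C.V_le_H (hP ▸ ?_))
      rw [index_eq_one.1 hc.symm]
      exact mem_top g
    · rw [card_top, hG] at hc
      have := hodd.pos
      omega
  obtain ⟨ζ₂, ζ₃, ζ₄, ε, hε, h21, h31, h23, h24, h34, hB, hval, hd2, hd3, hd4, hrel⟩ :=
    Cfsg.Agent.S0948.result M hM P hPK hone
  obtain ⟨hv2, hv3, hv4⟩ := hval C.a C.ha.orderOf
  have h41 : (ζ₄ : G → ℂ) ≠ fun _ => 1 := fun h => by rw [h] at hv4; norm_num at hv4
  have hdeg := hrel 1 (by simp)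
  rw [(CfsgLib.Block.Chr.irr_one ζ₂).1, (CfsgLib.Block.Chr.irr_one ζ₃).1,
    (CfsgLib.Block.Chr.irr_one ζ₄).1] at hdeg
  have hx2 := (CfsgLib.Block.Chr.irr_one ζ₂).2
  have hx3 := (CfsgLib.Block.Chr.irr_one ζ₃).2
  set x2 := charDegree (ζ₂ : G → ℂ) with hx2'
  set x3 := charDegree (ζ₃ : G → ℂ) with hx3'
  set x4 := charDegree (ζ₄ : G → ℂ) with hx4'
  have hU : C.D.relIndex C.U * Nat.card C.D = Nat.card C.U := by
    rw [mul_comm, ← relIndex_bot_left, relIndex_mul_relIndex _ _ _ bot_le C.D_le_U, relIndex_bot_left]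
  have hH : C.H.index * (4 * Nat.card C.U) = Nat.card G := by
    rw [← C.card_H_inst, index_mul_card]
  have hcJ : Nat.card (centralizer ({C.a} : Set G)) = 4 * Nat.card C.U := C.card_H_inst
  have hcP : Nat.card (centralizer ((P : Subgroup G) : Set G)) = 4 * Nat.card C.D := by
    rw [hP]; exact C.card_centralizer_V
  set u := C.D.relIndex C.U with hu
  have hD0 : 0 < Nat.card C.D := Nat.card_pos
  have hu0 : 0 < u := Nat.pos_of_ne_zero fun h => (Nat.card_pos (α := C.U)).ne'
    (by rw [← hU, h, zero_mul])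
  rcases hε with rfl | rfl
  · -- signs `1, 1, -1`
    have h4 : x4 = 1 + x2 + x3 := by
      have : (((x4 : ℕ) : ℂ)) = ((1 + x2 + x3 : ℕ) : ℂ) := by push_cast; linear_combination -hdeg
      exact_mod_cast this
    obtain ⟨m, hm1, hm2⟩ := Cfsg.Agent.S4480.result M hM P.index hodd hG hnc P C.a haP
      C.ha.orderOf ζ₂ ζ₃ ζ₄ 1 1 (-1) hB ⟨h21, h31, h41, h23, h24, h34⟩ (by norm_num)
      ⟨by simpa using hv2, by simpa using hv3, by simpa using hv4⟩ (by norm_num) rfl
    rw [hcJ, hcP, ← hU, ← hx4'] at hm1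
    rw [hcP, ← hH, ← hU, ← hx4'] at hm2
    obtain ⟨e, he⟩ : 4 ∣ x4 + 1 := Int.natCast_dvd_natCast.1 (by push_cast; exact hd4)
    have hme : u = m * e := by
      have : (16 * Nat.card C.D) * u = (16 * Nat.card C.D) * (m * e) := by
        rw [he] at hm1; linarith
      exact Nat.eq_of_mul_eq_mul_left (by positivity) this
    refine ⟨⟨x4, e, m, -1, Or.inr rfl, by omega, hme.symm, ?_⟩⟩
    have hle : x4 ≤ x4 ^ 3 := Nat.le_self_pow (by norm_num) _
    have h5 := congrArg (Nat.cast : ℕ → ℤ) hm2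
    push_cast [Nat.cast_sub hle] at h5
    have hq : (x4 : ℤ) = 4 * (e : ℤ) - 1 := by omega
    have hue : (u : ℤ) = (m : ℤ) * e := by exact_mod_cast hme
    refine mul_left_cancel₀ (show (32 * (u : ℤ) * Nat.card C.D) ≠ 0 by positivity) ?_
    rw [hue] at h5 ⊢
    rw [hq] at h5 ⊢
    linear_combination h5
  · -- signs `1, -1, -1`
    have heq : x3 = x4 := CfsgLib.Block.klein_equal_degree hM P (by rw [hP, C.card_V])
      (fun x => Subtype.ext (C.sq_of_mem_V (hP ▸ x.2))) hone haP C.ha.orderOf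
      (χ₁ := ζ₂) (χ₂ := ζ₃) (χ₃ := ζ₄) (fun χ => by
        rw [hB, Set.mem_setOf_eq]
        refine or_congr ?_ Iff.rfl
        exact ⟨fun h => Subtype.ext h, fun h => h ▸ rfl⟩)
      ⟨fun h => h21 (h ▸ rfl), fun h => h31 (h ▸ rfl), fun h => h41 (h ▸ rfl), h23, h24, h34⟩
      hv2 (by simpa using hv3) hv4
    have h2 : x2 + 1 = 2 * x3 := by
      have : ((x2 + 1 : ℕ) : ℂ) = ((2 * x3 : ℕ) : ℂ) := by
        push_cast at hdeg ⊢
        rw [← heq] at hdeg
        linear_combination hdeg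
      exact_mod_cast this
    obtain ⟨e, he⟩ : ∃ e : ℕ, x2 = 4 * e + 1 := ⟨x2 / 4, by omega⟩
    have he3 : x3 = 2 * e + 1 := by omega
    have he0 : 0 < e := by omega
    have hf := Cfsg.Agent.S4479.result M hM P.index hodd hG hnc P C.a haP C.ha.orderOf ζ₂ ζ₃ ζ₄
      1 (-1) (-1) hB ⟨h21, h31, h41, h23, h24, h34⟩ (by norm_num)
      ⟨by simpa using hv2, by simpa using hv3, by simpa using hv4⟩
    rw [hcJ, hcP, ← hH, ← hU, ← hx2', ← hx3', ← hx4', ← heq, he, he3] at hf
    have hkey : C.H.index * e ^ 2 = u ^ 2 * ((4 * e + 1) * (2 * e + 1)) := by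
      have hD' : (Nat.card C.D : ℚ) ≠ 0 := Nat.cast_ne_zero.2 hD0.ne'
      have he' : (e : ℚ) ≠ 0 := Nat.cast_ne_zero.2 he0.ne'
      have hu' : (u : ℚ) ≠ 0 := Nat.cast_ne_zero.2 hu0.ne'
      have h21' : (2 : ℚ) * e + 1 ≠ 0 := by positivity
      push_cast at hf
      have e1 : (4 : ℚ) * e + 1 + 1 = 2 * (2 * e + 1) := by ring
      have e2 : (2 : ℚ) * e + 1 + -1 = 2 * e := by ring
      rw [e1, e2] at hf
      field_simp at hf
      have : ((C.H.index * e ^ 2 : ℕ) : ℚ) = ((u ^ 2 * ((4 * e + 1) * (2 * e + 1)) : ℕ) : ℚ) := by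
        push_cast
        linarith
      exact_mod_cast this
    have hco : (e ^ 2).Coprime ((4 * e + 1) * (2 * e + 1)) :=
      ((Nat.coprime_mul_right_add_right e 1 4 |>.2 (Nat.coprime_one_right e)).mul_right
        ((Nat.coprime_mul_right_add_right e 1 2).2 (Nat.coprime_one_right e))).pow_left 2
    obtain ⟨m, hum⟩ : e ∣ u := (Nat.pow_dvd_pow_iff two_ne_zero).1
      (hco.dvd_of_dvd_mul_right (hkey ▸ dvd_mul_left _ _))
    rw [hum] at hkey
    refine ⟨⟨4 * e + 1, e, m, 1, Or.inl rfl, by push_cast; ring, (mul_comm m e).trans hum.symm, ?_⟩⟩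
    have : C.H.index = m ^ 2 * ((4 * e + 1) * (2 * e + 1)) :=
      Nat.eq_of_mul_eq_mul_left (by positivity : 0 < e ^ 2) (by rw [mul_comm, hkey]; ring)
    rw [this]
    push_cast
    ring

end CfsgLib.GW.CaseI.Ctx
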