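import Cfsg.Agent.GW.CaseI.Inverted
import Mathlib.LinearAlgebra.Matrix.Adjugate
import Mathlib.LinearAlgebra.Matrix.NonsingularInverse
import Mathlib.Algebra.CharP.Lemmas
import Mathlib.LinearAlgebra.Matrix.CharP
import Mathlib.Algebra.Field.ZMod

/-!
# A plane with an involution: groups of odd order generated by inverted elements

Such a group, without a common invariant line with the involution `diag(1, -1)`, has an abelian
semiregular image of odd order `k`, `3 ≤ k ≤ p`, inverted by the involution.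
-/

set_option autoImplicit false
set_option linter.unusedSectionVars false
set_option linter.style.haveILetI false

namespace CfsgLib.GW.CaseI

open Subgroup

variable {p : ℕ} [Fact p.Prime]

/-- Conjugation of a matrix by `diag(1, -1)`. -/
def jconj (M : Matrix (Fin 2) (Fin 2) (ZMod p)) : Matrix (Fin 2) (Fin 2) (ZMod p) :=
  !![M 0 0, -M 0 1; -M 1 0, M 1 1]

theorem jconj_mul (M N : Matrix (Fin 2) (Fin 2) (ZMod p)) :
    jconj (M * N) = jconj M * jconj N := by
  ext i j
  fin_cases i <;> fin_cases j <;> simp [jconj, Matrix.mul_apply, Fin.sum_univ_two] <;> ring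

theorem jconj_one : jconj (1 : Matrix (Fin 2) (Fin 2) (ZMod p)) = 1 := by
  ext i j
  fin_cases i <;> fin_cases j <;> simp [jconj]

theorem det_jconj (M : Matrix (Fin 2) (Fin 2) (ZMod p)) : (jconj M).det = M.det := by
  simp [jconj, Matrix.det_fin_two]

theorem two_ne_zero_zmod (hp2 : p ≠ 2) : (2 : ZMod p) ≠ 0 := by
  intro h
  have : ((2 : ℕ) : ZMod p) = 0 := by simpa using h
  rw [ZMod.natCast_eq_zero_iff] at this
  exact hp2 ((Nat.prime_dvd_prime_iff_eq (Fact.out : p.Prime) Nat.prime_two).1 this)

/-- The centraliser of a non-scalar `2 × 2` matrix. -/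
theorem exists_comb {z w : Matrix (Fin 2) (Fin 2) (ZMod p)}
    (hz : z 0 1 ≠ 0 ∨ z 1 0 ≠ 0 ∨ z 0 0 ≠ z 1 1) (h : w * z = z * w) :
    ∃ a b : ZMod p, ∀ i j, w i j = a * (1 : Matrix (Fin 2) (Fin 2) (ZMod p)) i j + b * z i j := by
  have e : ∀ i j, w i 0 * z 0 j + w i 1 * z 1 j = z i 0 * w 0 j + z i 1 * w 1 j := fun i j => by
    have := congrArg (fun M => M i j) h
    simpa [Matrix.mul_apply, Fin.sum_univ_two] using this
  have e00 := e 0 0
  have e01 := e 0 1
  have e10 := e 1 0
  by_cases h01 : z 0 1 = 0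
  · by_cases h10 : z 1 0 = 0
    · have hd : z 0 0 ≠ z 1 1 := by tauto
      have hd' : z 0 0 - z 1 1 ≠ 0 := sub_ne_zero.2 hd
      have h1 : w 0 1 * (z 0 0 - z 1 1) = 0 := by
        rw [h01] at e01; linear_combination -e01
      have h2 : w 1 0 * (z 0 0 - z 1 1) = 0 := by
        rw [h10] at e10; linear_combination e10
      have h1' := (mul_eq_zero.1 h1).resolve_right hd'
      have h2' := (mul_eq_zero.1 h2).resolve_right hd'
      refine ⟨w 0 0 - (w 0 0 - w 1 1) / (z 0 0 - z 1 1) * z 0 0,
        (w 0 0 - w 1 1) / (z 0 0 - z 1 1), fun i j => ?_⟩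
      fin_cases i <;> fin_cases j <;> simp [h01, h10, h1', h2']
      field_simp
      ring
    · refine ⟨w 0 0 - w 1 0 / z 1 0 * z 0 0, w 1 0 / z 1 0, fun i j => ?_⟩
      have h1 : w 0 1 * z 1 0 = 0 := by rw [h01] at e00; linear_combination e00
      have h1' := (mul_eq_zero.1 h1).resolve_right h10
      fin_cases i <;> fin_cases j <;> simp [h01, h1', h10]
      field_simp
      linear_combination e10
  · refine ⟨w 0 0 - w 0 1 / z 0 1 * z 0 0, w 0 1 / z 0 1, fun i j => ?_⟩
    fin_cases i <;> fin_cases j <;> simp [h01]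
    · field_simp
      linear_combination -e00
    · field_simp
      linear_combination -e01

/-- The image of a group of odd order generated by elements inverted by `diag(1, -1)`. -/
theorem plane_matrix (hp2 : p ≠ 2) {U : Type*} [Group U] [Finite U] (hU : Odd (Nat.card U))
    (f : U →* Matrix (Fin 2) (Fin 2) (ZMod p))
    (hgen : closure {x | jconj (f x) = f x⁻¹} = ⊤)
    (hb : ∃ x, f x 0 1 ≠ 0) (hc : ∃ x, f x 1 0 ≠ 0) :
    Odd f.ker.index ∧ 3 ≤ f.ker.index ∧ f.ker.index ≤ p ∧ ¬ p ∣ f.ker.index ∧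
      (∀ x, jconj (f x) = f x⁻¹) ∧ ∀ x, f x 0 0 = 1 → f x 1 0 = 0 → f x = 1 := by
  have h2 := two_ne_zero_zmod hp2
  have hind : ∀ P : U → Prop, (∀ x, jconj (f x) = f x⁻¹ → P x) →
      (∀ x y, P x → P y → P (x * y)) → P 1 → (∀ x, P x → P x⁻¹) → ∀ x, P x := by
    intro P h1 h2 h3 h4 x
    have hx : x ∈ closure {x | jconj (f x) = f x⁻¹} := hgen ▸ mem_top x
    induction hx using closure_induction with
    | mem x hx => exact h1 x hx
    | one => exact h3
    | inv x _ ih => exact h4 x ih
    | mul x y _ _ ihx ihy => exact h2 x y ihx ihy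
  -- odd powers
  have hpow : ∀ (Q : Matrix (Fin 2) (Fin 2) (ZMod p) → Prop) (x : U),
      (∀ n : ℕ, Q ((f x * f x) ^ n)) → Q (f x) := by
    intro Q x h
    obtain ⟨n, hn⟩ := hU.of_dvd_nat (orderOf_dvd_natCard x)
    have : f x = (f x * f x) ^ (n + 1) := by
      rw [← pow_two, ← pow_mul, ← map_pow, show 2 * (n + 1) = orderOf x + 1 by omega, pow_succ,
        pow_orderOf_eq_one, one_mul]
    rw [this]; exact h _
  -- the determinant
  have hinvM : ∀ x, f x⁻¹ * f x = 1 := fun x => by rw [← map_mul, inv_mul_cancel, map_one]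
  have hdet : ∀ x, (f x).det = 1 := by
    refine hind _ (fun x hx => ?_) (fun x y hx hy => by rw [map_mul, Matrix.det_mul, hx, hy, mul_one])
      (by rw [map_one, Matrix.det_one]) fun x hx => ?_
    · have h := congrArg Matrix.det (hinvM x)
      rw [Matrix.det_mul, ← hx, det_jconj, Matrix.det_one] at h
      refine hpow (fun M => M.det = 1) x fun n => ?_
      simp [Matrix.det_pow, Matrix.det_mul, h]
    · have h := congrArg Matrix.det (hinvM x)
      rwa [Matrix.det_mul, hx, mul_one, Matrix.det_one] at h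
  have hinv : ∀ x, f x⁻¹ = !![f x 1 1, -f x 0 1; -f x 1 0, f x 0 0] := fun x => by
    rw [← Matrix.adjugate_fin_two]
    calc f x⁻¹ = f x⁻¹ * (f x * (f x).adjugate) := by
          rw [Matrix.mul_adjugate, hdet, one_smul, mul_one]
      _ = _ := by rw [← mul_assoc, hinvM, one_mul]
  have hdet2 : ∀ x, f x 0 0 * f x 1 1 - f x 0 1 * f x 1 0 = 1 := fun x => by
    rw [← Matrix.det_fin_two]; exact hdet x
  have hconj : ∀ x y, (f x * f y * f x⁻¹) 0 0 + (f x * f y * f x⁻¹) 1 1 = f y 0 0 + f y 1 1 := by
    intro x y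
    rw [hinv x]
    simp [Matrix.mul_apply, Fin.sum_univ_two]
    linear_combination (f y 0 0 + f y 1 1) * hdet2 x
  have hjy : ∀ x, ∃ y, jconj (f x) = f y := by
    refine hind _ (fun x hx => ⟨_, hx⟩) (fun x y ⟨u, hu⟩ ⟨v, hv⟩ => ⟨u * v, ?_⟩)
      ⟨1, by rw [map_one, jconj_one]⟩ fun x ⟨u, hu⟩ => ⟨u⁻¹, ?_⟩
    · rw [map_mul, map_mul, jconj_mul, hu, hv]
    · calc jconj (f x⁻¹) = jconj (f x⁻¹) * (jconj (f x) * f u⁻¹) := by
            rw [hu, ← map_mul, mul_inv_cancel, map_one, mul_one]
        _ = f u⁻¹ := by rw [← mul_assoc, ← jconj_mul, hinvM, jconj_one, one_mul]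
  -- an abelian normal subgroup of the image
  set F := f.toHomUnits with hF
  have hFf : ∀ x, ((F x : (Matrix (Fin 2) (Fin 2) (ZMod p))ˣ) : Matrix (Fin 2) (Fin 2) (ZMod p)) = f x :=
    fun x => rfl
  obtain ⟨x0, hx0, hcomm⟩ : ∃ x0, f x0 ≠ 1 ∧
      ∀ x, f x * f x0 * f x⁻¹ * f x0 = f x0 * (f x * f x0 * f x⁻¹) := by
    have hodd : Odd (Nat.card F.range) := hU.of_dvd_nat (Subgroup.card_range_dvd F)
    haveI : Group.IsSolvable F.range := by
      have := CfsgLib.DGroup.solvable_of_odd (⊤ : Subgroup F.range) (by rwa [card_top])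
      exact Group.isSolvable_of_isSolvable_injective (f := (topEquiv (G := F.range)).symm.toMonoidHom)
        (topEquiv (G := F.range)).symm.injective
    obtain ⟨x1, hx1⟩ := hb
    have hne : (⊤ : Subgroup F.range) ≠ ⊥ := fun h => by
      have : (⟨F x1, x1, rfl⟩ : F.range) ∈ (⊥ : Subgroup F.range) := h ▸ mem_top _
      have h' : f x1 = 1 := by
        rw [← hFf]; exact congrArg (fun r : F.range => (r.1).1) (mem_bot.1 this)
      exact hx1 (by rw [h']; simp)
    have hex : ∃ k, derivedSeries F.range k = ⊥ := Group.IsSolvable.solvable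
    classical
    obtain ⟨k, hk⟩ : ∃ k, Nat.find hex = k + 1 := Nat.exists_eq_succ_of_ne_zero fun h => by
      have := Nat.find_spec hex
      rw [h, derivedSeries_zero] at this
      exact hne this
    have hA0 : derivedSeries F.range k ≠ ⊥ := Nat.find_min hex (by omega)
    have hAc := Nat.find_spec hex
    rw [hk, derivedSeries_succ, commutator_eq_bot_iff_le_centralizer] at hAc
    obtain ⟨⟨_, x0, rfl⟩, hz, hz1⟩ := (derivedSeries F.range k).bot_or_exists_ne_one.resolve_left hA0
    refine ⟨x0, fun h => hz1 (Subtype.ext (Units.ext h)), fun x => ?_⟩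
    have hw := (derivedSeries_characteristic (G := F.range) k).fixed (MulAut.conj ⟨F x, x, rfl⟩)
    have hw' := (SetLike.ext_iff.1 hw ⟨F x0, x0, rfl⟩).2 hz
    have := (mem_centralizer_iff.1 (hAc hw') _ hz).symm
    simpa [← map_inv, hFf] using congrArg (fun r : F.range => (r.1).1) this
  -- reduce to trace `2`, or trace not `± 2`
  set t := f x0 0 0 + f x0 1 1 with ht
  by_cases hex2 : ∃ y, f y ≠ 1 ∧ f y 0 0 + f y 1 1 = 2 ∧
      ∀ x, f x * f y * f x⁻¹ * f y = f y * (f x * f y * f x⁻¹)
  · exfalso
    obtain ⟨y, hy1, hyt, hyc⟩ := hex2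
    have hns : f y 0 1 ≠ 0 ∨ f y 1 0 ≠ 0 ∨ f y 0 0 ≠ f y 1 1 := by
      by_contra h
      push Not at h
      refine hy1 ?_
      have h00 : f y 0 0 = 1 := mul_left_cancel₀ h2 (by linear_combination hyt + h.2.2)
      ext i j
      fin_cases i <;> fin_cases j <;> simp [h.1, h.2.1, h00, ← h.2.2]
    -- every element normalises `N = f y - 1`
    have hN : ∀ x, ∃ μ : ZMod p, f x * (f y - 1) = (μ • (f y - 1)) * f x := by
      intro x
      obtain ⟨a, b, hab⟩ := exists_comb hns (hyc x)
      have h1 := hconj x y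
      rw [hab 0 0, hab 1 1, hyt] at h1
      simp at h1
      have ha : a = 1 - b := mul_left_cancel₀ h2 (by linear_combination h1 - b * hyt)
      refine ⟨b, ?_⟩
      have h3 : f x * f y * f x⁻¹ = 1 + b • (f y - 1) := by
        ext i j
        rw [hab i j, ha]
        simp
        ring
      calc f x * (f y - 1) = (f x * f y * f x⁻¹ - 1) * f x := by
            rw [sub_mul, mul_assoc _ (f x⁻¹), hinvM, mul_one, one_mul, mul_sub, mul_one]
        _ = _ := by rw [h3, add_sub_cancel_left]
    obtain ⟨y', hy'⟩ := hjy y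
    obtain ⟨μ, hμ⟩ := hN y'
    set A := f y 0 0 - 1 with hA
    set B := f y 0 1 with hB
    set C := f y 1 0 with hC
    have h11 : f y 1 1 = 1 - A := by rw [hA]; linear_combination hyt
    have h00 : f y 0 0 = 1 + A := by rw [hA]; ring
    have hnil : A * A + B * C = 0 := by
      have := hdet2 y
      rw [h11, h00] at this
      linear_combination -this
    have hNy : f y - 1 = !![A, B; C, -A] := by
      ext i j
      fin_cases i <;> fin_cases j <;> simp [hA, hB, hC, h11]
    have hNy' : f y' = !![1 + A, -B; -C, 1 - A] := by rw [← hy', jconj, h00, h11]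
    rw [hNy, hNy'] at hμ
    have e00 := congrArg (fun M => M 0 0) hμ
    have e10 := congrArg (fun M => M 1 0) hμ
    simp [Matrix.mul_apply, Fin.sum_univ_two] at e00 e10
    -- multiply by `N` from the left
    have k1 : (A * A - B * C) * A = 0 := mul_left_cancel₀ h2 (by
      linear_combination A * e00 + B * e10 + (μ + μ * A + A - 1) * hnil)
    have hbc : B = 0 ∧ A = 0 ∨ C = 0 ∧ A = 0 := by
      by_cases hA0 : A = 0
      · rw [hA0] at hnil
        simp at hnil
        rcases hnil with h | h
        exacts [Or.inl ⟨h, hA0⟩, Or.inr ⟨h, hA0⟩]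
      · exfalso
        have := (mul_eq_zero.1 k1).resolve_right hA0
        have : A * A = 0 := mul_left_cancel₀ h2 (by linear_combination this + hnil)
        exact hA0 (mul_self_eq_zero.1 this)
    rcases hbc with ⟨hB0, hA0⟩ | ⟨hC0, hA0⟩
    · have hC0 : C ≠ 0 := by
        rcases hns with h | h | h
        exacts [absurd hB0 h, h, absurd (by rw [h00, h11, hA0]; ring) h]
      obtain ⟨x, hx⟩ := hb
      obtain ⟨μ, hμ⟩ := hN x
      rw [hNy, hA0, hB0] at hμ
      have := congrArg (fun M => M 0 0) hμ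
      simp [Matrix.mul_apply, Fin.sum_univ_two] at this
      exact (this.resolve_right hC0 |> hx)
    · have hB0 : B ≠ 0 := by
        rcases hns with h | h | h
        exacts [h, absurd hC0 h, absurd (by rw [h00, h11, hA0]; ring) h]
      obtain ⟨x, hx⟩ := hc
      obtain ⟨μ, hμ⟩ := hN x
      rw [hNy, hA0, hC0] at hμ
      have := congrArg (fun M => M 1 1) hμ
      simp [Matrix.mul_apply, Fin.sum_univ_two] at this
      exact (this.resolve_right hB0 |> hx)
  -- now the trace of `f x0` is not `± 2`
  have ht4 : 4 - t * t ≠ 0 := by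
    intro h
    have hz2 : f (x0 * x0) ≠ 1 := fun hh => hx0 (hpow (fun M => M = 1) x0 fun n => by
      rw [← map_mul, hh, one_pow])
    refine hex2 ⟨x0 * x0, hz2, ?_, fun x => ?_⟩
    · simp [Matrix.mul_apply, Fin.sum_univ_two]
      linear_combination (-1 : ZMod p) * h - (2 : ZMod p) * hdet2 x0
    · have hw : Commute (f x * f x0 * f x⁻¹) (f x0) := hcomm x
      have e : f x * f (x0 * x0) * f x⁻¹ = (f x * f x0 * f x⁻¹) * (f x * f x0 * f x⁻¹) := by
        rw [show (f x * f x0 * f x⁻¹) * (f x * f x0 * f x⁻¹) =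
          f x * f x0 * (f x⁻¹ * f x) * f x0 * f x⁻¹ by noncomm_ring, hinvM, mul_one, map_mul]
        noncomm_ring
      rw [e, map_mul]
      exact ((hw.mul_left hw).mul_right (hw.mul_left hw)).eq
  have hns : f x0 0 1 ≠ 0 ∨ f x0 1 0 ≠ 0 ∨ f x0 0 0 ≠ f x0 1 1 := by
    by_contra h
    push Not at h
    refine ht4 ?_
    have := hdet2 x0
    rw [h.1, h.2.2] at this
    rw [ht, h.2.2]
    linear_combination (-4 : ZMod p) * this
  have hcent : ∀ x, Commute (f x) (f x0) := by
    intro x
    refine hpow (fun M => Commute M (f x0)) x fun n => Commute.pow_left ?_ n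
    obtain ⟨a, b, hab⟩ := exists_comb hns (hcomm x)
    set w := f x * f x0 * f x⁻¹ with hw
    have h1 := hconj x x0
    rw [← hw, ← ht, hab 0 0, hab 1 1] at h1
    simp at h1
    have h1' : 2 * a + b * t = t := by rw [ht]; linear_combination h1
    have h3 : a * a + a * b * t + b * b = 1 := by
      have hd : w 0 0 * w 1 1 - w 0 1 * w 1 0 = 1 := by
        have := hdet2 (x * x0 * x⁻¹)
        rwa [map_mul, map_mul, ← hw] at this
      rw [hab 0 0, hab 1 1, hab 0 1, hab 1 0] at hd
      simp at hd
      rw [ht]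
      linear_combination hd - b * b * hdet2 x0
    have hb1 : (b - 1) * (b + 1) = 0 := by
      refine (mul_eq_zero.1 (?_ : (b - 1) * (b + 1) * (4 - t * t) = 0)).resolve_right ht4
      linear_combination 4 * h3 - (2 * a + b * t + t) * h1'
    have hfx : Commute (f x) (f x0) ∨ w = f x0⁻¹ := by
      rcases mul_eq_zero.1 hb1 with h | h
      · left
        have ha : a = 0 := mul_left_cancel₀ h2 (by linear_combination h1' - t * h)
        have e : w = f x0 := by
          ext i j
          rw [hab i j, ha, sub_eq_zero.1 h]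
          simp
        calc f x * f x0 = w * f x := by rw [hw, mul_assoc _ (f x⁻¹), hinvM, mul_one]
          _ = f x0 * f x := by rw [e]
      · right
        have hbn : b = -1 := eq_neg_of_add_eq_zero_left h
        have ha : a = t := mul_left_cancel₀ h2 (by rw [hbn] at h1'; linear_combination h1')
        ext i j
        rw [hab i j, ha, hbn, hinv x0, ht]
        fin_cases i <;> fin_cases j <;> simp
    rcases hfx with h | h
    · exact h.mul_left h
    · have h' : f x * f x0⁻¹ * f x⁻¹ = f x0 := by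
        have e : f x * f x0⁻¹ * f x⁻¹ * (f x * f x0 * f x⁻¹) = 1 := by
          simp only [← map_mul]; rw [← map_one f]; congr 1; group
        rw [← hw, h] at e
        calc f x * f x0⁻¹ * f x⁻¹
            = f x * f x0⁻¹ * f x⁻¹ * (f x0⁻¹ * f x0) := by rw [hinvM, mul_one]
          _ = _ := by rw [← mul_assoc, e, one_mul]
      have hxx : f x * f x * f x0 = f x * (f x * f x0 * f x⁻¹) * f x := by
        rw [show f x * (f x * f x0 * f x⁻¹) * f x = f x * f x * f x0 * (f x⁻¹ * f x) by noncomm_ring,
          hinvM, mul_one]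
      show f x * f x * f x0 = f x0 * (f x * f x)
      rw [hxx, ← hw, h, ← h', show f x * f x0⁻¹ * f x⁻¹ * (f x * f x) =
        f x * f x0⁻¹ * (f x⁻¹ * f x) * f x by noncomm_ring, hinvM, mul_one]
  have hcomb : ∀ x, ∃ a b : ZMod p,
      ∀ i j, f x i j = a * (1 : Matrix (Fin 2) (Fin 2) (ZMod p)) i j + b * f x0 i j :=
    fun x => exists_comb hns (hcent x).eq
  have hall : ∀ x y, Commute (f x) (f y) := by
    intro x y
    obtain ⟨a, b, hab⟩ := hcomb x
    have e : f x = a • (1 : Matrix (Fin 2) (Fin 2) (ZMod p)) + b • f x0 := by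
      ext i j; rw [hab i j]; simp
    rw [e]
    exact ((Commute.one_left _).smul_left a).add_left ((hcent y).symm.smul_left b)
  have hinverted : ∀ x, jconj (f x) = f x⁻¹ := by
    refine hind _ (fun x hx => hx) (fun x y hx hy => ?_) (by rw [inv_one, map_one, jconj_one])
      fun x hx => ?_
    · rw [map_mul, jconj_mul, hx, hy, mul_inv_rev, map_mul, (hall x⁻¹ y⁻¹).eq]
    · rw [inv_inv]
      calc jconj (f x⁻¹) = jconj (f x⁻¹) * (jconj (f x) * f x) := by rw [hx, hinvM, mul_one]
        _ = f x := by rw [← mul_assoc, ← jconj_mul, hinvM, jconj_one, one_mul]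
  have hdiag : ∀ x, f x 0 0 = f x 1 1 := fun x => by
    have := congrArg (fun M => M 0 0) ((hinverted x).trans (hinv x))
    simpa [jconj] using this
  have hsr : ∀ x, f x 0 0 + f x 1 1 = 2 → f x = 1 := by
    intro x hx
    obtain ⟨a, b, hab⟩ := hcomb x
    have hd := hdet2 x
    rw [hab 0 0, hab 1 1] at hx
    rw [hab 0 0, hab 1 1, hab 0 1, hab 1 0] at hd
    simp at hx hd
    have h' : b * b * (4 - t * t) = 0 := by
      rw [ht]
      linear_combination 4 * hd - 4 * b * b * hdet2 x0 -
        (2 * a + b * (f x0 0 0 + f x0 1 1) + 2) * hx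
    have hb0 : b = 0 := mul_self_eq_zero.1 ((mul_eq_zero.1 h').resolve_right ht4)
    have ha : a = 1 := mul_left_cancel₀ h2 (by rw [hb0] at hx; linear_combination hx)
    ext i j
    rw [hab i j, ha, hb0]
    simp
  have hker : ∀ x, x ∈ f.ker ↔ f x = 1 := fun x => MonoidHom.mem_ker
  have hFk : F.ker = f.ker := by
    ext x; rw [MonoidHom.mem_ker, hker, ← Units.val_eq_one, hFf]
  have hk : f.ker.index = Nat.card F.range := by rw [← hFk, index_ker]
  refine ⟨hU.of_dvd_nat (index_dvd_card _), ?_, ?_, ?_, hinverted, fun x h1 _ => hsr x ?_⟩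
  rotate_left 3
  · rw [← hdiag x, h1]; norm_num
  · -- at least three
    have ho : Odd f.ker.index := hU.of_dvd_nat (index_dvd_card _)
    have h1 : f.ker.index ≠ 1 := fun h => by
      obtain ⟨x, hx⟩ := hb
      have : x ∈ f.ker := (index_eq_one.1 h) ▸ mem_top x
      rw [hker] at this
      exact hx (by rw [this]; simp)
    obtain ⟨j, hj⟩ := ho
    omega
  · -- at most `p`
    rw [hk]
    have hz01 : f x0 0 1 ≠ 0 := fun h => by
      obtain ⟨x, hx⟩ := hb
      obtain ⟨a, b, hab⟩ := hcomb x
      exact hx (by rw [hab 0 1, h]; simp)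
    set c := f x0 1 0 / f x0 0 1 with hcdef
    have h10 : ∀ x, f x 1 0 = c * f x 0 1 := fun x => by
      obtain ⟨a, b, hab⟩ := hcomb x
      rw [hab 1 0, hab 0 1, hcdef]
      simp
      field_simp
    classical
    set S := (Finset.univ : Finset (ZMod p × ZMod p)).filter (fun v => v.1 * v.1 - c * v.2 * v.2 = 1)
      with hS
    have hScard : S.card ≤ 2 * p := by
      refine (Finset.card_le_mul_card_image (f := Prod.snd) S 2 fun s _ => ?_).trans ?_
      · rcases (S.filter fun v => v.2 = s).eq_empty_or_nonempty with h | ⟨v, hv⟩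
        · rw [h]; simp
        · refine (Finset.card_le_card (t := {v, (-v.1, s)}) fun w hw => ?_).trans Finset.card_le_two
          simp only [hS, Finset.mem_filter, Finset.mem_univ, true_and] at hv hw
          obtain ⟨hv1, hv2⟩ := hv
          obtain ⟨hw1, hw2⟩ := hw
          rw [hv2] at hv1
          rw [hw2] at hw1
          have : (w.1 - v.1) * (w.1 + v.1) = 0 := by linear_combination hw1 - hv1
          simp only [Finset.mem_insert, Finset.mem_singleton]
          rcases mul_eq_zero.1 this with h | h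
          · exact Or.inl (Prod.ext (sub_eq_zero.1 h) (hw2.trans hv2.symm))
          · exact Or.inr (Prod.ext (eq_neg_of_add_eq_zero_left h) hw2)
      · exact Nat.mul_le_mul_left 2 ((Finset.card_le_univ _).trans (ZMod.card p).le)
    have hmem : ∀ (r : F.range) (e : Bool), (if e then ((r.1.1 0 0), (r.1.1 0 1)) else
        (-(r.1.1 0 0), -(r.1.1 0 1))) ∈ S := by
      rintro ⟨_, x, rfl⟩ e
      rw [hFf]
      have hd := hdet2 x
      rw [← hdiag x, h10 x] at hd
      cases e <;> simp [hS] <;> linear_combination hd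
    let g : F.range × Bool → S := fun q => ⟨_, hmem q.1 q.2⟩
    have hg : Function.Injective g := by
      rintro ⟨⟨_, x, rfl⟩, e⟩ ⟨⟨_, y, rfl⟩, e'⟩ hq
      have hq' := congrArg Subtype.val hq
      simp only [g, hFf] at hq'
      have hext : ∀ u v : U, f u 0 0 = f v 0 0 → f u 0 1 = f v 0 1 → f u = f v := fun u v h1 h2 => by
        ext i j
        fin_cases i <;> fin_cases j
        exacts [h1, h2, by simpa using (by rw [h10, h10, h2] : f u 1 0 = f v 1 0),
          by simpa using (by rw [← hdiag u, ← hdiag v, h1] : f u 1 1 = f v 1 1)]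
      have hneg : ∀ u v : U, f u 0 0 = -f v 0 0 → f u 0 1 = -f v 0 1 → False := fun u v h1 h2' => by
        have h3 : f u = -f v := by
          ext i j
          fin_cases i <;> fin_cases j
          exacts [h1, h2', by simpa using (by rw [h10, h10, h2', mul_neg] : f u 1 0 = -f v 1 0),
            by simpa using (by rw [← hdiag u, ← hdiag v, h1] : f u 1 1 = -f v 1 1)]
        have h4 : f u ^ Nat.card U = 1 := by rw [← map_pow, pow_card_eq_one', map_one]
        rw [h3, hU.neg_pow, ← map_pow, pow_card_eq_one', map_one] at h4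
        have h5 := congrArg (fun M => M 0 0) h4
        simp at h5
        exact h2 (by linear_combination -h5)
      cases e <;> cases e' <;> simp only [Bool.false_eq_true, if_false, if_true, Prod.ext_iff,
        neg_inj] at hq'
      · exact Prod.ext (Subtype.ext (Units.ext (hext x y hq'.1 hq'.2))) rfl
      · exact (hneg y x hq'.1.symm hq'.2.symm).elim
      · exact (hneg x y hq'.1 hq'.2).elim
      · exact Prod.ext (Subtype.ext (Units.ext (hext x y hq'.1 hq'.2))) rfl
    have h := Nat.card_le_card_of_injective g hg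
    rw [Nat.card_prod, Nat.card_eq_fintype_card (α := Bool), Fintype.card_bool,
      Nat.card_eq_finsetCard] at h
    omega
  · -- prime to `p`
    intro hp
    rw [hk] at hp
    obtain ⟨⟨_, x, rfl⟩, hx⟩ := exists_prime_orderOf_dvd_card' p hp
    have h1 : f x ^ p = 1 := by
      have := congrArg (fun r : F.range => (r.1).1) (pow_orderOf_eq_one (⟨F x, x, rfl⟩ : F.range))
      rw [hx] at this
      simpa [hFf] using this
    have h3 : (f x - 1) ^ p = 0 := by
      rw [sub_pow_char_of_commute _ (Commute.one_right _), h1, one_pow, sub_self]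
    have h4 : (f x - 1).det = 0 := by
      have := congrArg Matrix.det h3
      rw [Matrix.det_pow, Matrix.det_zero] at this
      exact pow_eq_zero_iff (Fact.out : p.Prime).ne_zero |>.1 this
    have h5 : f x 0 0 + f x 1 1 = 2 := by
      rw [Matrix.det_fin_two] at h4
      simp at h4
      linear_combination -h4 + hdet2 x
    have : (⟨F x, x, rfl⟩ : F.range) = 1 := Subtype.ext (Units.ext (hsr x h5))
    rw [this, orderOf_one] at hx
    exact (Fact.out : p.Prime).one_lt.ne hx

end CfsgLib.GW.CaseI
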