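import Cfsg.Agent.GW.CaseI.Setting

/-!
# A real element centralises only one class of involutions
-/

set_option autoImplicit false
set_option linter.style.haveILetI false
set_option linter.unusedSectionVars false

namespace CfsgLib.GW.CaseI.Ctx

open Subgroup
open CfsgLib.NormCyclic (Inv)

universe u

variable {G : Type u} [Group G] [Finite G]

/-- Elements mapping `x` to itself or to its inverse. -/
def star (x : G) : Subgroup G where
  carrier := {g | g * x * g⁻¹ = x ∨ g * x * g⁻¹ = x⁻¹}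
  one_mem' := Or.inl (by group)
  mul_mem' := by
    intro g h hg hh
    have e : g * h * x * (g * h)⁻¹ = g * (h * x * h⁻¹) * g⁻¹ := by group
    rcases hh with hh | hh <;> rcases hg with hg | hg
    · exact Or.inl (by rw [e, hh, hg])
    · exact Or.inr (by rw [e, hh, hg])
    · exact Or.inr (by rw [e, hh, ← conj_inv, hg])
    · exact Or.inl (by rw [e, hh, ← conj_inv, hg, inv_inv])
  inv_mem' := by
    intro g hg
    rcases hg with hg | hg
    · left
      conv_lhs => rw [← hg]
      group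
    · right
      have h2 : x⁻¹ = g⁻¹ * x * g := by
        conv_rhs => rw [← inv_inv x, ← hg]
        group
      rw [inv_inv]; exact h2.symm

variable (C : Ctx G)
include C

theorem not_eight_dvd : ¬ 8 ∣ Nat.card G := by
  haveI : Fact (Nat.Prime 2) := ⟨Nat.prime_two⟩
  intro h
  obtain ⟨K, hK⟩ := Sylow.exists_subgroup_card_pow_prime 2 (n := 3) (by simpa using h)
  obtain ⟨S, hS⟩ := (IsPGroup.of_card hK).exists_le_sylow
  have := card_dvd_of_le hS
  rw [hK, C.sylow S] at this
  norm_num at this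

/-- The centraliser of a real element of odd order has Sylow 2-subgroups of order at most 2. -/
theorem not_four_dvd_of_real {x y : G} (hx : Odd (orderOf x)) (hx1 : x ≠ 1)
    (hy : y * x * y⁻¹ = x⁻¹) : ¬ 4 ∣ Nat.card (centralizer ({x} : Set G)) := by
  intro h4
  set K := centralizer ({x} : Set G) with hK
  have hle : K ≤ star x := fun g hg => Or.inl (by
    rw [mem_centralizer_singleton_iff.1 hg, mul_inv_cancel_right])
  have hKmem : ∀ g : G, g ∈ K ↔ g * x * g⁻¹ = x := fun g => by
    rw [hK, mem_centralizer_singleton_iff, mul_inv_eq_iff_eq_mul]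
  have hne : x⁻¹ ≠ x := fun e => hx1 (CfsgLib.DGroup.eq_one_of_inv_eq e hx)
  have hidx : (K.subgroupOf (star x)).index = 2 := by
    rw [index_eq_two_iff]
    refine ⟨⟨y, Or.inr hy⟩, fun g => ?_⟩
    simp only [mem_subgroupOf, Subgroup.coe_mul, hKmem]
    have e : ((g : G) * y) * x * ((g : G) * y)⁻¹ = ((g : G) * x * (g : G)⁻¹)⁻¹ := by
      rw [conj_inv, ← hy]; group
    rcases g.2 with hg | hg
    · exact Or.inr ⟨hg, fun h => hne (by rwa [e, hg] at h)⟩
    · exact Or.inl ⟨by rw [e, hg, inv_inv], fun h => hne (hg.symm.trans h)⟩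
  refine C.not_eight_dvd (Dvd.dvd.trans ?_ (card_subgroup_dvd_card (star x)))
  rw [← card_mul_index (K.subgroupOf (star x)), hidx,
    Nat.card_congr (subgroupOfEquivOfLe hle).toEquiv]
  obtain ⟨k, hk⟩ := h4
  exact ⟨k, by rw [hk]; ring⟩

/-- A real element of odd order centralises only one class of involutions of its centraliser. -/
theorem real_conj {x y v w : G} (hx : Odd (orderOf x)) (hx1 : x ≠ 1) (hy : y * x * y⁻¹ = x⁻¹)
    (hv : Inv v) (hw : Inv w) (hvx : Commute v x) (hwx : Commute w x) :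
    ∃ g : G, Commute g x ∧ g * v * g⁻¹ = w := by
  haveI : Fact (Nat.Prime 2) := ⟨Nat.prime_two⟩
  set K := centralizer ({x} : Set G) with hK
  have h4 := C.not_four_dvd_of_real hx hx1 hy
  have hsyl : ∀ u : K, orderOf u = 2 → ∃ S : Sylow 2 K, (S : Subgroup K) = zpowers u := by
    intro u hu
    have hp : IsPGroup 2 (zpowers u) :=
      IsPGroup.of_card (n := 1) (by rw [Nat.card_zpowers, hu, pow_one])
    refine ⟨hp.toSylow fun hd => h4 ?_, rfl⟩
    rw [← card_mul_index (zpowers u), Nat.card_zpowers, hu]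
    obtain ⟨k, hk⟩ := hd
    exact ⟨k, by rw [hk]; ring⟩
  have hv' : v ∈ K := mem_centralizer_singleton_iff.2 hvx.eq
  have hw' : w ∈ K := mem_centralizer_singleton_iff.2 hwx.eq
  obtain ⟨S, hS⟩ := hsyl ⟨v, hv'⟩ (by rw [← Subgroup.orderOf_coe]; exact hv.orderOf)
  obtain ⟨T, hT⟩ := hsyl ⟨w, hw'⟩ (by rw [← Subgroup.orderOf_coe]; exact hw.orderOf)
  obtain ⟨g, hg⟩ := MulAction.exists_smul_eq K S T
  refine ⟨g, mem_centralizer_singleton_iff.1 g.2, ?_⟩
  have hmem : g * ⟨v, hv'⟩ * g⁻¹ ∈ zpowers (⟨w, hw'⟩ : K) := by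
    rw [← hT, ← hg, Sylow.coe_subgroup_smul, hS]
    exact ⟨⟨v, hv'⟩, mem_zpowers _, rfl⟩
  obtain ⟨i, hi⟩ := mem_zpowers_iff.1 hmem
  have hi' : (g : G) * v * (g : G)⁻¹ = w ^ i := by
    have := congrArg Subtype.val hi
    simpa using this.symm
  rcases Int.even_or_odd i with ⟨j, rfl⟩ | ⟨j, rfl⟩
  · rw [← two_mul, zpow_mul, zpow_two, hw.1, one_zpow] at hi'
    exact absurd (conj_eq_one_iff.1 hi') hv.2
  · rwa [zpow_add, zpow_mul, zpow_two, hw.1, one_zpow, one_mul, zpow_one] at hi'

end CfsgLib.GW.CaseI.Ctx
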