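import Cfsg.Agent.GW.CaseI.Inverted
import Cfsg.Agent.S0514

/-!
# Gorenstein–Walter with a four group as Sylow 2-subgroup: the common setting

`{1, a, b, a * b}` is a Sylow 2-subgroup of the simple group `G`; `rho` permutes its involutions
cyclically; `U = O(C(a))`, `D = C_U(b)` and `U0 = [U, b]` is generated by the elements of `U`
inverted by `b`.
-/

set_option autoImplicit false
set_option linter.style.haveILetI false
set_option linter.unusedSectionVars false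

namespace CfsgLib.GW.CaseI

open Subgroup
open CfsgLib.NormCyclic (Inv)
open CfsgLib.DGroup (coreIn conj_mem odd_orderOf)

universe u

variable {G : Type u} [Group G] [Finite G]

/-- Shape of a proper subgroup with fusion in the four group: modulo the odd core it has a normal
subgroup `PSL(2, q)`, `q = 3, 5 mod 8` (`q = 3` gives `A4`), of odd index. -/
def LocalShape (M : Subgroup G) : Prop :=
  ∃ L : Subgroup ↥M, L.Normal ∧ Cfsg.oddCore ↥M ≤ L ∧ Odd L.index ∧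
    ∃ (F : Type) (_ : Field F) (_ : Fintype F), Odd (Fintype.card F) ∧
      (Fintype.card F % 8 = 3 ∨ Fintype.card F % 8 = 5) ∧
      ∃ f : ↥L →* Matrix.ProjectiveSpecialLinearGroup (Fin 2) F,
        Function.Surjective f ∧ f.ker = (Cfsg.oddCore ↥M).subgroupOf L

/-- The setting of a minimal counterexample with four-group Sylow 2-subgroup. -/
structure Ctx (G : Type u) [Group G] [Finite G] where
  a : G
  b : G
  rho : G
  ha : Inv a
  hb : Inv b
  hab : Commute a b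
  hne : a ≠ b
  sylow : ∀ S : Sylow 2 G, Nat.card ↥(S : Subgroup G) = 4
  rho_a : rho * a * rho⁻¹ = b
  rho_b : rho * b * rho⁻¹ = a * b
  simple : IsSimpleGroup G
  na : ¬ IsMulCommutative G
  IH : ∀ M : Subgroup G, M ≠ ⊤ → a ∈ M → b ∈ M →
    (∃ g ∈ M, g * a * g⁻¹ = b ∨ g * a * g⁻¹ = a * b) → LocalShape M

namespace Ctx

variable (C : Ctx G)

/-- The centraliser of `a`. -/
def H : Subgroup G := centralizer ({C.a} : Set G)

/-- The four group. -/
def V : Subgroup G := closure ({C.a, C.b} : Set G)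

/-- The odd core of the centraliser of `a`, in `G`. -/
noncomputable def U : Subgroup G := coreIn C.H

/-- The fixed points of `b` on `U`. -/
noncomputable def D : Subgroup G := C.U ⊓ centralizer ({C.b} : Set G)

/-- `[U, b]`, generated by the inverted elements of `U`. -/
noncomputable def U0 : Subgroup G := invGen C.b C.U

/-- The third involution. -/
def c : G := C.a * C.b

theorem hc : Inv C.c := C.ha.mul C.hb C.hab C.hne

theorem mem_H {x : G} : x ∈ C.H ↔ Commute x C.a := by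
  rw [H, mem_centralizer_singleton_iff]; rfl

theorem mem_D {x : G} : x ∈ C.D ↔ x ∈ C.U ∧ Commute x C.b := by
  rw [D, mem_inf, mem_centralizer_singleton_iff]; rfl

theorem a_mem_V : C.a ∈ C.V := subset_closure (Or.inl rfl)

theorem b_mem_V : C.b ∈ C.V := subset_closure (Or.inr rfl)

theorem c_mem_V : C.c ∈ C.V := mul_mem C.a_mem_V C.b_mem_V

theorem mem_V {x : G} : x ∈ C.V ↔ x = 1 ∨ x = C.a ∨ x = C.b ∨ x = C.c := by
  have hba : C.b * C.a = C.c := C.hab.eq.symm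
  have haa := C.ha.1
  have hbb := C.hb.1
  constructor
  · intro hx
    induction hx using closure_induction with
    | mem x hx =>
      rcases hx with rfl | rfl
      exacts [Or.inr (Or.inl rfl), Or.inr (Or.inr (Or.inl rfl))]
    | one => exact Or.inl rfl
    | inv x _ ih =>
      rcases ih with rfl | rfl | rfl | rfl
      exacts [Or.inl inv_one, Or.inr (Or.inl C.ha.inv_eq), Or.inr (Or.inr (Or.inl C.hb.inv_eq)),
        Or.inr (Or.inr (Or.inr C.hc.inv_eq))]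
    | mul x y _ _ ihx ihy =>
      have h1 : C.a * C.b = C.c := rfl
      have h2 : C.a * C.c = C.b := by rw [c, ← mul_assoc, haa, one_mul]
      have h3 : C.c * C.a = C.b := by rw [c, mul_assoc, hba, c, ← mul_assoc, haa, one_mul]
      have h4 : C.b * C.c = C.a := by
        rw [c, ← mul_assoc, C.hab.eq.symm, mul_assoc, hbb, mul_one]
      have h5 : C.c * C.b = C.a := by rw [c, mul_assoc, hbb, mul_one]
      rcases ihx with rfl | rfl | rfl | rfl <;> rcases ihy with rfl | rfl | rfl | rfl <;>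
        simp [haa, hbb, C.hc.1, hba, h1, h2, h3, h4, h5]
  · rintro (rfl | rfl | rfl | rfl)
    exacts [one_mem _, C.a_mem_V, C.b_mem_V, C.c_mem_V]

theorem commute_of_mem_V {x y : G} (hx : x ∈ C.V) (hy : y ∈ C.V) : Commute x y := by
  have h1 : Commute C.a C.c := (Commute.refl C.a).mul_right C.hab
  have h2 : Commute C.b C.c := C.hab.symm.mul_right (Commute.refl C.b)
  rcases C.mem_V.1 hx with rfl | rfl | rfl | rfl <;> rcases C.mem_V.1 hy with rfl | rfl | rfl | rfl <;>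
    first
      | exact Commute.one_left _
      | exact Commute.one_right _
      | exact Commute.refl _
      | exact C.hab
      | exact C.hab.symm
      | exact h1
      | exact h1.symm
      | exact h2
      | exact h2.symm

theorem sq_of_mem_V {x : G} (hx : x ∈ C.V) : x * x = 1 := by
  rcases C.mem_V.1 hx with rfl | rfl | rfl | rfl
  exacts [one_mul 1, C.ha.1, C.hb.1, C.hc.1]

theorem card_V : Nat.card C.V = 4 := by
  classical
  have hac : C.a ≠ C.c := fun h => C.hb.2 (mul_eq_left.1 h.symm)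
  have hbc : C.b ≠ C.c := fun h => C.ha.2 (mul_eq_right.1 h.symm)
  show Nat.card (C.V : Set G) = 4
  rw [show (C.V : Set G) = ({1, C.a, C.b, C.c} : Set G) from Set.ext fun x => by simp [C.mem_V]]
  rw [Nat.card_coe_set_eq, Set.ncard_insert_of_notMem (by
      simp [C.ha.2.symm, C.hb.2.symm, C.hc.2.symm]),
    Set.ncard_insert_of_notMem (by simp [C.hne, hac]), Set.ncard_pair hbc]

theorem isPGroup_V : IsPGroup 2 C.V :=
  IsPGroup.of_card (n := 2) (by rw [C.card_V]; rfl)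

/-- The four group as a Sylow subgroup. -/
theorem exists_sylow_V : ∃ S : Sylow 2 G, (S : Subgroup G) = C.V := by
  haveI : Fact (Nat.Prime 2) := ⟨Nat.prime_two⟩
  obtain ⟨S, hS⟩ := C.isPGroup_V.exists_le_sylow
  exact ⟨S, (eq_of_le_of_card_ge hS (by rw [C.sylow S, C.card_V])).symm⟩

theorem orderOf_a : orderOf C.a = 2 := C.ha.orderOf

theorem rho_c : C.rho * C.c * C.rho⁻¹ = C.a := by
  rw [c, ← conj_mul, C.rho_a, C.rho_b, ← mul_assoc, C.hab.eq.symm, mul_assoc, C.hb.1, mul_one]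

theorem rho_mem : C.rho ∈ normalizer (C.V : Set G) := by
  refine mem_normalizer_iff.2 fun x => ?_
  constructor
  · intro hx
    rcases C.mem_V.1 hx with rfl | rfl | rfl | rfl
    · simp
    · rw [C.rho_a]; exact C.b_mem_V
    · rw [C.rho_b]; exact C.c_mem_V
    · rw [C.rho_c]; exact C.a_mem_V
  · intro hx
    have hi : ∀ y : G, C.rho * x * C.rho⁻¹ = C.rho * y * C.rho⁻¹ → x = y := fun y h => by
      simpa using h
    rcases C.mem_V.1 hx with h | h | h | h
    · rw [hi 1 (by rw [h]; group)]; exact one_mem _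
    · rw [hi C.c (by rw [h, C.rho_c])]; exact C.c_mem_V
    · rw [hi C.a (by rw [h, C.rho_a])]; exact C.a_mem_V
    · rw [hi C.b (by rw [h, C.rho_b]; rfl)]; exact C.b_mem_V

/-- Every involution of `G` is conjugate to `a`. -/
theorem exists_conj_a {v : G} (hv : Inv v) : ∃ g : G, g * C.a * g⁻¹ = v := by
  haveI : Fact (Nat.Prime 2) := ⟨Nat.prime_two⟩
  obtain ⟨S, hS⟩ := C.exists_sylow_V
  obtain ⟨R, hR⟩ := (IsPGroup.of_card (p := 2) (n := 1) (by
    rw [Nat.card_zpowers, hv.orderOf, pow_one]) : IsPGroup 2 (zpowers v)).exists_le_sylow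
  obtain ⟨g, hg⟩ := MulAction.exists_smul_eq G R S
  have h : g * v * g⁻¹ ∈ C.V := by
    rw [← hS, ← hg]; exact ⟨v, hR (mem_zpowers v), rfl⟩
  rcases C.mem_V.1 h with e | e | e | e
  · exact absurd (conj_eq_one_iff.1 e) hv.2
  · exact ⟨g⁻¹, by rw [← e]; group⟩
  · exact ⟨g⁻¹ * C.rho, by
      rw [show g⁻¹ * C.rho * C.a * (g⁻¹ * C.rho)⁻¹ = g⁻¹ * (C.rho * C.a * C.rho⁻¹) * g by group,
        C.rho_a, ← e]
      group⟩
  · exact ⟨g⁻¹ * C.rho * C.rho, by
      rw [show g⁻¹ * C.rho * C.rho * C.a * (g⁻¹ * C.rho * C.rho)⁻¹ =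
        g⁻¹ * (C.rho * (C.rho * C.a * C.rho⁻¹) * C.rho⁻¹) * g by group,
        C.rho_a, C.rho_b, ← c, ← e]
      group⟩

theorem a_mem_H : C.a ∈ C.H := C.mem_H.2 (Commute.refl _)

theorem b_mem_H : C.b ∈ C.H := C.mem_H.2 C.hab.symm

theorem V_le_H : C.V ≤ C.H := fun _ hx => C.mem_H.2 (C.commute_of_mem_V hx C.a_mem_V)

theorem H_ne_top : C.H ≠ ⊤ := by
  intro h
  haveI := C.simple
  rcases (show (center G).Normal from inferInstance).eq_bot_or_eq_top with h' | h'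
  · refine C.ha.2 (mem_bot.1 (h' ▸ mem_center_iff.2 fun g => ?_))
    exact (C.mem_H.1 (h ▸ mem_top g)).eq
  · exact C.na ⟨⟨fun x y => (mem_center_iff.1 (h' ▸ mem_top x) y).symm⟩⟩

theorem U_le_H : C.U ≤ C.H := CfsgLib.DGroup.coreIn_le _

theorem odd_U : Odd (Nat.card C.U) := CfsgLib.DGroup.odd_coreIn _

theorem D_le_U : C.D ≤ C.U := inf_le_left

theorem U0_le_U : C.U0 ≤ C.U := invGen_le _ _

theorem commute_a {x : G} (hx : x ∈ C.U) : Commute x C.a := C.mem_H.1 (C.U_le_H hx)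

theorem H_le_normalizer_U : C.H ≤ normalizer (C.U : Set G) :=
  CfsgLib.DGroup.normalizer_coreIn _

theorem b_norm_U : C.b ∈ normalizer (C.U : Set G) := C.H_le_normalizer_U C.b_mem_H

theorem mem_U_of_odd {x : G} (hx : x ∈ C.H) (ho : Odd (orderOf x)) : x ∈ C.U := by
  haveI : Fact (Nat.Prime 2) := ⟨Nat.prime_two⟩
  obtain ⟨S, hS⟩ := C.exists_sylow_V
  obtain ⟨e⟩ := CfsgLib.Invol.nonempty_dihedral_equiv C.ha.orderOf C.hb.orderOf C.hne
  have h2 : orderOf (C.a * C.b) = 2 := C.hc.orderOf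
  rw [h2] at e
  obtain ⟨N, hN, hNo, k, hk⟩ := Cfsg.Agent.S0514.result S 2 le_rfl
    ⟨(MulEquiv.subgroupCongr hS).trans e⟩ C.a C.ha.orderOf
  haveI := hN
  have h1 : (⟨x, hx⟩ : C.H) ^ 2 ^ k ∈ N := hk ▸ N.pow_index_mem _
  obtain ⟨i, hi⟩ := exists_pow_eq_self_of_coprime (x := (⟨x, hx⟩ : C.H)) (n := 2 ^ k)
    ((Nat.coprime_two_left.2 (by rwa [Subgroup.orderOf_mk])).pow_left k)
  exact ⟨⟨x, hx⟩, CfsgLib.DGroup.le_oddCore hN hNo (hi ▸ pow_mem h1 i), rfl⟩

theorem mem_U {x : G} : x ∈ C.U ↔ x ∈ C.H ∧ Odd (orderOf x) :=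
  ⟨fun h => ⟨C.U_le_H h, odd_orderOf C.odd_U h⟩, fun h => C.mem_U_of_odd h.1 h.2⟩

/-- `C(a) = U V`. -/
theorem exists_mul_V {h : G} (hh : h ∈ C.H) : ∃ u ∈ C.U, ∃ v ∈ C.V, h = u * v := by
  haveI : Fact (Nat.Prime 2) := ⟨Nat.prime_two⟩
  haveI := CfsgLib.DGroup.normal_oddCore C.H
  obtain ⟨S, hS⟩ := C.exists_sylow_V
  let SH : Sylow 2 C.H := S.subtype (hS ▸ C.V_le_H)
  have hsup : (SH : Subgroup C.H) ⊔ Cfsg.oddCore C.H = ⊤ := by
    rw [← index_eq_one]
    obtain ⟨j, hj⟩ : ∃ j, ((SH : Subgroup C.H) ⊔ Cfsg.oddCore C.H).index = 2 ^ j := by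
      have hp : IsPGroup 2 (C.H ⧸ Cfsg.oddCore C.H) := by
        intro y
        obtain ⟨g, rfl⟩ := QuotientGroup.mk_surjective y
        obtain ⟨k, m, hm, he⟩ := Nat.exists_eq_two_pow_mul_odd (orderOf_pos g).ne'
        refine ⟨k, ?_⟩
        rw [← QuotientGroup.mk_pow, QuotientGroup.eq_one_iff]
        obtain ⟨z, hz, hzg⟩ := C.mem_U_of_odd (g ^ 2 ^ k).2 (by
          rw [Subgroup.orderOf_coe, orderOf_pow, he, Nat.gcd_eq_right (dvd_mul_right _ _),
            Nat.mul_div_cancel_left _ (by positivity)]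
          exact hm)
        have hz' : z = g ^ 2 ^ k := Subtype.ext hzg
        exact hz' ▸ hz
      obtain ⟨n, hn⟩ := IsPGroup.iff_card.1 hp
      rw [← Subgroup.index] at hn
      obtain ⟨j, -, hj⟩ := (Nat.dvd_prime_pow Nat.prime_two).1
        (hn ▸ index_dvd_of_le (le_sup_right :
          Cfsg.oddCore C.H ≤ (SH : Subgroup C.H) ⊔ Cfsg.oddCore C.H))
      exact ⟨j, hj⟩
    have ho : Odd ((SH : Subgroup C.H) ⊔ Cfsg.oddCore C.H).index :=
      (Nat.not_even_iff_odd.1 fun h => SH.not_dvd_index (even_iff_two_dvd.1 h)).of_dvd_nat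
        (index_dvd_of_le le_sup_left)
    rcases j with _ | j
    · rw [hj, pow_zero]
    · rw [hj, pow_succ, mul_comm] at ho
      exact absurd ho (by simp)
  have hm : (⟨h, hh⟩ : C.H) ∈ (SH : Subgroup C.H) ⊔ Cfsg.oddCore C.H := hsup ▸ mem_top _
  have hn : (SH : Subgroup C.H) ≤ normalizer (Cfsg.oddCore C.H : Set C.H) := by
    rw [normalizer_eq_top (H := Cfsg.oddCore C.H)]; exact le_top
  obtain ⟨u, hu, v, hv, e⟩ := (CfsgLib.Solvable.mem_sup_of_le_normalizer hn).1 hm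
  refine ⟨(⟨h, hh⟩ : C.H) * (u : C.H)⁻¹, ?_, u, hS ▸ hu, by simp⟩
  exact ⟨u * v * u⁻¹, (CfsgLib.DGroup.normal_oddCore C.H).conj_mem v hv u, by
    rw [← e]; rfl⟩

theorem odd_D : Odd (Nat.card C.D) := C.odd_U.of_dvd_nat (card_dvd_of_le C.D_le_U)

theorem odd_U0 : Odd (Nat.card C.U0) := C.odd_U.of_dvd_nat (card_dvd_of_le C.U0_le_U)

theorem b_norm_U0 : C.b ∈ normalizer (C.U0 : Set G) :=
  mem_normalizer_invGen_of_commute C.hb.1 (Commute.refl _) C.b_norm_U

theorem U_le_normalizer_U0 : C.U ≤ normalizer (C.U0 : Set G) :=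
  le_normalizer_invGen C.hb.1 C.odd_U C.b_norm_U

theorem H_le_normalizer_U0 : C.H ≤ normalizer (C.U0 : Set G) := by
  intro h hh
  obtain ⟨u, hu, v, hv, rfl⟩ := C.exists_mul_V hh
  refine mul_mem (C.U_le_normalizer_U0 hu) ?_
  exact mem_normalizer_invGen_of_commute C.hb.1 (C.commute_of_mem_V hv C.b_mem_V)
    (C.H_le_normalizer_U (C.V_le_H hv))

/-- `U = D U0`. -/
theorem exists_mul_U0 {x : G} (hx : x ∈ C.U) : ∃ d ∈ C.D, ∃ y ∈ C.U0, x = d * y := by
  obtain ⟨d, hd, y, hy, hdb, e⟩ := exists_mul C.hb.1 C.odd_U C.b_norm_U hx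
  exact ⟨d, C.mem_D.2 ⟨hd, hdb⟩, y, hy, e⟩

/-- An involution of `C(a)` other than `a` is conjugate in `U` to `b` or to `a * b`. -/
theorem exists_conj_of_inv {v : G} (hv : Inv v) (hvH : v ∈ C.H) (hne : v ≠ C.a) :
    ∃ u ∈ C.U, v = u * C.b * u⁻¹ ∨ v = u * C.c * u⁻¹ := by
  haveI : Fact (Nat.Prime 2) := ⟨Nat.prime_two⟩
  obtain ⟨S, hS⟩ := C.exists_sylow_V
  let SH : Sylow 2 C.H := S.subtype (hS ▸ C.V_le_H)
  obtain ⟨R, hR⟩ := (IsPGroup.of_card (p := 2) (n := 1) (by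
    rw [Nat.card_zpowers, ← Subgroup.orderOf_coe, hv.orderOf, pow_one]) :
    IsPGroup 2 (zpowers (⟨v, hvH⟩ : C.H))).exists_le_sylow
  obtain ⟨g, hg⟩ := MulAction.exists_smul_eq C.H R SH
  have h : ((g * ⟨v, hvH⟩ * g⁻¹ : C.H) : G) ∈ (S : Subgroup G) := by
    have h1 : g * ⟨v, hvH⟩ * g⁻¹ ∈ (SH : Subgroup C.H) := by
      rw [← hg]; exact ⟨⟨v, hvH⟩, hR (mem_zpowers _), rfl⟩
    exact h1
  rw [hS] at h
  obtain ⟨u, hu, w, hw, hgi⟩ := C.exists_mul_V (inv_mem g.2)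
  have hconj : v = u * ((g * ⟨v, hvH⟩ * g⁻¹ : C.H) : G) * u⁻¹ := by
    have hwc : Commute w ((g * ⟨v, hvH⟩ * g⁻¹ : C.H) : G) := C.commute_of_mem_V hw h
    calc v = (g : G)⁻¹ * ((g * ⟨v, hvH⟩ * g⁻¹ : C.H) : G) * (g : G)⁻¹⁻¹ := by
          simp only [Subgroup.coe_mul, InvMemClass.coe_inv]; group
      _ = u * (w * ((g * ⟨v, hvH⟩ * g⁻¹ : C.H) : G) * w⁻¹) * u⁻¹ := by rw [hgi]; group
      _ = _ := by rw [hwc.eq, mul_inv_cancel_right]
  rcases C.mem_V.1 h with e | e | e | e <;> rw [e] at hconj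
  · exact absurd (hconj.trans (by group)) hv.2
  · exact absurd (hconj.trans (by rw [(C.commute_a hu).eq, mul_inv_cancel_right])) hne
  · exact ⟨u, hu, Or.inl hconj⟩
  · exact ⟨u, hu, Or.inr hconj⟩

theorem commute_c {x : G} (hx : x ∈ C.U) (h : Commute x C.b) : Commute x C.c :=
  (C.commute_a hx).mul_right h

theorem conj_c {x : G} (hx : x ∈ C.U) : C.c * x * C.c = C.b * x * C.b := by
  have h := C.commute_a hx
  calc C.c * x * C.c = C.a * C.b * x * (C.a * C.b) := rfl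
    _ = C.b * C.a * x * (C.a * C.b) := by rw [← C.hab.eq]
    _ = C.b * (C.a * x * C.a) * C.b := by group
    _ = _ := by rw [conj_eq_of_commute C.ha.1 h]

/-- `C(V) = V × D`. -/
theorem exists_mul_of_commute {x : G} (ha : Commute x C.a) (hb : Commute x C.b) :
    ∃ d ∈ C.D, ∃ v ∈ C.V, x = d * v := by
  obtain ⟨u, hu, v, hv, rfl⟩ := C.exists_mul_V (C.mem_H.2 ha)
  refine ⟨u, C.mem_D.2 ⟨hu, ?_⟩, v, hv, rfl⟩
  have h := hb.mul_left (C.commute_of_mem_V hv C.b_mem_V).inv_left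
  rwa [mul_inv_cancel_right] at h

theorem mem_D_of_odd {x : G} (ha : Commute x C.a) (hb : Commute x C.b) (ho : Odd (orderOf x)) :
    x ∈ C.D := C.mem_D.2 ⟨C.mem_U_of_odd (C.mem_H.2 ha) ho, hb⟩

end Ctx

/-- The order formula: `|G : C(a)| = m² q (2e + η)` with `q = 4e + η` and `m e = |U : D|`. -/
structure Order (C : Ctx G) where
  q : ℕ
  e : ℕ
  m : ℕ
  η : ℤ
  hη : η = 1 ∨ η = -1
  hq : (q : ℤ) = 4 * (e : ℤ) + η
  hme : m * e = C.D.relIndex C.U
  hindex : (C.H.index : ℤ) = (m : ℤ) ^ 2 * (q : ℤ) * (2 * (e : ℤ) + η)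

end CfsgLib.GW.CaseI
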